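import Cfsg.Agent.Omega.NOThreeL.RRed.BFr.Noff
import Cfsg.Agent.Omega.NOThreeL.RRed.BFr.NlLev
import Cfsg.Agent.Omega.NOThreeL.RRed.BFr.NlNeg
import Cfsg.Agent.Omega.NOThreeL.RRed.Base
import Cfsg.Agent.Omega.OM.Lev.UniPlus
import Cfsg.Agent.Omega.OM.Var.GIZero
import Cfsg.Agent.Omega.FF.GlobEnd

/-!
# NO-3L, box R: `V* = ⟨V_P : P ∈ P*(S)⟩` over the frame over `B`, `q = 2`

`Fx S K B V ZJ M L W Z C` : the part of the frames `Fr` (stage `-1`), `FrL` (stage `n`) which is needed, with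
`L i ≤ M ≤ N_G(V)`, `S ≤ M`.

* `perm`, `exists_supp`, `comm_of_supp` : supports, for `g ∈ N_M(B)`;
* `blkY` : an FF-block `(L', V')` over `B` in `M` which moves `Ω₁Z(S)` has `V' = W j`;
* `exists_Y` : for all `i` some `Y ∈ P*(S)` has `W i ≤ V_Y`;
* `lnV`, `lineV` : the ground frames `LnV`, `LineV` of THEOREM SW for `V = V*`;
* `nl_lev`, `nl_neg` : no 2-group `≠ 1` is normalised by `C_G(Z_J)` and all `L i`.
-/

set_option autoImplicit false
set_option linter.unusedSectionVars false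

namespace Cfsg.Agent.Omega.NOThreeL.RRed.BFr.VSup

open Subgroup Cfsg Cfsg.Agent.Omega.MinPar Cfsg.Agent.Omega.Frame Cfsg.Agent.Omega.FrameNOFF
open Cfsg.Agent.ZN.ChoiceBase Cfsg.Agent.ZN.ChoiceSit
open Cfsg.Agent.ZN (zc zl o2 zj bau jj)
open Cfsg.Agent.Omega.NO3S.Level (lev)
open Cfsg.Agent.Omega.OM (LevD.LB)
open Cfsg.Agent.Omega.OM.LevD (LB)
open Cfsg.Agent.Omega.OM.SwapL (ZL BL cj_mul_eq cj_inv_eq)
open Cfsg.Agent.Omega.OM.SwapV
open Cfsg.Agent.Omega.OM.SwapV.Lv (LnV)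
open Cfsg.Agent.Omega.OM.WeakCl (WC)
open Cfsg.Agent.Omega.OM.Uni (FB Fr)
open Cfsg.Agent.Omega.OM.Lev.Uni (FrL)
open Cfsg.Agent.Omega.OM.UniPlus (NB uni_two eq_of_card_two)
open Cfsg.Agent.Omega.NOThreeL.RTree (RB)
open Cfsg.Agent.Omega.NOThreeL.Merge (MZ)

universe u

variable {G : Type u} [Group G] [Finite G] {ι : Type} [Finite ι] {S : Sylow 2 G} {K B V ZJ M : Subgroup G}
  {L W Z C : ι → Subgroup G}

/-- The part of the frames which is used. -/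
structure Fx (S : Sylow 2 G) (K B V ZJ M : Subgroup G) (L W Z C : ι → Subgroup G) : Prop where
  SM : (S : Subgroup G) ≤ M
  MV : M ≤ normalizer (V : Set G)
  LM : ∀ i, L i ≤ M
  lb : LB S K B ZJ
  wc : WC B
  zcB : zc B = ZJ
  zcS : zc (S : Subgroup G) ≤ ZJ
  Vc : ∀ x ∈ V, ∀ y ∈ V, x * y = y * x
  blk : ∀ i, FB B (L i) (W i) (Z i) 2
  cardZ : ∀ i, Nat.card (Z i) = 2
  ZJV : ZJ ≤ V
  Z_le : ∀ i, Z i ≤ ZJ
  WV : ∀ i, W i ≤ V
  CV : ∀ i, C i ≤ V
  dir : ∀ i, W i ⊓ C i = ⊥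
  C0 : ∀ x ∈ V, (∀ i, x ∈ C i) → x = 1
  WjC : ∀ i j, i ≠ j → W j ≤ C i
  split : ∀ i, ∀ z ∈ ZJ, ∃ w ∈ Z i, ∃ c ∈ C i, c ∈ ZJ ∧ z = w * c
  LC : ∀ i, ∀ l ∈ L i, ∀ z ∈ ZJ, z ∈ C i → l * z = z * l
  uni : ∀ L' V' Z' q', FB B L' V' Z' q' → V' ≤ V →
    ∃ i, Z' = Z i ∧ NB B L' V' (Z i) 2 ∧ V' ≤ W i ⊔ ZJ

namespace Fx

variable (h : Fx S K B V ZJ M L W Z C)
include h

theorem nb (i : ι) : NB B (L i) (W i) (Z i) 2 := ⟨h.blk i, h.cardZ i⟩

theorem Z_W (i : ι) : Z i ≤ W i := (h.blk i).ZV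

theorem cB {b z : G} (hb : b ∈ B) (hz : z ∈ ZJ) : b * z = z * b :=
  (mem_centralizer_iff.1 (h.lb.Bc hb) z hz).symm

theorem ZJ_cj {g z : G} (hg : g ∈ normalizer (B : Set G)) (hz : z ∈ ZJ) : g * z * g⁻¹ ∈ ZJ := by
  have h3 := cj_eq_of_mem_normalizer (h.lb.norm_B_le hg)
  rw [← h3]
  exact ⟨z, hz, rfl⟩

theorem mem_C_iff {i : ι} {z : G} (hz : z ∈ ZJ) : z ∈ C i ↔ ∀ l ∈ L i, l * z = z * l := by
  constructor
  · exact fun hc l hl => h.LC i l hl z hz hc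
  · intro hL
    obtain ⟨w, hw, c, hc, hcJ, e⟩ := h.split i z hz
    have h1 : w = 1 := by
      refine (h.nb i).cent hw fun l hl => ?_
      have h2 := hL l hl
      have h3 := h.LC i l hl c hcJ hc
      have e1 : w = z * c⁻¹ := by rw [e]; group
      have c1 : Commute l z := h2
      have c2 : Commute l c := h3
      rw [e1]
      exact (c1.mul_right c2.inv_right).eq
    rw [e, h1, one_mul]
    exact hc

theorem perm {g : G} (hg : g ∈ normalizer (B : Set G)) (hgM : g ∈ M) (i : ι) :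
    ∃ j, cj g (Z i) = Z j ∧ cj g (W i) = W j ∧ ∀ z ∈ ZJ, (g * z * g⁻¹ ∈ C j ↔ z ∈ C i) := by
  have hN := (h.nb i).conj g
  rw [cj_eq_of_mem_normalizer hg] at hN
  have hWV : cj g (W i) ≤ V := by
    have := cj_mono g (h.WV i)
    rwa [cj_eq_of_mem_normalizer (h.MV hgM)] at this
  obtain ⟨j, hZ, -, hW⟩ := h.uni _ _ _ _ hN.toFB hWV
  rw [hZ] at hN
  rw [← h.zcB] at hW
  obtain ⟨h1, h2, -⟩ := uni_two h.wc h.lb.Bp (h.nb j) hN hW
  obtain ⟨-, h3, -⟩ := uni_two h.wc h.lb.Bp hN (h.nb j) (h1.ge.trans le_sup_left)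
  refine ⟨j, hZ, h1, fun z hz => ?_⟩
  have hz' : g * z * g⁻¹ ∈ ZJ := h.ZJ_cj hg hz
  have hzc : g * z * g⁻¹ ∈ zc B := by rw [h.zcB]; exact hz'
  rw [h.mem_C_iff hz', h.mem_C_iff hz]
  constructor
  · intro h4 l hl
    have h5 := h2 _ hzc h4 (g * l * g⁻¹) ⟨l, hl, rfl⟩
    have h6 := congrArg (fun t => g⁻¹ * t * g) h5
    simpa [mul_assoc] using h6
  · intro h4
    refine h3 _ hzc fun l hl => ?_
    have h5 := h4 _ (mem_cj.1 hl)
    have h6 := congrArg (fun t => g * t * g⁻¹) h5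
    simpa [mul_assoc] using h6

theorem Z_ne (i : ι) : ∃ z ∈ Z i, z ≠ 1 := by
  have h1 : 1 < Nat.card (Z i) := by rw [h.cardZ i]; norm_num
  have : Nontrivial (Z i) := Finite.one_lt_card_iff_nontrivial.1 h1
  obtain ⟨z, hz⟩ := exists_ne (1 : Z i)
  exact ⟨z, z.2, fun h => hz (Subtype.ext h)⟩

theorem not_mem_C {i : ι} {z : G} (hz : z ∈ Z i) (h1 : z ≠ 1) : z ∉ C i := by
  intro hc
  have h2 : z ∈ W i ⊓ C i := mem_inf.2 ⟨h.Z_W i hz, hc⟩
  rw [h.dir i, mem_bot] at h2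
  exact h1 h2

theorem Z_C {i j : ι} (hij : i ≠ j) : Z j ≤ C i := (h.Z_W j).trans (h.WjC i j hij)

theorem Z_inj {i j : ι} (e : Z i = Z j) : i = j := by
  by_contra hne
  obtain ⟨z, hz, hz1⟩ := h.Z_ne i
  exact h.not_mem_C hz hz1 (h.Z_C hne (e ▸ hz))

theorem Z_eq {i : ι} {x y : G} (hx : x ∈ Z i) (hy : y ∈ Z i) (hx1 : x ≠ 1)
    (hy1 : y ≠ 1) : x = y := eq_of_card_two (h.cardZ i) hx hy hx1 hy1

theorem eq_of_supp {x y : G} (hx : x ∈ ZJ) (hy : y ∈ ZJ) (hs : ∀ i, x ∈ C i ↔ y ∈ C i) : x = y := by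
  have hxV := h.ZJV hx
  have hyV := h.ZJV hy
  have h1 : x * y⁻¹ = 1 := by
    refine h.C0 _ (mul_mem hxV (inv_mem hyV)) fun i => ?_
    by_cases hxi : x ∈ C i
    · exact mul_mem hxi (inv_mem ((hs i).1 hxi))
    have hyi : y ∉ C i := fun hc => hxi ((hs i).2 hc)
    obtain ⟨w, hw, c, hc, -, e⟩ := h.split i x hx
    obtain ⟨w', hw', c', hc', -, e'⟩ := h.split i y hy
    have hw1 : w ≠ 1 := by
      rintro rfl
      exact hxi (by rw [e, one_mul]; exact hc)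
    have hw1' : w' ≠ 1 := by
      rintro rfl
      exact hyi (by rw [e', one_mul]; exact hc')
    have h2 := h.Z_eq hw hw' hw1 hw1'
    have h3 : w * c = c * w := h.Vc w (h.WV i (h.Z_W i hw)) c (h.CV i hc)
    have h4 : w * c' = c' * w := h.Vc w (h.WV i (h.Z_W i hw)) c' (h.CV i hc')
    have e1 : x * y⁻¹ = c * c'⁻¹ := by
      rw [e, e', ← h2, h3, h4]; group
    rw [e1]
    exact mul_mem hc (inv_mem hc')
  exact mul_inv_eq_one.1 h1

theorem exists_supp (s : Set ι) : ∃ x ∈ ZJ, ∀ i, (x ∈ C i ↔ i ∉ s) := by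
  classical
  have : Fintype ι := Fintype.ofFinite ι
  suffices H : ∀ t : Finset ι, ∃ x ∈ ZJ, ∀ i, (x ∈ C i ↔ i ∉ t) by
    obtain ⟨x, hx, hs⟩ := H s.toFinset
    exact ⟨x, hx, fun i => by rw [hs i, Set.mem_toFinset]⟩
  intro t
  induction t using Finset.induction_on with
  | empty => exact ⟨1, one_mem _, fun i => by simp [one_mem]⟩
  | insert j t hj ih =>
    obtain ⟨x, hx, hs⟩ := ih
    obtain ⟨z, hz, hz1⟩ := h.Z_ne j
    refine ⟨x * z, mul_mem hx (h.Z_le j hz), fun i => ?_⟩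
    by_cases hij : i = j
    · subst hij
      have h1 : x ∈ C i := (hs i).2 hj
      constructor
      · intro h2
        exact absurd ((Subgroup.mul_mem_cancel_left _ h1).1 h2) (h.not_mem_C hz hz1)
      · intro h2
        exact absurd (Finset.mem_insert_self i t) h2
    · have h1 : z ∈ C i := h.Z_C hij hz
      rw [Subgroup.mul_mem_cancel_right _ h1, hs i, Finset.mem_insert, not_or]
      exact ⟨fun h2 => ⟨hij, h2⟩, fun h2 => h2.2⟩

theorem supp_cj {g : G} (hg : g ∈ normalizer (B : Set G)) (hgM : g ∈ M) {i j : ι}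
    (e : cj g (Z i) = Z j) {z : G} (hz : z ∈ ZJ) : g * z * g⁻¹ ∈ C j ↔ z ∈ C i := by
  obtain ⟨k, h1, -, h2⟩ := h.perm hg hgM i
  have h3 : j = k := h.Z_inj (e.symm.trans h1)
  rw [h3]
  exact h2 z hz

theorem W_cj {g : G} (hg : g ∈ normalizer (B : Set G)) (hgM : g ∈ M) {i j : ι}
    (e : cj g (Z i) = Z j) : cj g (W i) = W j := by
  obtain ⟨k, h1, h2, -⟩ := h.perm hg hgM i
  have h3 : j = k := h.Z_inj (e.symm.trans h1)
  rw [h3]
  exact h2

theorem comm_of_supp {g : G} (hg : g ∈ normalizer (B : Set G)) (hgM : g ∈ M) {z : G}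
    (hz : z ∈ ZJ) (hs : ∀ i j, cj g (Z i) = Z j → (z ∈ C i ↔ z ∈ C j)) : g * z = z * g := by
  have h1 : g * z * g⁻¹ = z := by
    refine h.eq_of_supp (h.ZJ_cj hg hz) hz fun j => ?_
    obtain ⟨i, hi, -, -⟩ := h.perm (inv_mem hg) (inv_mem hgM) j
    have e : cj g (Z i) = Z j := by
      have := cj_inv_eq hi
      rwa [inv_inv] at this
    rw [h.supp_cj hg hgM e hz]
    exact hs i j e
  exact mul_inv_eq_iff_eq_mul.1 h1

theorem SB : (S : Subgroup G) ≤ normalizer (B : Set G) := h.lb.two_le S.isPGroup' h.lb.BS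

/-- an element of `Z_J` with `S`-invariant support is in `Ω₁Z(S)` -/
theorem mem_zcS {z : G} (hz : z ∈ ZJ)
    (hs : ∀ s ∈ (S : Subgroup G), ∀ i j, cj s (Z i) = Z j → (z ∈ C i ↔ z ∈ C j)) : z ∈ zc (S : Subgroup G) :=
  mem_zc.2 ⟨h.lb.BS (h.lb.ZB hz), h.lb.sq z hz, fun s hs' => h.comm_of_supp (h.SB hs') (h.SM hs') hz (hs s hs')⟩

/-- an FF-block over `B` in `M` which moves `Ω₁Z(S)` has module some `W j` -/
theorem blkY {L' V' Z' : Subgroup G} {q' : ℕ} (h' : FB B L' V' Z' q')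
    (hirr : ∀ U : Subgroup G, U ≤ V' → L' ≤ normalizer (U : Set G) → U ≤ centralizer (L' : Set G) ∨ V' ≤ U)
    (hLM : L' ≤ M) (hmv : ¬ L' ≤ centralizer (zc (S : Subgroup G) : Set G)) :
    ∃ j, NB B L' (W j) (Z j) 2 ∧ ∀ z ∈ ZJ, z ∈ C j → ∀ l ∈ L', l * z = z * l := by
  have hUV : ∀ l ∈ L', ∀ u ∈ V' ⊓ V, l * u * l⁻¹ ∈ V' ⊓ V := fun l hl u hu =>
    ⟨h'.nV l hl u hu.1, (mem_normalizer_iff.1 (h.MV (hLM hl)) u).1 hu.2⟩
  have hN : L' ≤ normalizer ((V' ⊓ V : Subgroup G) : Set G) := by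
    intro l hl
    rw [mem_normalizer_iff]
    refine fun u => ⟨fun hu => hUV l hl u hu, fun hu => ?_⟩
    have := hUV l⁻¹ (inv_mem hl) _ hu
    rwa [show l⁻¹ * (l * u * l⁻¹) * l⁻¹⁻¹ = u by group] at this
  rcases hirr _ inf_le_left hN with hU | hU
  · exfalso
    apply hmv
    rw [← le_centralizer_iff]
    intro z hz
    rw [mem_centralizer_iff]
    have hzJ := h.zcS hz
    have key : L' ≤ centralizer ({z} : Set G) := by
      refine h'.gen.trans (iSup_le fun x => ?_)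
      rintro _ ⟨b, hb, rfl⟩
      rw [mem_centralizer_singleton_iff]
      change (x : G) * b * (x : G)⁻¹ * z = z * ((x : G) * b * (x : G)⁻¹)
      have hu : (x : G)⁻¹ * z * (x : G) * z⁻¹ ∈ V' ⊓ V := by
        refine mem_inf.2 ⟨?_, ?_⟩
        · have := h'.act (x : G)⁻¹ (inv_mem x.2) z (by rw [h.zcB]; exact hzJ)
          rwa [inv_inv] at this
        · refine mul_mem ?_ (inv_mem (h.ZJV hzJ))
          have := (mem_normalizer_iff.1 (h.MV (hLM (inv_mem x.2))) z).1 (h.ZJV hzJ)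
          rwa [inv_inv] at this
      have h1 : b * ((x : G)⁻¹ * z * (x : G) * z⁻¹) = ((x : G)⁻¹ * z * (x : G) * z⁻¹) * b :=
        mem_centralizer_iff.1 (hU hu) b (h'.BL hb)
      have h2 : b * z = z * b := h.cB hb hzJ
      have h3 : b * ((x : G)⁻¹ * z * (x : G)) = ((x : G)⁻¹ * z * (x : G)) * b := by
        have e : (x : G)⁻¹ * z * (x : G) = ((x : G)⁻¹ * z * (x : G) * z⁻¹) * z := by group
        rw [e, ← mul_assoc, h1, mul_assoc, h2]; group
      have h4 := congrArg (fun t => (x : G) * t * (x : G)⁻¹) h3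
      have e1 : (x : G) * (b * ((x : G)⁻¹ * z * (x : G))) * (x : G)⁻¹ = (x : G) * b * (x : G)⁻¹ * z := by group
      have e2 : (x : G) * (((x : G)⁻¹ * z * (x : G)) * b) * (x : G)⁻¹ = z * ((x : G) * b * (x : G)⁻¹) := by group
      exact e1.symm.trans (h4.trans e2)
    exact fun l hl => mem_centralizer_singleton_iff.1 (key hl)
  · obtain ⟨j, hZ, hNB, hle⟩ := h.uni _ _ _ _ h' (hU.trans inf_le_right)
    have hle' : V' ≤ W j ⊔ zc B := by rw [h.zcB]; exact hle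
    obtain ⟨h1, h2, -⟩ := uni_two h.wc h.lb.Bp (h.nb j) hNB hle'
    subst h1
    refine ⟨j, hNB, fun z hz hzC => h2 z (by rw [h.zcB]; exact hz) ((h.mem_C_iff hz).1 hzC)⟩

/-- Frattini inside `P` -/
theorem frattini {P : Subgroup G} (hSP : (S : Subgroup G) ≤ P) (hP : P ≤ normalizer (ZJ : Set G)) {p : G}
    (hp : p ∈ P) : ∃ d ∈ P ⊓ centralizer (ZJ : Set G), ∃ n ∈ normalizer (B : Set G), p = d * n := by
  have hB : Syl B (P ⊓ centralizer (ZJ : Set G)) :=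
    ⟨le_inf (h.lb.BS.trans hSP) h.lb.Bc, h.lb.Bp, fun Q hQ h2 hle => h.lb.syl.2.2 Q (hQ.trans inf_le_right) h2 hle⟩
  have h1 : cj p B ≤ P ⊓ centralizer (ZJ : Set G) := by
    have h2 := cj_mono p hB.1
    rwa [cj_inf, cj_eq_of_mem_normalizer (le_normalizer hp), cj_centralizer,
      cj_eq_of_mem_normalizer (hP hp)] at h2
  obtain ⟨T, hT, hle⟩ := exists_syl (isPGroup_cj p h.lb.Bp) h1
  obtain ⟨d, hd, rfl⟩ := syl_conj hB hT
  refine ⟨d, hd, d⁻¹ * p, ?_, by group⟩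
  have h3 : cj (d⁻¹ * p) B ≤ B := by
    have := cj_mono d⁻¹ hle
    rwa [cj_inv_cj, cj_cj] at this
  exact mem_normalizer_iff_cj.2 (Subgroup.eq_of_le_of_card_ge h3 (by rw [card_cj]))

theorem W_cases {j : ι} {x w : G} (hx : x ∈ W j) (hxZ : x ∉ Z j) (hw : w ∈ W j) :
    w ∈ Z j ∨ w * x⁻¹ ∈ Z j := by
  by_cases hwZ : w ∈ Z j
  · exact Or.inl hwZ
  right
  have h1 : ((Z j).subgroupOf (W j)).index = 2 := by
    have h2 := relIndex_mul_relIndex ⊥ (Z j) (W j) bot_le (h.Z_W j)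
    rw [relIndex_bot_left, relIndex_bot_left, (h.blk j).card, h.cardZ j] at h2
    have h3 : (Z j).relIndex (W j) = 2 := by omega
    exact h3
  have h2 : (⟨w, hw⟩ : W j) * ⟨x⁻¹, inv_mem hx⟩ ∈ (Z j).subgroupOf (W j) := by
    rw [Subgroup.mul_mem_iff_of_index_two h1]
    constructor
    · intro h3
      exact absurd (mem_subgroupOf.1 h3) hwZ
    · intro h3
      exact absurd (inv_mem_iff.1 (mem_subgroupOf.1 h3)) hxZ
  exact mem_subgroupOf.1 h2

/-- `W j ≤ V_Y` if `Y` contains a block `(L', W j)` and some `z ∈ Ω₁Z(S)` is not in `C j` -/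
theorem W_le_zl {L' Y : Subgroup G} {j : ι} (hN : NB B L' (W j) (Z j) 2)
    (hc : ∀ z ∈ ZJ, z ∈ C j → ∀ l ∈ L', l * z = z * l) (hSY : (S : Subgroup G) ≤ Y) (hLY : L' ≤ Y) {z : G}
    (hz : z ∈ zc (S : Subgroup G)) (hzC : z ∉ C j) : W j ≤ zl (S : Subgroup G) Y := by
  have hYN : Y ≤ normalizer (zl (S : Subgroup G) Y : Set G) := MinSimple.VModule.le_normalizer_zl _ _
  have hzY : z ∈ zl (S : Subgroup G) Y := MinSimple.VModule.zc_le_zl _ _ hz
  obtain ⟨w, hw, c, hcC, hcJ, e⟩ := h.split j z (h.zcS hz)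
  have hw1 : w ≠ 1 := by
    rintro rfl
    exact hzC (by rw [e, one_mul]; exact hcC)
  obtain ⟨l, hl, hlw⟩ : ∃ l ∈ L', l * w ≠ w * l := by
    by_contra hcon
    push Not at hcon
    exact hw1 (hN.cent hw hcon)
  have hu : l * w * l⁻¹ * w⁻¹ ∈ W j :=
    mul_mem (hN.nV l hl w (h.Z_W j hw)) (inv_mem (h.Z_W j hw))
  have hu' : l * w * l⁻¹ * w⁻¹ ∈ zl (S : Subgroup G) Y := by
    have h1 : l * w * l⁻¹ * w⁻¹ = l * z * l⁻¹ * z⁻¹ := by
      have h2 := hc c hcJ hcC l hl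
      have h3 : l * c * l⁻¹ = c := mul_inv_eq_iff_eq_mul.2 h2
      rw [e]
      calc l * w * l⁻¹ * w⁻¹ = l * w * l⁻¹ * c * c⁻¹ * w⁻¹ := by group
        _ = l * w * l⁻¹ * (l * c * l⁻¹) * c⁻¹ * w⁻¹ := by rw [h3]
        _ = _ := by group
    rw [h1]
    exact mul_mem ((mem_normalizer_iff.1 (hYN (hLY hl)) z).1 hzY) (inv_mem hzY)
  set u : G := l * w * l⁻¹ * w⁻¹ with hudef
  have huZ : u ∉ Z j := by
    intro huZ
    have hu1 : u ≠ 1 := by
      intro h1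
      exact hlw (mul_inv_eq_iff_eq_mul.1 (mul_inv_eq_one.1 h1))
    have h2 := h.Z_eq huZ hw hu1 hw1
    have h3 : w * w = 1 := by
      have := h.lb.sq w (h.Z_le j hw)
      rwa [pow_two] at this
    have h4 : l * w * l⁻¹ = 1 := by
      have h5 : l * w * l⁻¹ = u * w := by rw [hudef]; group
      rw [h5, h2, h3]
    apply hw1
    have h5 := congrArg (fun t => l⁻¹ * t * l) h4
    simpa [mul_assoc] using h5
  have hwY : w ∈ zl (S : Subgroup G) Y := by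
    obtain ⟨b, hb, v, hv, hbv⟩ := hN.ne
    have h1 : b * u ≠ u * b := fun e1 => hbv (hN.free b hb u hu huZ e1 v hv)
    have h2 := hN.com b hb u hu
    have h3 : b * u * b⁻¹ * u⁻¹ ≠ 1 := fun e1 => h1 (mul_inv_eq_iff_eq_mul.1 (mul_inv_eq_one.1 e1))
    rw [← h.Z_eq h2 hw h3 hw1]
    have hbY : b ∈ Y := hSY (h.lb.BS hb)
    exact mul_mem ((mem_normalizer_iff.1 (hYN hbY) u).1 hu') (inv_mem hu')
  have hZY : Z j ≤ zl (S : Subgroup G) Y := by
    intro x hx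
    by_cases hx1 : x = 1
    · rw [hx1]; exact one_mem _
    · rw [h.Z_eq hx hw hx1 hw1]; exact hwY
  intro x hx
  rcases h.W_cases hu huZ hx with h1 | h1
  · exact hZY h1
  · have h2 := mul_mem (hZY h1) hu'
    rwa [inv_mul_cancel_right] at h2

/-- The `S`-orbit of the index `i`. -/
def Ob (S : Subgroup G) (Z : ι → Subgroup G) (i : ι) : Set ι := {j | ∃ s ∈ S, cj s (Z i) = Z j}

omit h in
theorem self_mem_Ob (i : ι) : i ∈ Ob (S : Subgroup G) Z i := ⟨1, one_mem _, cj_one _⟩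

omit h in
theorem Ob_cj {i j k : ι} {s : G} (hs : s ∈ (S : Subgroup G)) (e : cj s (Z j) = Z k) :
    j ∈ Ob (S : Subgroup G) Z i ↔ k ∈ Ob (S : Subgroup G) Z i := by
  constructor
  · rintro ⟨t, ht, e'⟩
    exact ⟨s * t, mul_mem hs ht, cj_mul_eq e' e⟩
  · rintro ⟨t, ht, e'⟩
    exact ⟨s⁻¹ * t, mul_mem (inv_mem hs) ht, cj_mul_eq e' (cj_inv_eq e)⟩

omit h in
theorem Ob_symm {i j : ι} (hj : j ∈ Ob (S : Subgroup G) Z i) : i ∈ Ob (S : Subgroup G) Z j := by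
  obtain ⟨s, hs, e⟩ := hj
  exact ⟨s⁻¹, inv_mem hs, cj_inv_eq e⟩

/-- `z_O` -/
theorem exists_zO (i : ι) : ∃ z ∈ zc (S : Subgroup G), ∀ j, z ∈ C j ↔ j ∉ Ob (S : Subgroup G) Z i := by
  obtain ⟨z, hz, hs⟩ := h.exists_supp (Ob (S : Subgroup G) Z i)
  refine ⟨z, h.mem_zcS hz fun s hs' j k e => ?_, hs⟩
  rw [hs, hs, Ob_cj hs' e]

/-- **For all `i` some `Y ∈ P*(S)` has `W i ≤ V_Y`.** -/
theorem exists_Y (hM : IsLoc (S : Subgroup G) M)
    (hblk : ∀ Y : Subgroup G, IsParS (S : Subgroup G) Y → Y ≤ M → ¬ K ≤ o2 Y →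
      ∃ L' V' Z' : Subgroup G, ∃ q' : ℕ, FB B L' V' Z' q' ∧
        (∀ U : Subgroup G, U ≤ V' → L' ≤ normalizer (U : Set G) → U ≤ centralizer (L' : Set G) ∨ V' ≤ U) ∧
        L' ≤ Y ∧ Y ≤ (S : Subgroup G) ⊔ L') (i : ι) :
    ∃ Y : Subgroup G, IsParS (S : Subgroup G) Y ∧ W i ≤ zl (S : Subgroup G) Y := by
  obtain ⟨z, hz, hzs⟩ := h.exists_zO i
  have hzJ := h.zcS hz
  set H : Subgroup G := (S : Subgroup G) ⊔ L i with hH
  have hHM : H ≤ M := sup_le h.SM (h.LM i)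
  have hloc : IsLoc (S : Subgroup G) H := hM.of_le S le_sup_left hHM
  -- `H` centralises the elements of `Z` in `C i`
  have hcent : ∀ x ∈ zc (S : Subgroup G), x ∈ C i → ∀ g ∈ H, g * x = x * g := by
    intro x hx hxC
    have h1 : H ≤ centralizer ({x} : Set G) := by
      refine sup_le (fun s hs => ?_) fun l hl => ?_ <;> rw [mem_centralizer_singleton_iff]
      · exact (mem_zc.1 hx).2.2 s hs
      · exact h.LC i l hl x (h.zcS hx) hxC
    exact fun g hg => mem_centralizer_singleton_iff.1 (h1 hg)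
  -- `N_H(B)` fixes `z`
  have hfix : ∀ n ∈ H, n ∈ normalizer (B : Set G) → n * z = z * n := by
    have key : ∀ n ∈ H, n ∈ normalizer (B : Set G) → ∀ j k, cj n (Z j) = Z k →
        j ∉ Ob (S : Subgroup G) Z i → k ∉ Ob (S : Subgroup G) Z i := by
      intro n hn hnB j k e hj hk
      obtain ⟨z', hz', hs'⟩ := h.exists_zO j
      have hi : z' ∈ C i := (hs' i).2 fun hi => hj (Ob_symm hi)
      have h1 := hcent z' hz' hi n hn
      have h2 : n * z' * n⁻¹ = z' := by rw [h1]; group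
      have h3 := h.supp_cj hnB (hHM hn) e (h.zcS hz')
      rw [h2] at h3
      have h4 : z' ∈ C k := (hs' k).2 fun hk' => by
        obtain ⟨s, hs, e1⟩ := hk'
        exact hj ((Ob_cj hs e1).2 hk)
      exact (hs' j).1 (h3.1 h4) (self_mem_Ob j)
    intro n hn hnB
    refine h.comm_of_supp hnB (hHM hn) hzJ fun j k e => ?_
    rw [hzs j, hzs k]
    exact ⟨fun h1 => key n hn hnB j k e h1,
      fun h1 => key n⁻¹ (inv_mem hn) (inv_mem hnB) k j (cj_inv_eq e) h1⟩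
  -- some `Y`
  obtain ⟨Y, hY, hYH, hKY⟩ : ∃ Y : Subgroup G, IsParS (S : Subgroup G) Y ∧ Y ≤ H ∧ ¬ K ≤ o2 Y := by
    by_contra hcon
    push Not at hcon
    have h1 : H ≤ centralizer ({z} : Set G) := by
      refine hloc.le_of_forall S ?_ fun P hP hPH => ?_
      · rintro n ⟨hn, hnS⟩
        rw [mem_centralizer_singleton_iff]
        refine hfix n hn ?_
        have h2 : cj n B ≤ (S : Subgroup G) := by
          have := cj_mono n h.lb.BS
          rwa [cj_eq_of_mem_normalizer hnS] at this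
        exact mem_normalizer_iff_cj.2 (h.wc _ S.isPGroup' h.lb.BS n h2)
      · by_cases hPs : IsParS (S : Subgroup G) P
        · have h2 : P ≤ normalizer (ZJ : Set G) :=
            (le_normalizer_o2 P).trans (h.lb.nrm _ (isPGroup_o2 P) (hcon P hPs hPH))
          intro p hp
          rw [mem_centralizer_singleton_iff]
          obtain ⟨d, hd, n, hn, e⟩ := frattini h hP.le h2 hp
          have h3 : n ∈ P := by
            have : n = d⁻¹ * p := by rw [e]; group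
            rw [this]
            exact mul_mem (inv_mem hd.1) hp
          have c1 : Commute d z := (mem_centralizer_iff.1 hd.2 z hzJ).symm
          have c2 : Commute n z := hfix n (hPH h3) hn
          rw [e]
          exact (c1.mul_left c2).eq
        · exact (par_le_CZ S hP hPs).trans (centralizer_le (Set.singleton_subset_iff.2 hz))
    obtain ⟨w, hw, c, hcC, hcJ, e⟩ := h.split i z hzJ
    have hw1 : w ≠ 1 := by
      rintro rfl
      exact (hzs i).1 (by rw [e, one_mul]; exact hcC) (self_mem_Ob i)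
    refine hw1 ((h.nb i).cent hw fun l hl => ?_)
    have h2 : Commute l z := mem_centralizer_singleton_iff.1 (h1 ((le_sup_right : L i ≤ H) hl))
    have h3 : Commute l c := h.LC i l hl c hcJ hcC
    have e1 : w = z * c⁻¹ := by rw [e]; group
    rw [e1]
    exact (h2.mul_right h3.inv_right).eq
  obtain ⟨L', V', Z', q', hFB, hirr, hLY, hYL⟩ := hblk Y hY (hYH.trans hHM) hKY
  have hmv : ¬ L' ≤ centralizer (zc (S : Subgroup G) : Set G) := fun hle =>
    hY.not_zc ((hYL.trans (sup_le (MinSimple.VModule.le_centralizer_zc _) hle)).trans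
      (centralizer_le_normalizer _))
  obtain ⟨j, hNB, hcj⟩ := h.blkY hFB hirr (hLY.trans (hYH.trans hHM)) hmv
  obtain ⟨zj, hzj, hzjs⟩ := h.exists_zO j
  have hzjC : zj ∉ C j := fun hc => (hzjs j).1 hc (self_mem_Ob j)
  have hWj := h.W_le_zl hNB hcj hY.le hLY hzj hzjC
  -- `i ∈ O(j)`
  have hij : i ∈ Ob (S : Subgroup G) Z j := by
    by_contra hcon
    have h1 := hcent zj hzj ((hzjs i).2 hcon)
    obtain ⟨w, hw, c, hcC, hcJ, e⟩ := h.split j zj (h.zcS hzj)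
    have hw1 : w ≠ 1 := by
      rintro rfl
      exact hzjC (by rw [e, one_mul]; exact hcC)
    refine hw1 (hNB.cent hw fun l hl => ?_)
    have h2 : Commute l zj := h1 l (hYH (hLY hl))
    have h3 : Commute l c := hcj c hcJ hcC l hl
    have e1 : w = zj * c⁻¹ := by rw [e]; group
    rw [e1]
    exact (h2.mul_right h3.inv_right).eq
  obtain ⟨s, hs, e⟩ := hij
  refine ⟨Y, hY, ?_⟩
  rw [← h.W_cj (h.SB hs) (h.SM hs) e]
  have h2 := cj_mono s hWj
  rwa [cj_eq_of_mem_normalizer (MinSimple.VModule.le_normalizer_zl _ _ (hY.le hs))] at h2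

end Fx

/-- **`V* = ⟨V_P : P ∈ P*(S)⟩`** -/
theorem wd_eq (hV : Wd (S : Subgroup G) ≤ ⨆ i, W i)
    (hY : ∀ i, ∃ Y : Subgroup G, IsParS (S : Subgroup G) Y ∧ W i ≤ zl (S : Subgroup G) Y) :
    Wd (S : Subgroup G) = ⨆ P ∈ {P : Subgroup G | IsParS (S : Subgroup G) P}, zl (S : Subgroup G) P := by
  apply le_antisymm
  · refine hV.trans (iSup_le fun i => ?_)
    obtain ⟨Y, h1, h2⟩ := hY i
    exact h2.trans (le_iSup₂ (f := fun P (_ : P ∈ {P : Subgroup G | IsParS (S : Subgroup G) P}) =>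
      zl (S : Subgroup G) P) Y h1)
  · exact iSup₂_le fun P hP => zl_le_Wd hP

section lev

variable {n : ℕ} {Q : Subgroup G} {A : ι → Subgroup G}

theorem of_frL (R : RB S)
    (fr : FrL (BL (S : Subgroup G) n) Q (Wd (S : Subgroup G)) (zc (lev (S : Subgroup G) n)) (ZL (S : Subgroup G) n)
      L W Z C A 2) (hL : ∀ i, L i ≤ MZ (S : Subgroup G)) :
    Fx S (lev (S : Subgroup G) (n + 1)) (BL (S : Subgroup G) n) (Wd (S : Subgroup G)) (ZL (S : Subgroup G) n)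
      (MZ (S : Subgroup G)) L W Z C where
  SM := SM R
  MV := le_norm_Wd
  LM := hL
  lb := OM.SwapL.lb S n
  wc := OM.SwapL.wc S n
  zcB := fr.zcB
  zcS := (NO3S.Level.lev_isLev (S : Subgroup G) (n + 1)).zc_le
  Vc := wcomm R
  blk := fr.blk
  cardZ := fr.cardZ
  ZJV := fr.ZJV
  Z_le := fr.Z_le
  WV := fr.WV
  CV := fr.CV
  dir := fr.dir
  C0 := fr.C0
  WjC := fr.WjC
  split := fun i z hz => fr.split_ZJ i hz
  LC := fr.LC
  uni := fun L' V' Z' q' hFB hle => by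
    obtain ⟨hq, i, hc, hle'⟩ := fr.uni hFB.toMd (hle.trans fr.VX)
    subst hq
    obtain ⟨hZ, hN⟩ := OM.Lev.UniPlus.nb_of fr hFB hc
    exact ⟨i, hZ, hN, hle'⟩

/-- `lev S n ≤ O₂(P)` for all `P ∈ P*(S)` -/
theorem hall (hX : Wd (S : Subgroup G) ≤ zc (lev (S : Subgroup G) n)) :
    ∀ P : Subgroup G, IsParS (S : Subgroup G) P → lev (S : Subgroup G) n ≤ o2 P := by
  intro P hP
  refine le_trans ?_ (OM.BlkGen.inf_cent (T := (S : Subgroup G)) (H := P)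
    ⟨hP.le, S.isPGroup', fun Q _ hQ hle => S.is_maximal' hQ hle⟩ hP.toIsMinPar
    fun hc => hP.not_zc (hc.trans (centralizer_le_normalizer _)))
  refine le_inf (NO3S.Level.lev_le _ _) ?_
  rw [← le_centralizer_iff]
  intro v hv
  rw [mem_centralizer_iff]
  intro a ha
  exact (mem_zc.1 (hX (zl_le_Wd hP hv))).2.2 a ha

theorem hblk_lev (R : RB S) (hX : Wd (S : Subgroup G) ≤ zc (lev (S : Subgroup G) n)) :
    ∀ Y : Subgroup G, IsParS (S : Subgroup G) Y → ¬ lev (S : Subgroup G) (n + 1) ≤ o2 Y →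
      ∃ L' V' Z' : Subgroup G, ∃ q' : ℕ, FB (BL (S : Subgroup G) n) L' V' Z' q' ∧
        (∀ U : Subgroup G, U ≤ V' → L' ≤ normalizer (U : Set G) → U ≤ centralizer (L' : Set G) ∨ V' ≤ U) ∧
        L' ≤ Y ∧ Y ≤ (S : Subgroup G) ⊔ L' := by
  intro Y hY hn
  obtain ⟨L', V', h1, ⟨⟨Z', q', h2⟩, h3⟩, h4⟩ := OM.LevB.exists_fblk S (T := (S : Subgroup G)) (H := Y) (n := n)
    ⟨hY.le, S.isPGroup', fun Q _ hQ hle => S.is_maximal' hQ hle⟩ (OM.SwapL.lb S n).BS hY.toIsMinPar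
    (hY.isLoc.char2 S R.ctx.char2) (hall hX Y hY) hn fun hc => hY.not_zc (hc.trans (centralizer_le_normalizer _))
  exact ⟨L', V', Z', q', h2, h3.irr, h1, h4⟩

/-- **The ground frame of THEOREM SW at stage `n`, `V = V*`.** -/
theorem lnV (R : RB S)
    (fr : FrL (BL (S : Subgroup G) n) Q (Wd (S : Subgroup G)) (zc (lev (S : Subgroup G) n)) (ZL (S : Subgroup G) n)
      L W Z C A 2) (hL : ∀ i, L i ≤ MZ (S : Subgroup G)) : LnV S (Wd (S : Subgroup G)) Q n L W Z C A := by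
  have hFx := of_frL R fr hL
  refine Noff.of_data (PP := {P : Subgroup G | IsParS (S : Subgroup G) P}) R.ctx.char2 R.data.toLow
    (fun P hP => hP) (wd_eq fr.V_eq.le fun i => ?_) fr ?_
  · exact hFx.exists_Y (Merge.isLoc_MZ R.ctx R.full R.data.noff) (fun Y hY _ hK => hblk_lev R fr.VX Y hY hK) i
  · intro x hx
    have h1 : x ∈ BL (S : Subgroup G) n :=
      ((NO3S.Level.lev_le_succ (S : Subgroup G) n).trans (OM.SwapL.lb S n).KB) hx
    exact (fr.mem_Q x h1).2 fun v hv => (mem_zc.1 (fr.VX hv)).2.2 x hx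

/-- **No 2-group `≠ 1` is normalised by `C_G(Z_J)` and all `L i`, stage `n`.** -/
theorem nl_lev (R : RB S)
    (fr : FrL (BL (S : Subgroup G) n) Q (Wd (S : Subgroup G)) (zc (lev (S : Subgroup G) n)) (ZL (S : Subgroup G) n)
      L W Z C A 2) (hL : ∀ i, L i ≤ MZ (S : Subgroup G)) {U : Subgroup G} (hU : IsPGroup 2 U)
    (hD : centralizer (ZL (S : Subgroup G) n : Set G) ≤ normalizer (U : Set G))
    (hLU : ∀ i, L i ≤ normalizer (U : Set G)) : U = ⊥ :=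
  NlLev.nl R (hall fr.VX) (lnV R fr hL) hU hD hLU

end lev

section neg

variable {Q : Subgroup G} {A : ι → Subgroup G} {m : ℕ}

theorem of_fr (R : RB S)
    (fr : Fr (bau (S : Subgroup G)) Q (Wd (S : Subgroup G)) (zj (S : Subgroup G)) L W Z C A 2 m)
    (hL : ∀ i, L i ≤ MZ (S : Subgroup G)) :
    Fx S (jj (S : Subgroup G)) (bau (S : Subgroup G)) (Wd (S : Subgroup G)) (zj (S : Subgroup G))
      (MZ (S : Subgroup G)) L W Z C where
  SM := SM R
  MV := le_norm_Wd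
  LM := hL
  lb := LB.neg S
  wc := OM.UniPlus.wc_bau S
  zcB := fr.zcB
  zcS := zc_le_zj _
  Vc := wcomm R
  blk := fr.blk
  cardZ := fr.cardZ
  ZJV := fr.ZJV
  Z_le := fr.Z_le
  WV := fr.WV
  CV := fr.CV
  dir := fr.dir
  C0 := fr.C0
  WjC := fr.WjC
  split := fun i z hz => fr.split_ZJ i hz
  LC := fr.LC
  uni := fun L' V' Z' q' hFB hle => by
    obtain ⟨hq, i, hc, hle'⟩ := fr.uni hFB.toMd fun w hw v hv => wcomm R w (hle hw) v hv
    subst hq
    obtain ⟨hZ, hN⟩ := OM.UniPlus.nb_of fr hFB hc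
    exact ⟨i, hZ, hN, hle'⟩

theorem hblk_neg (R : RB S) :
    ∀ Y : Subgroup G, IsParS (S : Subgroup G) Y → ¬ jj (S : Subgroup G) ≤ o2 Y →
      ∃ L' V' Z' : Subgroup G, ∃ q' : ℕ, FB (bau (S : Subgroup G)) L' V' Z' q' ∧
        (∀ U : Subgroup G, U ≤ V' → L' ≤ normalizer (U : Set G) → U ≤ centralizer (L' : Set G) ∨ V' ≤ U) ∧
        L' ≤ Y ∧ Y ≤ (S : Subgroup G) ⊔ L' := by
  intro Y hY hn
  obtain ⟨L', V', ⟨⟨Z', q', h2⟩, h3⟩, h1, h4⟩ := OM.Var.exists_blk (T := (S : Subgroup G)) (H := Y)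
    FF.Glob.ffthm S ⟨hY.le, S.isPGroup', fun Q _ hQ hle => S.is_maximal' hQ hle⟩ (bau_le _) hY.toIsMinPar
    (hY.isLoc.char2 S R.ctx.char2) hn fun hc => hY.not_zc (hc.trans (centralizer_le_normalizer _))
  exact ⟨L', V', Z', q', h2, h3.irr, h1, h4.trans (sup_le le_sup_right le_sup_left)⟩

/-- **The ground frame of THEOREM SW at stage `-1`, `V = V*`.** -/
theorem lineV (R : RB S)
    (fr : Fr (bau (S : Subgroup G)) Q (Wd (S : Subgroup G)) (zj (S : Subgroup G)) L W Z C A 2 (mm (S : Subgroup G)))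
    (hL : ∀ i, L i ≤ MZ (S : Subgroup G)) (two : ∀ i : ι, ∃ j, j ≠ i) :
    NegPair.LineV S Q (Wd (S : Subgroup G)) L W Z C A 2 := by
  have hFx := of_fr R fr hL
  refine Noff.neg_of_data (PP := {P : Subgroup G | IsParS (S : Subgroup G) P}) R.ctx.char2
    (R.ctx.sylow_ne_bot S) R.data.toLow (fun P hP => hP) (wd_eq fr.V_eq.le fun i => ?_) fr two
  exact hFx.exists_Y (Merge.isLoc_MZ R.ctx R.full R.data.noff) (fun Y hY _ hK => hblk_neg R Y hY hK) i

/-- **No 2-group `≠ 1` is normalised by `C_G(Z_J)` and all `L i`, stage `-1`, at least three blocks.** -/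
theorem nl_neg (R : RB S)
    (fr : Fr (bau (S : Subgroup G)) Q (Wd (S : Subgroup G)) (zj (S : Subgroup G)) L W Z C A 2 (mm (S : Subgroup G)))
    (hL : ∀ i, L i ≤ MZ (S : Subgroup G)) (h3 : ∀ i j : ι, ∃ l, l ≠ i ∧ l ≠ j) {U : Subgroup G} (hU : IsPGroup 2 U)
    (hD : centralizer (zj (S : Subgroup G) : Set G) ≤ normalizer (U : Set G))
    (hLU : ∀ i, L i ≤ normalizer (U : Set G)) : U = ⊥ :=
  NlNeg.nl R (lineV R fr hL fun i => by
    obtain ⟨l, hl, -⟩ := h3 i i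
    exact ⟨l, hl⟩) h3 hU hD hLU

end neg

end Cfsg.Agent.Omega.NOThreeL.RRed.BFr.VSup
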