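import Cfsg.Agent.Omega.NOThreeL.RRed.BFr.Stage
import Cfsg.Agent.Omega.NOThreeL.RRed.BFr.OfFull
import Cfsg.Agent.Omega.NOThreeL.RRed.BFr.VSup
import Cfsg.Agent.Omega.NOThreeL.RRed.HypJOf
import Cfsg.Agent.Omega.EDel.Bx.OfLine

/-!
# NO-3L, box R, `FourJ`: the frame over `B` from the blocks

`B : RB S`, `hB : Bks S N E ⊥ Om phi`.

* `bd_of` : the data `Bd`; `mvb_of` : a group which centralises no block moves a letter of every block;
* `card_le_idx` : the number of pairs; `three_of`;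
* `exists_fr` : stage `-1`; `exists_frL` : stage `n`;
* **`false_neg`** : `J(S)` moves all blocks, at least three pairs: contradiction (THEOREM U).
-/

set_option autoImplicit false
set_option linter.unusedSectionVars false

namespace Cfsg.Agent.Omega.NOThreeL.RRed.BFr

open Subgroup Cfsg Cfsg.Agent.ZN.ChoiceBase Cfsg.Agent.Omega.MinPar Cfsg.Agent.Omega.Frame
open Cfsg.Agent.ZN (jj zj bau zc zl o2)
open Cfsg.Agent.Omega.NOThreeL.Merge (MZ le_MZ S_le_MZ isLoc_MZ zl_MZ_comm zl_MZ_isPGroup)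
open Cfsg.Agent.Omega.NOThreeL.RTree (RB)
open Cfsg.Agent.Omega.NO3S.Level (lev Lev lev_isLev nxt BO)
open Cfsg.Agent.Omega.NO3S.OneLine (bo)
open Cfsg.Agent.Omega.OM.SwapL (BL ZL)
open Cfsg.Agent.Omega.OM.Lev.Uni (FrL)
open Cfsg.Agent.Omega.NOThreeL.RRed (Wd zl_le_Wd)
open Cfsg.Agent.Omega.NOThreeL.RRed.FourTree (Bks)

universe u

variable {G : Type u} [Group G]

section count

variable {S : Sylow 2 G} {M V : Subgroup G} {Pt I : Type} [Fintype Pt] [DecidableEq Pt] [DecidableEq I] [Fintype I]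
variable {D : Pts M V Pt I} {X L J : Subgroup G} {AA : Set (Subgroup G)}

/-- the number of the pairs -/
theorem card_le_idx [Finite G] (h : Lv S D X L J AA) :
    Fintype.card Pt ≤ 2 * Nat.card (Idx D AA) + Fintype.card I := by
  classical
  have hc : ∀ x : Pt, x ≠ h.oo x → ∃ i : Idx D AA, Mem i x := fun x hx => (h.cover x).resolve_left hx
  let f : Pt → (Bool × Idx D AA) ⊕ I := fun x =>
    if hx : x = h.oo x then Sum.inr (D.blk x) else Sum.inl (decide (x = xx (hc x hx).choose), (hc x hx).choose)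
  have hf : Function.Injective f := by
    intro x y hxy
    by_cases hx : x = h.oo x
    · by_cases hy : y = h.oo y
      · simp only [f, dif_pos hx, dif_pos hy, Sum.inr.injEq] at hxy
        rw [hx, hy, h.oo_congr hxy]
      · simp only [f, dif_pos hx, dif_neg hy, reduceCtorEq] at hxy
    · by_cases hy : y = h.oo y
      · simp only [f, dif_neg hx, dif_pos hy, reduceCtorEq] at hxy
      · simp only [f, dif_neg hx, dif_neg hy, Sum.inl.injEq, Prod.mk.injEq] at hxy
        obtain ⟨h1, h2⟩ := hxy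
        have hmx := (hc x hx).choose_spec
        have hmy := (hc y hy).choose_spec
        rw [← h2] at hmy h1
        set i := (hc x hx).choose
        by_cases hxi : x = xx i
        · have h3 : y = xx i := by
            have : decide (y = xx i) = true := by rw [← h1]; exact decide_eq_true hxi
            exact of_decide_eq_true this
          rw [hxi, h3]
        · have h3 : y ≠ xx i := by
            have : decide (y = xx i) = false := by rw [← h1]; exact decide_eq_false hxi
            exact of_decide_eq_false this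
          rw [hmx.resolve_left hxi, hmy.resolve_left h3]
  have h1 := Nat.card_le_card_of_injective f hf
  rw [Nat.card_eq_fintype_card, Nat.card_sum, Nat.card_prod, Nat.card_eq_fintype_card (α := Bool), Fintype.card_bool,
    Nat.card_eq_fintype_card (α := I)] at h1
  exact h1

theorem three_of {ι : Type} [Finite ι] (h : 3 ≤ Nat.card ι) (i j : ι) : ∃ l, l ≠ i ∧ l ≠ j := by
  classical
  cases nonempty_fintype ι
  by_contra hcon
  push Not at hcon
  have h1 : (Finset.univ : Finset ι) ⊆ {i, j} := fun l _ => by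
    rw [Finset.mem_insert, Finset.mem_singleton]
    by_cases hl : l = i
    · exact Or.inl hl
    · exact Or.inr (hcon l hl)
  have h2 := Finset.card_le_card h1
  rw [Finset.card_univ, ← Nat.card_eq_fintype_card] at h2
  have h3 : ({i, j} : Finset ι).card ≤ 2 := Finset.card_le_two
  omega

end count

section box

variable [Finite G] {S : Sylow 2 G} {I : Type u} [Fintype I] [DecidableEq I] {N E : I → Subgroup G} {Om : I → Type u}
  [∀ i, Fintype (Om i)] [∀ i, DecidableEq (Om i)] {phi : ∀ i, Finset (Om i) → G}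

/-- `C_S(V*)` is normal in `M₀` -/
theorem MZ_norm_Q (B : RB S) : MZ (S : Subgroup G) ≤
    normalizer (((S : Subgroup G) ⊓ centralizer (Wd (S : Subgroup G) : Set G) : Subgroup G) : Set G) := by
  have hG := B.ctx.char2
  have hMW : MZ (S : Subgroup G) ≤ normalizer (Wd (S : Subgroup G) : Set G) :=
    MinSimple.VModule.le_normalizer_zl (S : Subgroup G) (MZ (S : Subgroup G))
  refine sSup_le fun P hP => ?_
  have hP' : IsParS (S : Subgroup G) P := hP
  have key : ∀ g ∈ P, ∀ x ∈ (S : Subgroup G) ⊓ centralizer (Wd (S : Subgroup G) : Set G),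
      g * x * g⁻¹ ∈ (S : Subgroup G) ⊓ centralizer (Wd (S : Subgroup G) : Set G) := by
    intro g hg x hx
    have h1 : x ∈ o2 P := by
      rw [← IsParS.inf_centralizer S hG hP']
      exact ⟨hx.1, centralizer_le (zl_le_Wd hP') hx.2⟩
    have h2 : g * x * g⁻¹ ∈ o2 P := (mem_normalizer_iff.1 (MinSimple.VModule.le_normalizer_o2 P hg) x).1 h1
    refine ⟨hP'.isLoc.o2_le S h2, mem_centralizer_iff.2 fun v hv => ?_⟩
    have h3 := (mem_normalizer_iff.1 (inv_mem (hMW (le_MZ hP' hg))) v).1 hv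
    rw [inv_inv] at h3
    have h4 := mem_centralizer_iff.1 hx.2 _ h3
    calc v * (g * x * g⁻¹) = g * ((g⁻¹ * v * g) * x) * g⁻¹ := by group
      _ = g * x * g⁻¹ * v := by rw [h4]; group
  intro g hg
  rw [mem_normalizer_iff]
  intro x
  refine ⟨fun hx => key g hg x hx, fun hx => ?_⟩
  have h1 := key _ (inv_mem hg) _ hx
  have e : g⁻¹ * (g * x * g⁻¹) * g⁻¹⁻¹ = x := by group
  rwa [e] at h1

/-- **The data of the frame.** -/
theorem bd_of (B : RB S) (hB : Bks S N E ⊥ Om phi) : Bd S (ofFull hB.toFull) where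
  SM := S_le_MZ B.ctx B.full
  VS := HypJOf.wd_le B
  ZV := MinSimple.VModule.zc_le_zl _ _
  MQ g hg x hx := ((mem_normalizer_iff.1 (MZ_norm_Q B hg) x).1 hx).1

omit [Finite G] in
/-- a subgroup which centralises no block moves a letter of every block -/
theorem mvb_of [Finite G] (hB : Bks S N E ⊥ Om phi) {K : Subgroup G} (hK : K ≤ MZ (S : Subgroup G))
    (h : ∀ b, ¬ K ≤ centralizer (N b : Set G)) : Mvb (ofFull hB.toFull) K := by
  intro x
  obtain ⟨a, ha, hac⟩ := SetLike.not_le_iff_exists.1 (h (fP Om x).1)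
  rw [cent_iff hB.toFull (hK ha)] at hac
  push Not at hac
  obtain ⟨y, hy, hay⟩ := hac
  exact ⟨y, hy, a, ha, hay⟩

/-- the level group `lev S n` is normal in `M₀` if `V* ≤ Ω₁Z(lev S n)` -/
theorem MZ_norm_lev (B : RB S) {n : ℕ} (hX : Wd (S : Subgroup G) ≤ zc (lev (S : Subgroup G) n)) :
    MZ (S : Subgroup G) ≤ normalizer (lev (S : Subgroup G) n : Set G) :=
  sSup_le fun P hP => by
    have hP' : IsParS (S : Subgroup G) P := hP
    have h1 := VSup.hall hX P hP'
    exact (MinSimple.VModule.le_normalizer_o2 P).trans ((lev_isLev (S : Subgroup G) n).norm (o2 P) h1 (hP'.isLoc.o2_le S))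

/-- **The frame over `bau S`.** -/
theorem exists_fr (B : RB S) (hB : Bks S N E ⊥ Om phi) (hj : ∀ b, ¬ jj (S : Subgroup G) ≤ centralizer (N b : Set G)) :
    ∃ (ι : Type) (_ : Finite ι) (L W Z C A : ι → Subgroup G), Nonempty ι ∧
      (∑ i, Fintype.card (Om i)) ≤ 2 * Nat.card ι + Fintype.card I ∧ (∀ i, L i ≤ MZ (S : Subgroup G)) ∧
      OM.Uni.Fr (bau (S : Subgroup G)) ((S : Subgroup G) ⊓ centralizer (Wd (S : Subgroup G) : Set G))
        (Wd (S : Subgroup G)) (zj (S : Subgroup G)) L W Z C A 2 (mm (S : Subgroup G)) := by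
  have hbd := bd_of B hB
  have hm := mvb_of hB ((jj_le _).trans (S_le_MZ B.ctx B.full)) hj
  have hl := hbd.lv_neg hm
  obtain ⟨b⟩ := hB.nonempty
  have : Nonempty (Fin (Fintype.card (Σ i, Om i))) := by
    have h3 := hB.toFull.three b
    obtain ⟨a⟩ : Nonempty (Om b) := Fintype.card_pos_iff.1 (by omega)
    exact ⟨(fP Om).symm ⟨b, a⟩⟩
  obtain ⟨L, W, Z, C, A, h1, h2⟩ := hbd.fr hm
  refine ⟨_, inferInstance, L, W, Z, C, A, ?_, ?_, h1, h2⟩
  · obtain ⟨i, -⟩ := hl.exists_idx (Classical.arbitrary _)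
    exact ⟨i⟩
  · have h3 := card_le_idx hl
    rw [Fintype.card_fin, Fintype.card_fin] at h3
    exact (Fintype.card_sigma).ge.trans h3

/-- **The frame over `BL S n`.** -/
theorem exists_frL (B : RB S) (hB : Bks S N E ⊥ Om phi) {n : ℕ}
    (hX : Wd (S : Subgroup G) ≤ zc (lev (S : Subgroup G) n))
    (hj : ∀ b, ¬ lev (S : Subgroup G) (n + 1) ≤ centralizer (N b : Set G)) :
    ∃ (ι : Type) (_ : Finite ι) (L W Z C A : ι → Subgroup G), Nonempty ι ∧
      (∑ i, Fintype.card (Om i)) ≤ 2 * Nat.card ι + Fintype.card I ∧ (∀ i, L i ≤ MZ (S : Subgroup G)) ∧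
      FrL (BL (S : Subgroup G) n) ((S : Subgroup G) ⊓ centralizer (Wd (S : Subgroup G) : Set G))
        (Wd (S : Subgroup G)) (zc (lev (S : Subgroup G) n)) (ZL (S : Subgroup G) n) L W Z C A 2 := by
  have hbd := bd_of B hB
  have hm := mvb_of hB ((NO3S.Level.lev_le _ _).trans (S_le_MZ B.ctx B.full)) hj
  have hK := MZ_norm_lev B hX
  have hl := hbd.lv hX hK hm
  obtain ⟨b⟩ := hB.nonempty
  have : Nonempty (Fin (Fintype.card (Σ i, Om i))) := by
    have h3 := hB.toFull.three b
    obtain ⟨a⟩ : Nonempty (Om b) := Fintype.card_pos_iff.1 (by omega)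
    exact ⟨(fP Om).symm ⟨b, a⟩⟩
  obtain ⟨L, W, Z, C, A, h1, h2⟩ := hbd.frL hX hK hm
  refine ⟨_, inferInstance, L, W, Z, C, A, ?_, ?_, h1, h2⟩
  · obtain ⟨i, -⟩ := hl.exists_idx (Classical.arbitrary _)
    exact ⟨i⟩
  · have h3 := card_le_idx hl
    rw [Fintype.card_fin, Fintype.card_fin] at h3
    exact (Fintype.card_sigma).ge.trans h3

/-- **`FourJ`, stage `-1`, at least three pairs.** -/
theorem false_neg (hML : ML.Final.MLK.{u, u}) (hE : ML.Ex.Two.Ext.{u, u}) (B : RB S) (hB : Bks S N E ⊥ Om phi)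
    (hj : ∀ b, ¬ jj (S : Subgroup G) ≤ centralizer (N b : Set G))
    (hc : Fintype.card I + 5 ≤ ∑ i, Fintype.card (Om i)) : False := by
  obtain ⟨ι, i1, L, W, Z, C, A, i2, h1, h2, h3⟩ := exists_fr B hB hj
  have h4 := three_of (ι := ι) (by omega)
  exact EDel.BxF.false_line hML hE B (VSup.lineV B h3 h2 fun i => by
    obtain ⟨l, hl, -⟩ := h4 i i
    exact ⟨l, hl⟩) h4

end box

end Cfsg.Agent.Omega.NOThreeL.RRed.BFr
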