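import Cfsg.Agent.Omega.NOThreeL.RRed.BFr.LevT
import Cfsg.Agent.Omega.NOThreeL.RRed.BFr.Plug
import Cfsg.Agent.Omega.EDel.LX

/-!
# NO-3L, box R, `q = 2`, one class: THEOREM S''T at the stage `n` (`q = 2`, any number of letters)

* **`false_levT`** : `RB S`, `V*` irreducible, `𝔽₂`-blocks, `|Ω₁Z(S)| ≥ 4`, `V* ≤ Ω₁Z(lev S n)`, `lev S (n+1)` moves
  every block: contradiction (no LL, no UNI below the level).
-/

set_option autoImplicit false
set_option linter.unusedSectionVars false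

namespace Cfsg.Agent.Omega.NOThreeL.RRed.BFr

open Subgroup Cfsg Cfsg.Agent.ZN.ChoiceBase Cfsg.Agent.Omega.MinPar Cfsg.Agent.Omega.Frame
open Cfsg.Agent.ZN (jj zj bau zc zl o2)
open Cfsg.Agent.Omega.NOThreeL.Merge (MZ le_MZ S_le_MZ)
open Cfsg.Agent.Omega.NOThreeL.RTree (RB)
open Cfsg.Agent.Omega.NO3S.Level (lev Lev lev_isLev nxt BO)
open Cfsg.Agent.Omega.OM.SwapL (BL ZL lb)
open Cfsg.Agent.Omega.OM.Lev.Uni (FrL)
open Cfsg.Agent.Omega.NOThreeL.RRed (Wd zl_le_Wd)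
open Cfsg.Agent.Omega.NOThreeL.RRed.FourTree (Bks)
open Cfsg.Agent.Omega.Node.MultiOf (FBl)
open Cfsg.Agent.Omega.Node.MulX (uniTwoX)
open Cfsg.Agent.Omega.EDel (YL le_YL_of)

universe u

variable {G : Type u} [Group G] [Finite G] {S : Sylow 2 G}

/-- UNI+ for `N_G(B)` at the stage `n` -/
theorem uni_levT {ι : Type} [Finite ι] {n : ℕ} {Q V : Subgroup G} {L W Z C A : ι → Subgroup G}
    (fr : FrL (BL (S : Subgroup G) n) Q V (zc (lev (S : Subgroup G) n)) (ZL (S : Subgroup G) n) L W Z C A 2)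
    {g : G} (hg : g ∈ normalizer (BL (S : Subgroup G) n : Set G)) (i : ι) :
    ∃ j, cj g (W i) = W j ∧ cj g (L i) ≤ YL (ZL (S : Subgroup G) n) L j := by
  have hL := lev_isLev (S : Subgroup G) n
  have hX : g ∈ normalizer (zc (lev (S : Subgroup G) n) : Set G) :=
    NO3S.Level.normalizer_le_zc _ (OM.Lev.Wc.norm_B_Lev hL rfl hg)
  have hb : FBl (BL (S : Subgroup G) n) (L i) (W i) :=
    ⟨⟨_, _, fr.blk i⟩, (fr.blk i).toBlock (fr.cardZ i) (lb S n).Bp (lb S n).weakNormal⟩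
  obtain ⟨j, h1, h2⟩ := uniTwoX S hL rfl rfl fr (L' := cj g (L i)) (V' := cj g (W i)) ⟨hb.conj hg, by
    rw [← cj_eq_of_mem_normalizer hX]
    exact cj_mono g ((fr.WV i).trans fr.VX)⟩
  exact ⟨j, h1, le_YL_of h2⟩

/-- `M₀` is generated by minimal parabolics -/
theorem MZ_le_sSup : MZ (S : Subgroup G) ≤ sSup {P : Subgroup G |
    MinSimple.MinParabolic.IsMinPar (S : Subgroup G) P ∧ P ≤ MZ (S : Subgroup G)} :=
  sSup_le fun P hP => le_sSup ⟨(show IsParS (S : Subgroup G) P from hP).toIsMinPar, le_MZ hP⟩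

variable {I : Type u} [Fintype I] [DecidableEq I] {N E : I → Subgroup G} {Om : I → Type u}
  [∀ i, Fintype (Om i)] [∀ i, DecidableEq (Om i)] {phi : ∀ i, Finset (Om i) → G}

/-- **`𝔽₂`-blocks, one class, stage `n`.** -/
theorem false_levT (hML : ML.Final.MLK.{u, u}) (B : RB S) (hB : Bks S N E ⊥ Om phi)
    (h4 : 4 ≤ Nat.card (zc (S : Subgroup G)))
    (irr : ∀ U : Subgroup G, U ≤ Wd (S : Subgroup G) → MZ (S : Subgroup G) ≤ normalizer (U : Set G) → U ≠ ⊥ →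
      Wd (S : Subgroup G) ≤ U) {n : ℕ}
    (hX : Wd (S : Subgroup G) ≤ zc (lev (S : Subgroup G) n))
    (hj : ∀ b, ¬ lev (S : Subgroup G) (n + 1) ≤ centralizer (N b : Set G)) : False := by
  have hG := B.ctx.char2
  have hbd := bd_of B hB
  have hm := mvb_of hB ((NO3S.Level.lev_le _ _).trans (S_le_MZ B.ctx B.full)) hj
  have hK := MZ_norm_lev B hX
  have hl := hbd.lv hX hK hm
  have hzq : Lv.ZcQ (S : Subgroup G) (Wd (S : Subgroup G)) := fun x h1 h2 h3 =>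
    hbd.zcQ_lev hX hK hm (mem_zc.2 ⟨h1, h2, fun y hy => (h3 y hy).symm⟩)
  obtain ⟨Lb, A, h1, -, -, h2⟩ := hl.exists_frL hzq
  have hLM : ∀ i, Lb i ≤ MZ (S : Subgroup G) := fun i => (h1 i).trans (hl.XX_le_M i)
  have eZ : ZJ (Wd (S : Subgroup G)) (lev (S : Subgroup G) (n + 1)) = ZL (S : Subgroup G) n := hbd.ZJ_lev hX hK hm
  have eB : BB (S : Subgroup G) (Wd (S : Subgroup G)) (lev (S : Subgroup G) (n + 1)) = BL (S : Subgroup G) n := by
    rw [BB, eZ]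
    rfl
  have h2' := h2
  rw [eB, eZ] at h2'
  obtain ⟨b⟩ := hB.nonempty
  have hPt : Nonempty (Fin (Fintype.card (Σ i, Om i))) := by
    have h3 := hB.toFull.three b
    obtain ⟨a⟩ : Nonempty (Om b) := Fintype.card_pos_iff.1 (by omega)
    exact ⟨(fP Om).symm ⟨b, a⟩⟩
  have hSZ : (S : Subgroup G) ≤ normalizer (ZL (S : Subgroup G) n : Set G) :=
    (le_normalizer (H := (S : Subgroup G))).trans
      ((lb S n).nrm _ S.isPGroup' (((lb S n).KB.trans (lb S n).eqB.le).trans inf_le_left))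
  refine hl.false_T h2 hML hG B.ctx.kproper ?_ ?_ ?_ ((ofFull hB.toFull).tr_of_irr irr) MZ_le_sSup ?_ h4
  · rw [eB, eZ]
    exact fun R hR hR2 hBR => ((OM.WOneG.syl_B S (lb S n).eqB hSZ).2.2 R hR hR2 hBR).le
  · rw [eB, eZ]
    exact fun g hg i => uni_levT h2' hg i
  · rw [eZ]
    exact fun U hU hD hLU => VSup.nl_lev B h2' hLM hU hD hLU
  · rw [eZ]
    exact (lev_isLev (S : Subgroup G) (n + 1)).zc_le

end Cfsg.Agent.Omega.NOThreeL.RRed.BFr
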