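import Cfsg.Agent.Omega.OM.SwapV.Q.Neg
import Cfsg.Agent.Omega.OM.SwapV.Q.Lev
import Cfsg.Agent.Omega.NOThreeL.RRed.BFr.Noff

/-!
# NO-3L, box R, `q ≥ 4`: the ground frames `LnQ` (levels) and `NegQ` (stage `-1`) from `DataLow`

`V = ⟨V_P : P ∈ PP⟩`, `PP ⊆ P*(S)` (for one class: `PP = {P}`, `V* = zl S P`).

* `lnQ_of_data` : `LnQ` from `FrL`, `lev S n ≤ Q`, `perm`, `co`;
* `negQ_of_data` : `NegQ` from `Uni.Fr`, `perm`, `co`;
* `perm_of` : `perm` from: `S` permutes the blocks and the lines, `C i` = the product of the other blocks.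
-/

set_option autoImplicit false
set_option linter.unusedSectionVars false

namespace Cfsg.Agent.Omega.NOThreeL.RRed.BFr.DataQ

open Subgroup Cfsg Cfsg.Agent.Omega.MinPar Cfsg.Agent.Omega.Frame Cfsg.Agent.ZN.ChoiceBase Cfsg.Agent.ZN.ChoiceSit
open Cfsg.Agent.ZN (zc zl o2 zj bau)
open Cfsg.Agent.Omega.OM.SwapV.Q
open Cfsg.Agent.Omega.NO3S.Level (lev)
open Cfsg.Agent.Omega.OM.SwapL (ZL BL lb)
open Cfsg.Agent.Omega.OM.Lev.Uni (FrL)
open Cfsg.Agent.Omega.Node.NO3L (DataLow)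
open Cfsg.Agent.Omega.NOThreeL.RRed.BFr.Noff (low comm_S comm_T)

universe u

variable {G : Type u} [Group G] [Finite G] {S : Sylow 2 G} {V : Subgroup G} {PP : Set (Subgroup G)}

/-- **The ground frame at the levels in box R, any `q`.** -/
theorem lnQ_of_data {ι : Type} [Finite ι] {Q : Subgroup G} {n : ℕ} {L W Z C A : ι → Subgroup G} {q : ℕ}
    (hG : IsCharacteristicTwoType G) (D : DataLow (S : Subgroup G)) (hPP : ∀ P ∈ PP, IsParS (S : Subgroup G) P)
    (hV : V = ⨆ P ∈ PP, zl (S : Subgroup G) P)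
    (fr : FrL (BL (S : Subgroup G) n) Q V (zc (lev (S : Subgroup G) n)) (ZL (S : Subgroup G) n) L W Z C A q)
    (levQ : lev (S : Subgroup G) n ≤ Q)
    (perm : ∀ s ∈ (S : Subgroup G), ∀ i j, cj s (Z i) = Z j → cj s (W i) = W j ∧ cj s (C i) = C j)
    (co : ∀ i, ∃ (F : Type) (_ : Field F) (_ : Finite F) (_ : CharP F 2), Nat.card F = q ∧
      ∃ e : G → F × F, Cor F (S : Subgroup G) (BL (S : Subgroup G) n) L W Z i e) : LnQ S V Q n L W Z C A q where
  fr := fr
  levQ := levQ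
  char2 := hG
  low := low D hPP hV
  noff := fun T hT hB f h1 h2 x hx y hy => by
    have hN : normalizer (BL (S : Subgroup G) n : Set G) ≤ normalizer (V : Set G) := fun g hg => by
      rw [mem_normalizer_iff_cj]
      exact (fr.norm_of hg (NO3S.Level.normalizer_le_zc _ (OM.SwapL.norm_lev S (by omega) hg))).1
    have h3 := comm_T D hPP hV (OM.SwapL.wc S n) (lb S n).BS hN hT hB h1 h2 hx
    exact (mem_centralizer_iff.1 h3 _ ⟨y, hy, rfl⟩).symm
  perm := perm
  co := co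

/-- **The ground frame at stage `-1` in box R, any `q`.** -/
theorem negQ_of_data {ι : Type} [Finite ι] {Q : Subgroup G} {L W Z C A : ι → Subgroup G} {q : ℕ}
    (hG : IsCharacteristicTwoType G) (D : DataLow (S : Subgroup G))
    (hPP : ∀ P ∈ PP, IsParS (S : Subgroup G) P) (hV : V = ⨆ P ∈ PP, zl (S : Subgroup G) P)
    (fr : Cfsg.Agent.Omega.OM.Uni.Fr (bau (S : Subgroup G)) Q V (zj (S : Subgroup G)) L W Z C A q
      (mm (S : Subgroup G)))
    (perm : ∀ s ∈ (S : Subgroup G), ∀ i j, cj s (Z i) = Z j → cj s (W i) = W j ∧ cj s (C i) = C j)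
    (co : ∀ i, ∃ (F : Type) (_ : Field F) (_ : Finite F) (_ : CharP F 2), Nat.card F = q ∧
      ∃ e : G → F × F, Cor F (S : Subgroup G) (bau (S : Subgroup G)) L W Z i e) : NegQ S V Q L W Z C A q where
  fr := fr
  char2 := hG
  low := low D hPP hV
  noff := fun T hT hB g h1 h2 x hx y hy => by
    have hVB : V ≤ bau (S : Subgroup G) := fr.VQ.trans fr.QB
    have hN : normalizer (bau (S : Subgroup G) : Set G) ≤ normalizer (V : Set G) := fun g hg => by
      have hgB := cj_eq_of_mem_normalizer hg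
      rw [mem_normalizer_iff_cj]
      refine (fr.norm_of hg fun w hw v hv => ?_).1
      have k1 : cj g V ≤ (S : Subgroup G) := by
        have := cj_mono g hVB
        rw [hgB] at this
        exact this.trans (bau_le _)
      have k2 : V ≤ cj g (S : Subgroup G) := by
        have := cj_mono g (bau_le (S : Subgroup G))
        rw [hgB] at this
        exact hVB.trans this
      exact mem_centralizer_iff.1 (comm_S D hPP hV k1 k2 hv) w hw
    have h3 := comm_T D hPP hV (OM.UniPlus.wc_bau S) (bau_le _) hN hT hB h1 h2 hx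
    exact (mem_centralizer_iff.1 h3 _ ⟨y, hy, rfl⟩).symm
  perm := perm
  co := co

omit [Finite G] in
/-- **`perm`**: `S` permutes the blocks `W i` and the lines `Z i ≠ 1`; `C i` is the product of the other blocks. -/
theorem perm_of {ι : Type*} {S₀ : Subgroup G} {W Z C : ι → Subgroup G} (hZW : ∀ i, Z i ≤ W i) (hZ : ∀ i, Z i ≠ ⊥)
    (hdir : ∀ i j, i ≠ j → W i ⊓ W j = ⊥) (hC : ∀ i, C i = ⨆ j : {j : ι // j ≠ i}, W j)
    (hW : ∀ s ∈ S₀, ∀ i, ∃ j, cj s (W i) = W j) :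
    ∀ s ∈ S₀, ∀ i j, cj s (Z i) = Z j → cj s (W i) = W j ∧ cj s (C i) = C j := by
  intro s hs i j hij
  -- `s` maps `W i` to `W j`
  have key : ∀ a b, (∃ x ∈ W a, x ≠ 1 ∧ s * x * s⁻¹ ∈ W b) → cj s (W a) = W b := by
    rintro a b ⟨x, hx, hx1, hxb⟩
    obtain ⟨c, hc⟩ := hW s hs a
    have h1 : s * x * s⁻¹ ∈ W c := by rw [← hc]; exact ⟨x, hx, rfl⟩
    by_cases hbc : b = c
    · rw [hbc]; exact hc
    · exfalso
      have h2 : s * x * s⁻¹ ∈ W b ⊓ W c := ⟨hxb, h1⟩
      rw [hdir b c hbc, mem_bot] at h2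
      apply hx1
      have : x = s⁻¹ * (s * x * s⁻¹) * s := by group
      rw [this, h2]; group
  have hneZ : ∀ a, ∃ x ∈ Z a, x ≠ 1 := fun a => by
    obtain ⟨z, hz⟩ := (Subgroup.ne_bot_iff_exists_ne_one (H := Z a)).1 (hZ a)
    exact ⟨z, z.2, fun e => hz (Subtype.ext e)⟩
  have hWij : cj s (W i) = W j := by
    apply key
    obtain ⟨z, hz, hz1⟩ := hneZ i
    refine ⟨z, hZW i hz, hz1, hZW j ?_⟩
    rw [← hij]; exact ⟨z, hz, rfl⟩
  refine ⟨hWij, ?_⟩
  have hinj : ∀ {a b c : ι}, cj s (W a) = W c → cj s (W b) = W c → a = b := by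
    intro a b c h1 h2
    by_contra hab
    obtain ⟨x, hx, hx1⟩ := hneZ a
    have h3 : x ∈ W b := by
      have h4 : s * x * s⁻¹ ∈ cj s (W b) := by rw [h2, ← h1]; exact ⟨x, hZW a hx, rfl⟩
      obtain ⟨y, hy, e⟩ := h4
      have h5 : x = y := by
        have e' : s * y * s⁻¹ = s * x * s⁻¹ := e
        exact (mul_left_cancel (mul_right_cancel e')).symm
      rw [h5]; exact hy
    have h6 : x ∈ W a ⊓ W b := ⟨hZW a hx, h3⟩
    rw [hdir a b hab, mem_bot] at h6
    exact hx1 h6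
  have e1 : cj s (C i) = ⨆ k : {k : ι // k ≠ i}, cj s (W k) := by
    rw [hC i]
    exact Subgroup.map_iSup _ _
  rw [e1, hC j]
  apply le_antisymm
  · refine iSup_le fun k => ?_
    obtain ⟨c, hc⟩ := hW s hs k
    have hcj : c ≠ j := fun e => k.2 (hinj (by rw [hc, e]) hWij)
    rw [hc]
    exact le_iSup (fun k : {k : ι // k ≠ j} => W k) ⟨c, hcj⟩
  · refine iSup_le fun k => ?_
    obtain ⟨c, hc⟩ := hW s⁻¹ (inv_mem hs) k
    have hc' : cj s (W c) = W k := by rw [← hc, cj_cj_inv]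
    have hci : c ≠ i := by
      rintro rfl
      rw [hWij] at hc'
      obtain ⟨z, hz, hz1⟩ := hneZ j
      have h6 : z ∈ W j ⊓ W k := ⟨hZW j hz, by rw [← hc']; exact hZW j hz⟩
      rw [hdir j k (Ne.symm k.2), mem_bot] at h6
      exact hz1 h6
    rw [← hc']
    exact le_iSup (fun k : {k : ι // k ≠ i} => cj s (W k)) ⟨c, hci⟩

end Cfsg.Agent.Omega.NOThreeL.RRed.BFr.DataQ
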