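import Cfsg.Agent.Omega.NOThreeL.RRed.QFr.Def
import Cfsg.Agent.Omega.NOThreeL.RRed.Base
import Cfsg.Agent.Omega.NOThreeL.RLev.NL
import Cfsg.Agent.Omega.NO3S.Level.Fam
import Cfsg.Agent.Omega.NO3S.OneLine.LevOf
import Cfsg.Agent.Omega.OM.SwapL.Frame
import Cfsg.Agent.Omega.OM.UOne
import Cfsg.Agent.Omega.OM.Lev.Low.GJ

/-!
# NO-3L, box R: the stages over `V* = Wd S`, coordinate-free

* `Stg S n` : `V* ≤ Ω₁Z(lev S n)`, `⟨P*(S)⟩ ≤ N(lev S n)`, `lev S n ≤ C_S(V*)`, a best offender on `Ω₁Z(lev S n)` moves `V*`;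
* `exists_stg` : `J(S)` moves `V*`, or `Stg S n` for some `n`, or all `lev S n` centralise `V*`;
* `MQ` : `⟨P*(S)⟩` normalises `C_S(V*)`;
* `Stg.lvQ`, `lvQ_neg` : 461's level data `LvQ`;
* `Stg.ZJ_eq` : `C_{V*}(lev S (n + 1)) = Ω₁Z(lev S (n + 1))`; `ZJ_neg` : `C_{V*}(J(S)) = Ω₁Z(J(S))`.
-/

set_option autoImplicit false
set_option linter.unusedSectionVars false

namespace Cfsg.Agent.Omega.NOThreeL.RRed.BFr.StageQ

open Subgroup Cfsg Cfsg.Agent.Omega.MinPar Cfsg.Agent.Omega.Frame Cfsg.Agent.ZN.ChoiceBase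
open Cfsg.Agent.ZN (jj zj bau zc zl o2)
open Cfsg.Agent.Omega.SQ1.Bau (mem_sup_comm card_sup_comm elem_comm elem_sq)
open Cfsg.Agent.PLocal.ThompsonJ (isElementaryAbelian_iff)
open Cfsg.Agent.Omega.FFThm (ElemM)
open Cfsg.Agent.Omega.NO3S.OneLine (BFam bo bo_fam)
open Cfsg.Agent.Omega.NO3S.Level (lev Lev lev_isLev nxt BO)
open Cfsg.Agent.Omega.OM.SwapL (BL ZL)
open Cfsg.Agent.Omega.NOThreeL.RTree
open Cfsg.Agent.Omega.NOThreeL.Merge (MZ)
open Cfsg.Agent.Omega.NOThreeL.RRed.QFr (LvQ)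

universe u

variable {G : Type u} [Group G] [Finite G] {S : Sylow 2 G}

/-- **The stage `n`.** -/
structure Stg (S : Sylow 2 G) (n : ℕ) : Prop where
  VX : Wd (S : Subgroup G) ≤ zc (lev (S : Subgroup G) n)
  MK : MZ (S : Subgroup G) ≤ normalizer (lev (S : Subgroup G) n : Set G)
  levQ : lev (S : Subgroup G) n ≤ (S : Subgroup G) ⊓ centralizer (Wd (S : Subgroup G) : Set G)
  mv : ∃ A ∈ bo (S : Subgroup G) (zc (lev (S : Subgroup G) n)), ¬ A ≤ centralizer (Wd (S : Subgroup G) : Set G)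

omit [Finite G] in
theorem zc_elem' (K : Subgroup G) : IsElementaryAbelian 2 (zc K) :=
  isElementaryAbelian_iff.2 ⟨fun _ hx _ hy => (mem_zc.1 hy).2.2 _ (mem_zc.1 hx).1, fun _ hx => (mem_zc.1 hx).2.1⟩

theorem W_elem (B : RB S) : IsElementaryAbelian 2 (Wd (S : Subgroup G)) :=
  isElementaryAbelian_iff.2 ⟨fun x hx y hy => wcomm B x hx y hy, fun x hx => by rw [pow_two]; exact wsq B x hx⟩

/-- a level which centralises `V*` -/
theorem stg_of_cent {n : ℕ} (hc : lev (S : Subgroup G) n ≤ centralizer (Wd (S : Subgroup G) : Set G)) :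
    Wd (S : Subgroup G) ≤ zc (lev (S : Subgroup G) n) ∧
      MZ (S : Subgroup G) ≤ normalizer (lev (S : Subgroup G) n : Set G) := by
  have h1 : MZ (S : Subgroup G) ≤ normalizer (lev (S : Subgroup G) n : Set G) :=
    RLev.ys_norm (lev_isLev (S : Subgroup G) n) hc
  exact ⟨Cfsg.Agent.MinSimple.VModule.zl_le (lev_isLev (S : Subgroup G) n).zc_le
    (h1.trans (NO3S.Level.normalizer_le_zc _)), h1⟩

/-- **The stage exists, or all levels centralise `V*`.** -/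
theorem exists_stg : ¬ jj (S : Subgroup G) ≤ centralizer (Wd (S : Subgroup G) : Set G) ∨ (∃ n, Stg S n) ∨
    ∀ n, lev (S : Subgroup G) n ≤ centralizer (Wd (S : Subgroup G) : Set G) := by
  by_cases h0 : ∀ n, lev (S : Subgroup G) n ≤ centralizer (Wd (S : Subgroup G) : Set G)
  · exact Or.inr (Or.inr h0)
  push Not at h0
  classical
  obtain ⟨m, hm, hmin⟩ : ∃ m, ¬ lev (S : Subgroup G) m ≤ centralizer (Wd (S : Subgroup G) : Set G) ∧
      ∀ k < m, lev (S : Subgroup G) k ≤ centralizer (Wd (S : Subgroup G) : Set G) :=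
    ⟨Nat.find h0, Nat.find_spec h0, fun k hk => not_not.1 (Nat.find_min h0 hk)⟩
  rcases m with _ | n
  · exact Or.inl hm
  · right; left
    have h1 := hmin n (Nat.lt_succ_self n)
    obtain ⟨hV, hM⟩ := stg_of_cent h1
    refine ⟨n, hV, hM, le_inf (NO3S.Level.lev_le _ n) h1, ?_⟩
    by_contra hcon
    push Not at hcon
    apply hm
    show nxt _ _ ≤ _
    rw [nxt, NO3S.OneLine.bo_eq]
    exact sup_le (inf_le_right.trans (centralizer_le hV)) (sSup_le hcon)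

/-- **`⟨P*(S)⟩` normalises `C_S(V*)`.** -/
theorem M_norm : MZ (S : Subgroup G) ≤
    normalizer (((S : Subgroup G) ⊓ centralizer (Wd (S : Subgroup G) : Set G) : Subgroup G) : Set G) := by
  refine sSup_le fun P hP => ?_
  have hP' : IsParS (S : Subgroup G) P := hP
  have e : (S : Subgroup G) ⊓ centralizer (Wd (S : Subgroup G) : Set G) =
      o2 P ⊓ centralizer (Wd (S : Subgroup G) : Set G) := by
    apply le_antisymm
    · exact le_inf ((inf_le_inf_left _ (centralizer_le (zl_le_Wd hP'))).trans (RLev.cs_le_o2 hP')) inf_le_right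
    · exact inf_le_inf_right _ (hP'.isLoc.o2_le S)
  intro p hp
  rw [mem_normalizer_iff_cj, e, cj_inf, cj_centralizer,
    cj_eq_of_mem_normalizer (Cfsg.Agent.MinSimple.VModule.le_normalizer_o2 P hp),
    cj_eq_of_mem_normalizer (le_norm_Wd (le_MZ hP' hp))]

theorem MQ : ∀ g ∈ MZ (S : Subgroup G), ∀ x ∈ (S : Subgroup G) ⊓ centralizer (Wd (S : Subgroup G) : Set G),
    g * x * g⁻¹ ∈ (S : Subgroup G) := fun g hg x hx => ((mem_normalizer_iff.1 (M_norm hg) x).1 hx).1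

variable {ι : Type} {N : ι → Subgroup G}

/-- a mover of `V* ≤ ∏ N i` moves some `N i` -/
theorem mv_of (hN : Wd (S : Subgroup G) ≤ ⨆ i, N i) {A : Subgroup G}
    (hA : ¬ A ≤ centralizer (Wd (S : Subgroup G) : Set G)) : ∃ i, ¬ A ≤ centralizer (N i : Set G) := by
  by_contra hcon
  push Not at hcon
  apply hA
  have h1 : (⨆ i, N i) ≤ centralizer (A : Set G) := iSup_le fun i => le_centralizer_iff.1 (hcon i)
  exact le_centralizer_iff.1 (hN.trans h1)

/-- **The level data, stage `n`.** -/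
theorem Stg.lvQ {n : ℕ} (h : Stg S n) (hN : Wd (S : Subgroup G) ≤ ⨆ i, N i) :
    LvQ S (MZ (S : Subgroup G)) (Wd (S : Subgroup G)) N (zc (lev (S : Subgroup G) n))
      (normalizer (zc (lev (S : Subgroup G) n) : Set G)) (lev (S : Subgroup G) (n + 1))
      (bo (S : Subgroup G) (zc (lev (S : Subgroup G) n))) where
  ML := h.MK.trans (NO3S.Level.normalizer_le_zc _)
  fam := bo_fam _ _
  elX := zc_elem' _
  VX := h.VX
  XS := fun x hx => NO3S.Level.lev_le _ n (mem_zc.1 hx).1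
  MX g hg x hx := (mem_normalizer_iff.1 (NO3S.Level.normalizer_le_zc _ (h.MK hg)) x).1 hx
  AJ A hA := NO3S.Level.BO.le_nxt (by rw [NO3S.OneLine.bo_eq]; exact hA)
  JS := NO3S.Level.lev_le _ _
  Jg := by
    show nxt _ _ ≤ _
    rw [nxt, NO3S.OneLine.bo_eq]
    exact sup_le ((inf_le_inf_left _ (centralizer_le h.VX)).trans le_sup_right) le_sup_left
  mv := by
    obtain ⟨A, hA, hne⟩ := h.mv
    obtain ⟨i, hi⟩ := mv_of hN hne
    exact ⟨i, A, hA, hi⟩

/-- `Ω₁Z(C_S(V*)) ≤ Ω₁Z(lev S n)` -/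
theorem Stg.zcQ_le {n : ℕ} (h : Stg S n) :
    zc ((S : Subgroup G) ⊓ centralizer (Wd (S : Subgroup G) : Set G)) ≤ zc (lev (S : Subgroup G) n) := fun x hx => by
  have hx' := mem_zc.1 hx
  exact (lev_isLev (S : Subgroup G) n).mem_of_comm hx'.1.1 hx'.2.1 fun y hy => hx'.2.2 y (h.levQ hy)

/-- **`C_{V*}(lev S (n + 1)) = Ω₁Z(lev S (n + 1))`.** -/
theorem Stg.ZJ_eq {n : ℕ} (B : RB S) (h : Stg S n)
    (hc : ∀ W : Subgroup G, W ≤ zc (lev (S : Subgroup G) n) →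
      (∀ w ∈ W, ∀ j ∈ lev (S : Subgroup G) (n + 1), j * w = w * j) →
      (∀ s ∈ (S : Subgroup G), ∀ w ∈ W, s * w * s⁻¹ ∈ W) → W ≤ Wd (S : Subgroup G)) :
    ZJ (Wd (S : Subgroup G)) (lev (S : Subgroup G) (n + 1)) = ZL (S : Subgroup G) n := by
  apply le_antisymm
  · rintro v ⟨hv, hc'⟩
    refine mem_zc.2 ⟨NO3S.Level.lev_le_succ _ _ (mem_zc.1 (h.VX hv)).1, by rw [pow_two]; exact wsq B v hv, fun y hy => ?_⟩
    exact mem_centralizer_iff.1 hc' y hy
  · have h1 : zc (lev (S : Subgroup G) (n + 1)) ≤ Wd (S : Subgroup G) := by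
      refine hc _ ?_ (fun w hw j hj => (mem_zc.1 hw).2.2 j hj) fun s hs w hw => ?_
      · exact (lev_isLev (S : Subgroup G) n).zc_le_zc (NO3S.Level.lev_le_succ _ n) (NO3S.Level.lev_le _ _)
      · refine (mem_normalizer_iff.1 (NO3S.Level.normalizer_le_zc _
          ((lev_isLev (S : Subgroup G) (n + 1)).norm (S : Subgroup G) (NO3S.Level.lev_le _ _) le_rfl
            (le_normalizer hs))) w).1 hw
    exact fun w hw => ⟨h1 hw, mem_centralizer_iff.2 fun j hj => (mem_zc.1 hw).2.2 j hj⟩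

section neg

theorem le_zjQ {x : G} (hx : x ∈ zc ((S : Subgroup G) ⊓ centralizer (Wd (S : Subgroup G) : Set G))) :
    x ∈ zc (jj ((S : Subgroup G) ⊓ centralizer (Wd (S : Subgroup G) : Set G))) := by
  have h1 := mem_zc.1 hx
  have h2 : ∀ y ∈ jj ((S : Subgroup G) ⊓ centralizer (Wd (S : Subgroup G) : Set G)), y * x = x * y := fun y hy =>
    h1.2.2 y (jj_le _ hy)
  exact mem_zc.2 ⟨mem_jj_of_comm h1.1 h1.2.1 h2, h1.2.1, h2⟩

theorem W_le_Q (B : RB S) : Wd (S : Subgroup G) ≤ (S : Subgroup G) ⊓ centralizer (Wd (S : Subgroup G) : Set G) :=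
  le_inf (WS B) (Wd_abel B)

theorem W_le_X (B : RB S) :
    Wd (S : Subgroup G) ≤ zc (jj ((S : Subgroup G) ⊓ centralizer (Wd (S : Subgroup G) : Set G))) := fun v hv =>
  le_zjQ (mem_zc.2 ⟨W_le_Q B hv, by rw [pow_two]; exact wsq B v hv, fun y hy =>
    (mem_centralizer_iff.1 hy.2 v hv).symm⟩)

/-- **The level data, stage `-1`.** -/
theorem lvQ_neg (B : RB S) (hj : ¬ jj (S : Subgroup G) ≤ centralizer (Wd (S : Subgroup G) : Set G))
    (hN : Wd (S : Subgroup G) ≤ ⨆ i, N i) :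
    LvQ S (MZ (S : Subgroup G)) (Wd (S : Subgroup G)) N
      (zc (jj ((S : Subgroup G) ⊓ centralizer (Wd (S : Subgroup G) : Set G)))) ⊤ (jj (S : Subgroup G))
      (AA (S : Subgroup G)) where
  ML := le_top
  fam := by
    have h1 := NO3S.Level.bfam_AA (S := S) (L := (⊤ : Subgroup G)) (zc_elem' (jj ((S : Subgroup G) ⊓
      centralizer (Wd (S : Subgroup G) : Set G)))) fun x hx => (jj_le _ (mem_zc.1 hx).1).1
    exact ⟨h1.le, h1.elem, h1.best, h1.cut, h1.conj⟩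
  elX := zc_elem' _
  VX := W_le_X B
  XS := fun x hx => (jj_le _ (mem_zc.1 hx).1).1
  MX g hg x hx := (mem_normalizer_iff.1 (NO3S.Level.normalizer_le_zc _ (normalizer_le_jj _ (M_norm hg))) x).1 hx
  AJ A hA := le_jj hA
  JS := jj_le _
  Jg := by
    rw [Cfsg.Agent.ZN.ChoiceBase.jj_eq]
    exact le_sup_left
  mv := by
    by_contra hcon
    push Not at hcon
    apply hj
    rw [Cfsg.Agent.ZN.ChoiceBase.jj_eq]
    refine sSup_le fun A hA => ?_
    by_contra hne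
    obtain ⟨i, hi⟩ := mv_of hN hne
    exact hi (hcon i A hA)

/-- **`C_{V*}(J(S)) = Ω₁Z(J(S))`** : `Aq` some member of `A(S)` lies in `C_S(V*)`. -/
theorem ZJ_neg (B : RB S)
    (Aq : ∃ A ∈ AA (S : Subgroup G), A ≤ (S : Subgroup G) ⊓ centralizer (Wd (S : Subgroup G) : Set G))
    (hc : ∀ W : Subgroup G, W ≤ zc (jj ((S : Subgroup G) ⊓ centralizer (Wd (S : Subgroup G) : Set G))) →
      (∀ w ∈ W, ∀ j ∈ jj (S : Subgroup G), j * w = w * j) →
      (∀ s ∈ (S : Subgroup G), ∀ w ∈ W, s * w * s⁻¹ ∈ W) → W ≤ Wd (S : Subgroup G)) :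
    ZJ (Wd (S : Subgroup G)) (jj (S : Subgroup G)) = zj (S : Subgroup G) := by
  apply le_antisymm
  · rintro v ⟨hv, hc'⟩
    have h1 : ∀ y ∈ jj (S : Subgroup G), y * v = v * y := fun y hy => mem_centralizer_iff.1 hc' y hy
    have h2 : v ^ 2 = 1 := by rw [pow_two]; exact wsq B v hv
    exact mem_zj.2 ⟨mem_jj_of_comm (WS B hv) h2 h1, h2, h1⟩
  · obtain ⟨A₀, hA₀, hAQ₀⟩ := Aq
    have hAQ : AA ((S : Subgroup G) ⊓ centralizer (Wd (S : Subgroup G) : Set G)) ⊆ AA (S : Subgroup G) := fun A hA =>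
      ⟨hA.1, hA.2.1.trans inf_le_left, fun E hE hES => (hA₀.2.2 E hE hES).trans (hA.2.2 A₀ hA₀.1 hAQ₀)⟩
    have hBA : A₀ ∈ AA ((S : Subgroup G) ⊓ centralizer (Wd (S : Subgroup G) : Set G)) :=
      ⟨hA₀.1, hAQ₀, fun E hE hEQ => hA₀.2.2 E hE (hEQ.trans inf_le_left)⟩
    have hjj : jj ((S : Subgroup G) ⊓ centralizer (Wd (S : Subgroup G) : Set G)) ≤ jj (S : Subgroup G) := by
      rw [Cfsg.Agent.ZN.ChoiceBase.jj_eq, Cfsg.Agent.ZN.ChoiceBase.jj_eq]
      exact sSup_le fun A hA => le_sSup (hAQ hA)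
    have h1 : zj (S : Subgroup G) ≤ Wd (S : Subgroup G) := by
      refine hc _ (fun w hw => ?_) (fun w hw j hj => (mem_zj.1 hw).2.2 j hj) fun s hs w hw => ?_
      · have hw' := mem_zj.1 hw
        have h2 : w ∈ A₀ := OM.Lev.Low.mem_of_AA hA₀ (jj_le _ hw'.1) hw'.2.1 fun y hy => hw'.2.2 y (le_jj hA₀ hy)
        exact mem_zc.2 ⟨le_jj hBA h2, hw'.2.1, fun y hy => hw'.2.2 y (hjj hy)⟩
      · have h2 := normalizer_le_of_cj (F := zj) zj_cj (S : Subgroup G) (le_normalizer hs)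
        exact (mem_normalizer_iff.1 h2 w).1 hw
    exact fun w hw => ⟨h1 hw, mem_centralizer_iff.2 fun j hj => (mem_zj.1 hw).2.2 j hj⟩

end neg

end Cfsg.Agent.Omega.NOThreeL.RRed.BFr.StageQ
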