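import Cfsg.Agent.Omega.NOThreeL.RRed.BFr.Off
import Cfsg.Agent.Omega.NO3S.OneLine.LevAbs

/-!
# NO-3L, box R: the pairs of letters

`AA` a family of best offenders of `S` on `X ≥ V` (`BFam`), `J₀ = ⟨AA⟩`, every block is moved.

* `Lv` : the level data;
* `Lv.Pr x y` : the transposition `(x y)` is induced by `J₀`; `Pr.unique`, `Lv.pr_of_move` ;
* `Lv.exists_un`, `Lv.un_unique` : in every block exactly one letter lies in no pair.
-/

set_option autoImplicit false
set_option linter.unusedSectionVars false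

namespace Cfsg.Agent.Omega.NOThreeL.RRed.BFr

open Subgroup Cfsg Cfsg.Agent.ZN Cfsg.Agent.ZN.ChoiceBase
open Cfsg.Agent.Omega.SQ1.Bau (mem_sup_comm card_sup_comm elem_comm elem_sq)
open Cfsg.Agent.Omega.OM.Lev.Uni (Best)
open Cfsg.Agent.Omega.FFThm (ElemM)
open Cfsg.Agent.Omega.NO3S.OneLine (BFam)

universe u

variable {G : Type u} [Group G]

section sylow

variable [Finite G]

theorem exists_into (S : Sylow 2 G) {M T : Subgroup G} (hS : (S : Subgroup G) ≤ M) (hT : IsPGroup 2 T)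
    (hTM : T ≤ M) : ∃ m ∈ M, cj m T ≤ (S : Subgroup G) := by
  have : Fact (Nat.Prime 2) := ⟨Nat.prime_two⟩
  let S' : Sylow 2 M := S.subtype hS
  have hT' : IsPGroup 2 (T.subgroupOf M) := hT.comap_of_injective _ (subtype_injective M)
  obtain ⟨R, hR⟩ := hT'.exists_le_sylow
  obtain ⟨g, hg⟩ := MulAction.exists_smul_eq M R S'
  refine ⟨g, g.2, ?_⟩
  rintro _ ⟨x, hx, rfl⟩
  have h1 : (⟨x, hTM hx⟩ : M) ∈ (R : Subgroup M) := hR (mem_subgroupOf.2 hx)
  have h2 : g * ⟨x, hTM hx⟩ * g⁻¹ ∈ ((g • R : Sylow 2 M) : Subgroup M) := by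
    rw [Sylow.coe_subgroup_smul, mem_pointwise_smul_iff_inv_smul_mem]
    have e3 : (MulAut.conj g)⁻¹ • (g * ⟨x, hTM hx⟩ * g⁻¹) = ⟨x, hTM hx⟩ := by
      rw [← _root_.map_inv, MulAut.smul_def, MulAut.conj_apply]
      group
    rwa [e3]
  rw [hg] at h2
  exact h2

theorem exists_common {K A B : Subgroup G} (hA : IsPGroup 2 A) (hB : IsPGroup 2 B) (hAK : A ≤ K) (hBK : B ≤ K) :
    ∃ k ∈ K, ∃ R : Subgroup G, R ≤ K ∧ IsPGroup 2 R ∧ A ≤ R ∧ cj k B ≤ R := by
  have : Fact (Nat.Prime 2) := ⟨Nat.prime_two⟩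
  have hA' : IsPGroup 2 (A.subgroupOf K) := hA.comap_of_injective _ (subtype_injective K)
  have hB' : IsPGroup 2 (B.subgroupOf K) := hB.comap_of_injective _ (subtype_injective K)
  obtain ⟨R, hR⟩ := hA'.exists_le_sylow
  obtain ⟨R', hR'⟩ := hB'.exists_le_sylow
  obtain ⟨g, hg⟩ := MulAction.exists_smul_eq K R' R
  refine ⟨g, g.2, (R : Subgroup K).map K.subtype, ?_, R.isPGroup'.map _, ?_, ?_⟩
  · rintro _ ⟨x, -, rfl⟩
    exact x.2
  · intro x hx
    exact ⟨⟨x, hAK hx⟩, hR (mem_subgroupOf.2 hx), rfl⟩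
  · rintro _ ⟨x, hx, rfl⟩
    have h1 : (⟨x, hBK hx⟩ : K) ∈ (R' : Subgroup K) := hR' (mem_subgroupOf.2 hx)
    have h2 : g * ⟨x, hBK hx⟩ * g⁻¹ ∈ ((g • R' : Sylow 2 K) : Subgroup K) := by
      rw [Sylow.coe_subgroup_smul, mem_pointwise_smul_iff_inv_smul_mem]
      have e3 : (MulAut.conj g)⁻¹ • (g * ⟨x, hBK hx⟩ * g⁻¹) = ⟨x, hBK hx⟩ := by
        rw [← _root_.map_inv, MulAut.smul_def, MulAut.conj_apply]
        group
      rwa [e3]
    rw [hg] at h2
    exact ⟨_, h2, rfl⟩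

end sylow

/-- The level data. -/
structure Lv (S : Sylow 2 G) {M V : Subgroup G} {Pt I : Type} [Fintype Pt] [DecidableEq Pt] [DecidableEq I]
    (D : Pts M V Pt I) (X L J : Subgroup G) (AA : Set (Subgroup G)) : Prop where
  SM : (S : Subgroup G) ≤ M
  ML : M ≤ L
  fam : BFam (S : Subgroup G) X L AA
  elX : IsElementaryAbelian 2 X
  VX : V ≤ X
  VS : V ≤ (S : Subgroup G)
  MX : ∀ g ∈ M, ∀ x ∈ X, g * x * g⁻¹ ∈ X
  MQ : ∀ g ∈ M, ∀ x ∈ (S : Subgroup G) ⊓ centralizer (V : Set G), g * x * g⁻¹ ∈ (S : Subgroup G)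
  AJ : ∀ A ∈ AA, A ≤ J
  JS : J ≤ (S : Subgroup G)
  Jg : J ≤ sSup AA ⊔ ((S : Subgroup G) ⊓ centralizer (V : Set G))
  mv : ∀ x, ∃ y, D.blk y = D.blk x ∧ ∃ A ∈ AA, ∃ a ∈ A, D.r a y ≠ y

namespace Lv

variable {S : Sylow 2 G} {M V : Subgroup G} {Pt I : Type} [Fintype Pt] [DecidableEq Pt] [DecidableEq I]
variable {D : Pts M V Pt I} {X L J : Subgroup G} {AA : Set (Subgroup G)} (h : Lv S D X L J AA)
include h

theorem Xc : ∀ x ∈ X, ∀ y ∈ X, x * y = y * x := elem_comm h.elX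

theorem ofd {A : Subgroup G} (hA : A ∈ AA) : Ofd M X A where
  AM := (h.fam.le A hA).trans h.SM
  p := S.isPGroup'.to_le (h.fam.le A hA)
  el := h.fam.elem A hA
  best := h.fam.best A hA

theorem J0S : sSup AA ≤ (S : Subgroup G) := sSup_le h.fam.le

theorem J0M : sSup AA ≤ M := h.J0S.trans h.SM

theorem norm_cX {g : G} (hg : g ∈ M) {c : G} (hc : c ∈ centralizer (X : Set G)) :
    g * c * g⁻¹ ∈ centralizer (X : Set G) := by
  rw [mem_centralizer_iff] at hc ⊢
  intro x hx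
  have h1 := hc (g⁻¹ * x * g) (by simpa using h.MX g⁻¹ (inv_mem hg) x hx)
  calc x * (g * c * g⁻¹) = g * ((g⁻¹ * x * g) * c) * g⁻¹ := by group
    _ = g * c * g⁻¹ * x := by rw [h1]; group

/-- **A member of `AA` acting as one transposition.** -/
theorem exists_member [Finite G] {A : Subgroup G} (hA : A ∈ AA) {a : G} (ha : a ∈ A) {x y : Pt} (hax : D.r a x = y)
    (hxy : x ≠ y) : ∃ B' ∈ AA, (∃ b ∈ B', D.r b = Equiv.swap x y) ∧ ∀ b ∈ B', D.r b = 1 ∨ D.r b = Equiv.swap x y := by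
  obtain ⟨A', hA', hof, ⟨a', ha', e⟩, hall, h1, h2⟩ := Ofd.exists_swap D (h.ofd hA) h.VX h.Xc ha hax hxy
  obtain ⟨B', hB', hBA⟩ := h.fam.cut A hA A' h1 hA' (le_antisymm (h.fam.best A hA A' h1 hA') h2)
  have hBM : B' ≤ M := (h.fam.le B' hB').trans h.SM
  have key : ∀ E F : Subgroup G, E ≤ M → F ≤ M → F ≤ E ⊔ centralizer (X : Set G) → ∀ b ∈ F, ∃ c ∈ E, D.r b = D.r c := by
    intro E F hE hF hFE b hb
    obtain ⟨c, hc, d, hd, rfl⟩ := Cfsg.Agent.Omega.SQ1.Bau.mem_sup_norm (A := E) (B := centralizer (X : Set G))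
      (fun g hg => mem_normalizer_iff.2 fun c => ⟨fun hc => h.norm_cX (hE hg) hc, fun hc => by
        have h3 := h.norm_cX (inv_mem (hE hg)) hc
        have e1 : g⁻¹ * (g * c * g⁻¹) * g⁻¹⁻¹ = c := by group
        rwa [e1] at h3⟩) (hFE hb)
    have hdM : d ∈ M := by
      have h3 := mul_mem (inv_mem (hE hc)) (hF hb)
      rwa [inv_mul_cancel_left] at h3
    refine ⟨c, hc, ?_⟩
    have h4 : D.r d = 1 := (D.r_eq_one_iff hdM).2 fun v hv => (mem_centralizer_iff.1 hd v (h.VX hv)).symm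
    rw [D.r_mul (hE hc) hdM, h4, mul_one]
  refine ⟨B', hB', ?_, fun b hb => ?_⟩
  · obtain ⟨c, hc, e1⟩ := key B' A' hBM hof.AM (by rw [hBA]; exact le_sup_left) a' ha'
    exact ⟨c, hc, by rw [← e1, e]⟩
  · obtain ⟨c, hc, e1⟩ := key A' B' hof.AM hBM (by rw [← hBA]; exact le_sup_left) b hb
    rw [e1]
    exact hall c hc

variable (D AA) in
omit h in
/-- the transposition `(x y)` is induced by `⟨AA⟩` -/
def Pr (x y : Pt) : Prop := x ≠ y ∧ D.blk x = D.blk y ∧ ∃ a ∈ sSup AA, D.r a = Equiv.swap x y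

omit h in
theorem Pr.symm {x y : Pt} (hp : Pr D AA x y) : Pr D AA y x := by
  obtain ⟨h1, h2, a, ha, h3⟩ := hp
  exact ⟨h1.symm, h2.symm, a, ha, by rw [h3, Equiv.swap_comm]⟩

theorem pr_of_move [Finite G] {A : Subgroup G} (hA : A ∈ AA) {a : G} (ha : a ∈ A) {x : Pt} (hx : D.r a x ≠ x) :
    Pr D AA x (D.r a x) := by
  obtain ⟨A', hA', -, ⟨a', ha', e⟩, -, -, -⟩ := Ofd.exists_swap D (h.ofd hA) h.VX h.Xc ha rfl hx.symm
  exact ⟨hx.symm, (Ofd.blk_eq D (h.ofd hA) h.VX h.Xc ha x).symm, a', (le_sSup hA) (hA' ha'), e⟩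

theorem r_pow_two {a : G} (ha : a ∈ (S : Subgroup G)) : ∃ n : ℕ, D.r a ^ (2 ^ n) = 1 := by
  obtain ⟨n, hn⟩ := S.isPGroup' ⟨a, ha⟩
  refine ⟨n, ?_⟩
  have hn' : a ^ 2 ^ n = 1 := congrArg Subtype.val hn
  have key : ∀ m : ℕ, D.r (a ^ m) = D.r a ^ m := by
    intro m
    induction m with
    | zero => rw [pow_zero, pow_zero, D.r_one]
    | succ m ih => rw [pow_succ, pow_succ, D.r_mul (M.pow_mem (h.SM ha) m) (h.SM ha), ih]
  rw [← key, hn', D.r_one]

theorem Pr_unique [Finite G] {x y z : Pt} (h1 : Pr D AA x y) (h2 : Pr D AA x z) : y = z := by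
  by_contra hyz
  obtain ⟨hxy, -, a, ha, ea⟩ := h1
  obtain ⟨hxz, -, b, hb, eb⟩ := h2
  have hab : a * b ∈ (S : Subgroup G) := mul_mem (h.J0S ha) (h.J0S hb)
  obtain ⟨n, hn⟩ := h.r_pow_two hab
  rw [D.r_mul (h.J0M ha) (h.J0M hb), ea, eb] at hn
  have h3 : (Equiv.swap x y * Equiv.swap x z) ^ 3 = 1 := by
    ext1 u
    simp only [pow_succ, pow_zero, one_mul, Equiv.Perm.mul_apply, Equiv.Perm.one_apply]
    by_cases hux : u = x
    · subst hux
      rw [Equiv.swap_apply_left, Equiv.swap_apply_of_ne_of_ne hxz.symm (Ne.symm hyz), Equiv.swap_apply_right,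
        Equiv.swap_apply_left, Equiv.swap_apply_of_ne_of_ne hxy.symm hyz, Equiv.swap_apply_right]
    · by_cases huy : u = y
      · subst huy
        rw [Equiv.swap_apply_of_ne_of_ne hux hyz, Equiv.swap_apply_right, Equiv.swap_apply_left,
          Equiv.swap_apply_of_ne_of_ne hxz.symm (Ne.symm hyz), Equiv.swap_apply_right, Equiv.swap_apply_left]
      · by_cases huz : u = z
        · subst huz
          rw [Equiv.swap_apply_right, Equiv.swap_apply_left, Equiv.swap_apply_of_ne_of_ne hxy.symm hyz,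
            Equiv.swap_apply_right, Equiv.swap_apply_left, Equiv.swap_apply_of_ne_of_ne hux huy]
        · simp only [Equiv.swap_apply_of_ne_of_ne hux huz, Equiv.swap_apply_of_ne_of_ne hux huy]
  have h4 : orderOf (Equiv.swap x y * Equiv.swap x z) ∣ 3 := orderOf_dvd_of_pow_eq_one h3
  have h5 : orderOf (Equiv.swap x y * Equiv.swap x z) ∣ 2 ^ n := orderOf_dvd_of_pow_eq_one hn
  have h6 : Nat.Coprime 3 (2 ^ n) := Nat.Coprime.pow_right n (by norm_num)
  have h7 : orderOf (Equiv.swap x y * Equiv.swap x z) = 1 := Nat.eq_one_of_dvd_coprimes h6 h4 h5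
  rw [orderOf_eq_one_iff] at h7
  have h8 := congrArg (fun σ : Equiv.Perm Pt => σ x) h7
  simp only [Equiv.Perm.mul_apply, Equiv.Perm.one_apply, Equiv.swap_apply_left] at h8
  rw [Equiv.swap_apply_of_ne_of_ne hxz.symm (Ne.symm hyz)] at h8
  exact hxz h8.symm

/-- every element of `J` maps a letter to itself or to its partner -/
theorem J_move [Finite G] {a : G} (ha : a ∈ J) (x : Pt) : D.r a x = x ∨ Pr D AA x (D.r a x) := by
  have key : ∀ a ∈ sSup AA ⊔ ((S : Subgroup G) ⊓ centralizer (V : Set G)),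
      ∀ x, D.r a x = x ∨ Pr D AA x (D.r a x) := by
    let N : Subgroup G :=
      { carrier := {a | a ∈ M ∧ ∀ x, D.r a x = x ∨ Pr D AA x (D.r a x)}
        mul_mem' := by
          rintro a b ⟨ha, ha'⟩ ⟨hb, hb'⟩
          refine ⟨mul_mem ha hb, fun x => ?_⟩
          rw [D.r_mul ha hb, Equiv.Perm.mul_apply]
          rcases hb' x with h1 | h1
          · rw [h1]; exact ha' x
          · rcases ha' (D.r b x) with h2 | h2
            · rw [h2]; exact Or.inr h1
            · left; exact h.Pr_unique h2 h1.symm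
        one_mem' := ⟨one_mem _, fun x => Or.inl (by rw [D.r_one]; rfl)⟩
        inv_mem' := by
          rintro a ⟨ha, ha'⟩
          refine ⟨inv_mem ha, fun x => ?_⟩
          rw [D.r_inv ha]
          rcases ha' ((D.r a)⁻¹ x) with h1 | h1
          · left
            rw [apply_inv_self'] at h1
            exact h1.symm
          · rw [apply_inv_self'] at h1
            exact Or.inr h1.symm }
    have h1 : sSup AA ≤ N := sSup_le fun A hA a ha => ⟨h.SM (h.fam.le A hA ha), fun x => by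
      by_cases hx : D.r a x = x
      · exact Or.inl hx
      · exact Or.inr (h.pr_of_move hA ha hx)⟩
    have h2 : (S : Subgroup G) ⊓ centralizer (V : Set G) ≤ N := by
      rintro a ⟨ha, hc⟩
      refine ⟨h.SM ha, fun x => Or.inl ?_⟩
      have h3 : D.r a = 1 := (D.r_eq_one_iff (h.SM ha)).2 fun v hv => (mem_centralizer_iff.1 hc v hv).symm
      rw [h3]; rfl
    exact fun a ha => (sup_le h1 h2 ha).2
  exact key a (h.Jg ha) x

theorem J0_le_J : sSup AA ≤ J := sSup_le h.AJ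

/-- a 2-group has a fixed point on an invariant odd set of letters -/
theorem fix_of_odd [Finite G] {A : Subgroup G} (hAM : A ≤ M) (hAp : IsPGroup 2 A) (K : Finset Pt) (hodd : Odd K.card)
    (hK : ∀ a ∈ A, ∀ y ∈ K, D.r a y ∈ K) : ∃ y ∈ K, ∀ a ∈ A, D.r a y = y := by
  classical
  let _ : MulAction A K :=
    { smul := fun g y => ⟨D.r g y.1, hK g g.2 y.1 y.2⟩
      one_smul := fun y => Subtype.ext (by show D.r ((1 : A) : G) y.1 = y.1; rw [Subgroup.coe_one, D.r_one]; rfl)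
      mul_smul := fun g g' y => Subtype.ext (by
        show D.r ((g * g' : A) : G) y.1 = D.r g (D.r g' y.1)
        rw [Subgroup.coe_mul, D.r_mul (hAM g.2) (hAM g'.2), Equiv.Perm.mul_apply]) }
  have hcard : ¬ 2 ∣ Nat.card K := by
    have e : Nat.card K = K.card := by
      rw [Nat.card_eq_fintype_card, Fintype.card_coe]
    rw [e]
    rw [← Nat.not_even_iff_odd, even_iff_two_dvd] at hodd
    exact hodd
  have : Fact (Nat.Prime 2) := ⟨Nat.prime_two⟩
  obtain ⟨y, hy⟩ := hAp.nonempty_fixed_point_of_prime_not_dvd_card K hcard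
  exact ⟨y.1, y.2, fun a ha => congrArg Subtype.val (hy (⟨a, ha⟩ : A))⟩

/-- **(i)** every block has a letter in no pair -/
theorem exists_un [Finite G] (x : Pt) : ∃ u, D.blk u = D.blk x ∧ ∀ y, ¬ Pr D AA u y := by
  obtain ⟨y, hy, hfix⟩ := h.fix_of_odd h.J0M (S.isPGroup'.to_le h.J0S)
    (Finset.univ.filter fun y => D.blk y = D.blk x) (D.odd x) fun a ha y hy => by
      rw [Finset.mem_filter] at hy ⊢
      refine ⟨Finset.mem_univ _, ?_⟩
      rcases h.J_move (h.J0_le_J ha) y with h1 | h1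
      · rw [h1]; exact hy.2
      · rw [← h1.2.1]; exact hy.2
  refine ⟨y, (Finset.mem_filter.1 hy).2, fun z hz => ?_⟩
  obtain ⟨hne, -, a, ha, e⟩ := hz
  have h1 := hfix a ha
  rw [e, Equiv.swap_apply_left] at h1
  exact hne h1.symm

/-- conjugates of `⟨AA⟩` -/
theorem cj_J0 [Finite G] {m : G} (hm : m ∈ M) (hle : cj m (sSup AA) ≤ (S : Subgroup G)) : cj m (sSup AA) = sSup AA := by
  have h1 : cj m (sSup AA) ≤ sSup AA := by
    show Subgroup.map _ _ ≤ _
    rw [Subgroup.map_le_iff_le_comap]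
    refine sSup_le fun A hA => ?_
    rw [← Subgroup.map_le_iff_le_comap]
    exact le_sSup (h.fam.conj A hA m (h.ML hm) ((cj_mono m (le_sSup hA)).trans hle))
  exact Subgroup.eq_of_le_of_card_ge h1 (by rw [card_cj])

theorem pe_comm_of {x y : Pt} (hxy : D.blk x = D.blk y) {a : G} (ha : a ∈ M) (h1 : D.r a x = x ∨ D.r a x = y)
    (h2 : D.r a y = y ∨ D.r a y = x) : a * D.pe x y = D.pe x y * a := by
  rw [D.comm_iff ha (D.pe_mem x y)]
  intro z
  rw [D.e_pe' hxy, D.e_pe' hxy]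
  by_cases hne : x = y
  · subst hne
    rw [add_self, add_self]
  have c1 : D.r a z = x ∨ D.r a z = y ↔ z = x ∨ z = y := by
    constructor
    · rintro (e | e)
      · rcases h1 with h1 | h1
        · left; exact (D.r a).injective (e.trans h1.symm)
        · rcases h2 with h2 | h2
          · exact absurd ((D.r a).injective (h1.trans h2.symm)) hne
          · right; exact (D.r a).injective (e.trans h2.symm)
      · rcases h2 with h2 | h2
        · right; exact (D.r a).injective (e.trans h2.symm)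
        · rcases h1 with h1 | h1
          · exact absurd ((D.r a).injective (h1.trans h2.symm)) hne
          · left; exact (D.r a).injective (e.trans h1.symm)
    · rintro (rfl | rfl)
      · exact h1
      · exact h2.symm
  have c2 : ∀ u, ((if u = x then (1 : ZMod 2) else 0) + if u = y then 1 else 0) = if u = x ∨ u = y then 1 else 0 := by
    intro u
    by_cases hu : u = x
    · subst hu; simp [hne]
    · simp [hu]
  rw [c2, c2]
  simp only [c1]

/-- if `a` commutes with the pair `{x, y}`, then it preserves `{x, y}` -/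
theorem of_pe_comm {x y : Pt} (hxy : D.blk x = D.blk y) (hne : x ≠ y) {a : G} (ha : a ∈ M)
    (h1 : a * D.pe x y = D.pe x y * a) : (D.r a x = x ∨ D.r a x = y) ∧ (D.r a y = y ∨ D.r a y = x) := by
  rw [D.comm_iff ha (D.pe_mem x y)] at h1
  have c2 : ∀ u, ((if u = x then (1 : ZMod 2) else 0) + if u = y then 1 else 0) = if u = x ∨ u = y then 1 else 0 := by
    intro u
    by_cases hu : u = x
    · subst hu; simp [hne]
    · simp [hu]
  have c3 : ∀ u, u = x ∨ u = y → D.r a u = x ∨ D.r a u = y := by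
    intro u hu
    have h2 := h1 u
    rw [D.e_pe' hxy, D.e_pe' hxy, c2, c2, if_pos hu] at h2
    by_contra hcon
    rw [if_neg hcon] at h2
    exact absurd h2 (by decide)
  exact ⟨c3 x (Or.inl rfl), (c3 y (Or.inr rfl)).symm⟩

/-- an element of `M` mapping `x`, `y` to `u`, `v` -/
theorem exists_map {x y u v : Pt} (hxy : x ≠ y) (huv : u ≠ v) (h1 : D.blk x = D.blk y) (h2 : D.blk u = D.blk v)
    (h3 : D.blk x = D.blk u) (hyu : y ≠ u) (hyv : y ≠ v) (hxu : x ≠ u) :
    ∃ m ∈ M, D.r m x = u ∧ D.r m y = v := by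
  obtain ⟨t, ht, et⟩ := D.full x u hxu h3
  obtain ⟨s, hs, es⟩ := D.full y v hyv (h1.symm.trans (h3.trans h2))
  have e1 : D.r t = Equiv.swap x u := D.r_eq ht et
  have e2 : D.r s = Equiv.swap y v := D.r_eq hs es
  refine ⟨s * t, mul_mem hs ht, ?_, ?_⟩
  · rw [D.r_mul hs ht, e1, e2, Equiv.Perm.mul_apply, Equiv.swap_apply_left, Equiv.swap_apply_of_ne_of_ne hyu.symm huv]
  · rw [D.r_mul hs ht, e1, e2, Equiv.Perm.mul_apply, Equiv.swap_apply_of_ne_of_ne hxy.symm hyu, Equiv.swap_apply_left]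

/-- **(ii)** there is only one such letter -/
theorem un_unique [Finite G] {u v : Pt} (huv : D.blk u = D.blk v) (hu : ∀ y, ¬ Pr D AA u y) (hv : ∀ y, ¬ Pr D AA v y) :
    u = v := by
  by_contra hne
  -- a pair in this block, and `A'` acting as its transposition
  obtain ⟨x, hx, A, hA, a, ha, hax⟩ := h.mv u
  set y := D.r a x with hy
  have hp := h.pr_of_move hA ha hax
  rw [← hy] at hp
  obtain ⟨A', hA', ⟨a', ha', ea'⟩, hall⟩ := h.exists_member hA ha hy.symm hp.1
  have hA'M : A' ≤ M := (h.fam.le A' hA').trans h.SM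
  -- `x, y, u, v` are distinct
  have hxu : x ≠ u := fun e => hu y (e ▸ hp)
  have hxv : x ≠ v := fun e => hv y (e ▸ hp)
  have hyu : y ≠ u := fun e => hu x (e ▸ hp.symm)
  have hyv : y ≠ v := fun e => hv x (e ▸ hp.symm)
  obtain ⟨m, hm, hmx, hmy⟩ := h.exists_map hp.1 hne hp.2.1 huv hx hyu hyv hxu
  -- `A₁ = A'^m` acts as `(u v)`
  have hA1 : ∀ b ∈ cj m A', b ∈ M ∧ (D.r b = 1 ∨ D.r b = Equiv.swap u v) := by
    rintro _ ⟨b, hb, rfl⟩
    have hbM := hA'M hb
    refine ⟨mul_mem (mul_mem hm hbM) (inv_mem hm), ?_⟩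
    show D.r (m * b * m⁻¹) = 1 ∨ D.r (m * b * m⁻¹) = _
    rw [D.r_mul (mul_mem hm hbM) (inv_mem hm), D.r_mul hm hbM, D.r_inv hm]
    rcases hall b hb with e | e
    · left; rw [e]; group
    · right
      rw [e, ← hmx, ← hmy, Equiv.swap_apply_apply]
  set K₀ : Subgroup G := M ⊓ centralizer ({D.pe u v} : Set G) with hK₀
  have hJK : sSup AA ≤ K₀ := by
    intro b hb
    refine ⟨h.J0M hb, mem_centralizer_singleton_iff.2 (h.pe_comm_of huv (h.J0M hb) ?_ ?_)⟩
    · left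
      exact (h.J_move (h.J0_le_J hb) u).resolve_right (hu _)
    · left
      exact (h.J_move (h.J0_le_J hb) v).resolve_right (hv _)
  have hAK : cj m A' ≤ K₀ := by
    intro b hb
    obtain ⟨hbM, hb'⟩ := hA1 b hb
    refine ⟨hbM, mem_centralizer_singleton_iff.2 (h.pe_comm_of huv hbM ?_ ?_)⟩
    · rcases hb' with e | e
      · left; rw [e]; rfl
      · right; rw [e, Equiv.swap_apply_left]
    · rcases hb' with e | e
      · left; rw [e]; rfl
      · right; rw [e, Equiv.swap_apply_right]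
  have hpA1 : IsPGroup 2 (cj m A' : Subgroup G) := (S.isPGroup'.to_le (h.fam.le A' hA')).map _
  obtain ⟨k, hk, R, hRK, hRp, hJR, hAR⟩ := exists_common (S.isPGroup'.to_le h.J0S) hpA1 hJK hAK
  obtain ⟨m', hm', hm'S⟩ := exists_into S h.SM hRp (hRK.trans inf_le_left)
  -- `J₀^m' = J₀`
  have hJ0 := h.cj_J0 hm' ((cj_mono m' hJR).trans hm'S)
  -- an element of `AA` acting as `A'`
  have hAS : cj (m' * k * m) A' ≤ (S : Subgroup G) := by
    rw [← cj_cj, ← cj_cj]
    exact (cj_mono m' hAR).trans hm'S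
  have hkM : k ∈ M := hk.1
  have hnM : m' * k * m ∈ M := mul_mem (mul_mem hm' hkM) hm
  have hAA := h.fam.conj A' hA' (m' * k * m) (h.ML hnM) hAS
  -- `(u v)` is induced by `⟨AA⟩`
  have hmem : k * m * a' * (k * m)⁻¹ ∈ sSup AA := by
    have h1 : m' * k * m * a' * (m' * k * m)⁻¹ ∈ sSup AA := (le_sSup hAA) ⟨a', ha', rfl⟩
    rw [← hJ0, mem_cj] at h1
    have e1 : m'⁻¹ * (m' * k * m * a' * (m' * k * m)⁻¹) * m' = k * m * a' * (k * m)⁻¹ := by group
    rwa [e1] at h1
  have hpe := h.of_pe_comm huv hne hkM (mem_centralizer_singleton_iff.1 hk.2)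
  have er : D.r (k * m * a' * (k * m)⁻¹) = Equiv.swap u v := by
    have e1 : D.r (k * m * a' * (k * m)⁻¹) = Equiv.swap (D.r k u) (D.r k v) := by
      rw [D.r_mul (mul_mem (mul_mem hkM hm) (hA'M ha')) (inv_mem (mul_mem hkM hm)),
        D.r_mul (mul_mem hkM hm) (hA'M ha'), D.r_inv (mul_mem hkM hm), D.r_mul hkM hm, ea', ← hmx, ← hmy,
        ← Equiv.Perm.mul_apply, ← Equiv.Perm.mul_apply, Equiv.swap_apply_apply]
    rw [e1]
    obtain ⟨h1, h2⟩ := hpe
    rcases h1 with h1 | h1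
    · rcases h2 with h2 | h2
      · rw [h1, h2]
      · exact absurd ((D.r k).injective (h1.trans h2.symm)) hne
    · rcases h2 with h2 | h2
      · exact absurd ((D.r k).injective (h1.trans h2.symm)) hne
      · rw [h1, h2, Equiv.swap_comm]
  exact hu v ⟨hne, huv, _, hmem, er⟩

end Lv

end Cfsg.Agent.Omega.NOThreeL.RRed.BFr
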