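import Cfsg.Agent.Omega.NOThreeL.RRed.BFr.HMStage
import Cfsg.Agent.Omega.NOThreeL.RRed.BFr.Plug

/-!
# NO-3L, box R: the frame over `B` at a general level `X`

`X ≥ V*` elementary abelian, `M₀ = MZ S ≤ N_G(X)`, `J = nxtX S X` (`C_S(X)` and the best offenders of `S` on `X`),
`Z_J = C_{V*}(J)`, `B = C_S(Z_J)`; e.g. `X = V*`.

* `Bd.lvX` : the level data; `Bd.zcQ_of` : `Ω₁Z(Q) ≤ X` implies `Ω₁Z(Q) ≤ V`;
* `Bd.frX` : the frame `FrL B Q V X Z_J L W Z C A 2`, if `Ω₁Z(Q) ≤ V`; `M ∩ N(B)` is transitive on the pairs;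
* `all_blocks` : if `J` moves `V*` then `J` moves all blocks (`V*` irreducible); `nxtX_Wd` : true for `X = V*`;
* **`exists_frX`** : the frame from the blocks.
-/

set_option autoImplicit false
set_option linter.unusedSectionVars false

namespace Cfsg.Agent.Omega.NOThreeL.RRed.BFr

open Subgroup Cfsg Cfsg.Agent.ZN.ChoiceBase Cfsg.Agent.Omega.MinPar Cfsg.Agent.Omega.Frame
open Cfsg.Agent.ZN (jj zj bau zc zl o2)
open Cfsg.Agent.Omega.NOThreeL.Merge (MZ le_MZ S_le_MZ isLoc_MZ zl_MZ_comm zl_MZ_isPGroup)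
open Cfsg.Agent.Omega.NOThreeL.RTree (RB)
open Cfsg.Agent.Omega.NO1.BestOff (Best exists_best)
open Cfsg.Agent.Omega.NO3S.OneLine (BFam bo bo_fam)
open Cfsg.Agent.Omega.OM.Lev.Uni (FrL)
open Cfsg.Agent.Omega.NOThreeL.RZ (RR)
open Cfsg.Agent.Omega.NOThreeL.RRed (Wd zl_le_Wd)
open Cfsg.Agent.Omega.NOThreeL.RRed.FourTree (Bks nxtX ffMod_rr)
open Cfsg.Agent.Omega.NOThreeL.RRed.HypJOf (Fx mem_fx best_le_fx par_move norm_nxtX norm_nxtX_of nxtX_le trans_of_irr
  ofd_of)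
open scoped Pointwise

universe u

variable {G : Type u} [Group G]

theorem nxtX_eq (S X : Subgroup G) : nxtX S X = (S ⊓ centralizer (X : Set G)) ⊔ sSup (bo S X) := by
  have h : {A | A ≤ S ∧ Best X A} = bo S X := by
    ext A
    constructor
    · rintro ⟨h1, h2⟩
      exact ⟨h1, h2.toElemM, fun B h3 h4 => h2.max B h4 h3⟩
    · rintro ⟨h1, h2, h3⟩
      exact ⟨h1, h2, fun B h4 h5 => h3 B h5 h4⟩
  rw [nxtX, h]

section abs

variable {S : Sylow 2 G} {M V : Subgroup G} {Pt I : Type} [Fintype Pt] [DecidableEq Pt] [DecidableEq I]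
  {D : Pts M V Pt I}

namespace Bd

variable (h : Bd S D) [Finite G] {X : Subgroup G} (elX : IsElementaryAbelian 2 X) (VX : V ≤ X)
  (MX : M ≤ normalizer (X : Set G)) (mv : Mvb D (nxtX (S : Subgroup G) X))
include h elX VX MX mv

/-- the level data at `X` -/
theorem lvX : Lv S D X (normalizer (X : Set G)) (nxtX (S : Subgroup G) X) (bo (S : Subgroup G) X) where
  SM := h.SM
  ML := MX
  fam := bo_fam _ _
  elX := elX
  VX := VX
  VS := h.VS
  MX g hg x hx := (mem_normalizer_iff.1 (MX hg) x).1 hx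
  MQ := h.MQ
  AJ A hA := by
    rw [nxtX_eq]
    exact (le_sSup hA).trans le_sup_right
  JS := nxtX_le _ _
  Jg := by
    rw [nxtX_eq]
    exact sup_le ((inf_le_inf_left _ (centralizer_le VX)).trans le_sup_right) le_sup_left
  mv := by
    refine mv_of (K := nxtX (S : Subgroup G) X) (C := (S : Subgroup G) ⊓ centralizer (X : Set G))
      ((sSup_le fun A hA => hA.1).trans h.SM) (inf_le_left.trans h.SM) (inf_le_right.trans (centralizer_le VX)) ?_ mv
    rw [nxtX_eq]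

/-- `Ω₁Z(Q) ≤ X` implies `Ω₁Z(Q) ≤ V` -/
theorem zcQ_of (hX : zc ((S : Subgroup G) ⊓ centralizer (V : Set G)) ≤ X) : Lv.ZcQ (S : Subgroup G) V :=
  fun x h1 h2 h3 => (h.lvX elX VX MX mv).zcQ h.ZV hX (mem_zc.2 ⟨h1, h2, fun y hy => (h3 y hy).symm⟩)

/-- **THE FRAME OVER `B` at the level `X`.** -/
theorem frX (hz : Lv.ZcQ (S : Subgroup G) V) (tr : ∀ x y : Pt, ∃ m ∈ M, D.blk (D.r m x) = D.blk y) :
    ∃ L W Z C A : Idx D (bo (S : Subgroup G) X) → Subgroup G, (∀ i, L i ≤ M) ∧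
      FrL (BB (S : Subgroup G) V (nxtX (S : Subgroup G) X)) ((S : Subgroup G) ⊓ centralizer (V : Set G)) V X
        (ZJ V (nxtX (S : Subgroup G) X)) L W Z C A 2 ∧
      ∀ i j, ∃ g ∈ M, g ∈ normalizer (BB (S : Subgroup G) V (nxtX (S : Subgroup G) X) : Set G) ∧ cj g (W i) = W j := by
  obtain ⟨L, A, h1, -, -, h2⟩ := (h.lvX elX VX MX mv).exists_frL hz
  exact ⟨L, _, _, _, A, fun i => (h1 i).trans ((h.lvX elX VX MX mv).XX_le_M i), h2, (h.lvX elX VX MX mv).hM tr⟩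

end Bd

end abs

section box

variable [Finite G] {S : Sylow 2 G} {I : Type u} [Fintype I] [DecidableEq I] {N E : I → Subgroup G} {Om : I → Type u}
  [∀ i, Fintype (Om i)] [∀ i, DecidableEq (Om i)] {phi : ∀ i, Finset (Om i) → G}

/-- **If `nxtX S X` moves `V*` then it moves all blocks** (`V*` irreducible). -/
theorem all_blocks (B : RB S) (hB : Bks S N E ⊥ Om phi)
    (irr : ∀ U : Subgroup G, U ≤ Wd (S : Subgroup G) → MZ (S : Subgroup G) ≤ normalizer (U : Set G) → U ≠ ⊥ →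
      Wd (S : Subgroup G) ≤ U) {X : Subgroup G} (hXc : ∀ x ∈ X, ∀ y ∈ X, x * y = y * x)
    (VX : Wd (S : Subgroup G) ≤ X) (MX : MZ (S : Subgroup G) ≤ normalizer (X : Set G))
    (hj : ¬ nxtX (S : Subgroup G) X ≤ centralizer (Wd (S : Subgroup G) : Set G)) :
    ∀ b, ¬ nxtX (S : Subgroup G) X ≤ centralizer (N b : Set G) := by
  have hG := B.ctx
  have hSM := S_le_MZ hG B.full
  have tr := trans_of_irr hB.toDec irr
  have hperm : ∀ g ∈ MZ (S : Subgroup G), ∀ b, ∃ c, MulAut.conj g • N b = N c := fun g hg b => by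
    obtain ⟨c, hc, -⟩ := hB.toDec.perm g hg b
    exact ⟨c, hc⟩
  have hsup : (⨆ b, N b) = Wd (S : Subgroup G) := by
    have := hB.toDec.sup
    rwa [sup_bot_eq] at this
  have hmv : ∃ b, ¬ nxtX (S : Subgroup G) X ≤ centralizer (N b : Set G) := by
    by_contra hcon
    push Not at hcon
    apply hj
    rw [le_centralizer_iff, ← hsup]
    exact iSup_le fun b => le_centralizer_iff.1 (hcon b)
  refine RWide.LemM.mv_all (PP := {P | IsParS (S : Subgroup G) P}) hperm ?_ tr hmv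
  intro P hP
  refine par_move hperm hP (le_MZ hP) ?_ (nxtX_le _ _) ?_ fun h => norm_nxtX hP ((le_MZ hP).trans MX) h
  · refine sup_le ?_ (sSup_le fun A hA => best_le_fx hB.toFull (ofd_of hA.1 hSM hA.2) VX hXc)
    rintro c ⟨hcS, hcX⟩
    exact mem_fx.2 ⟨hSM hcS, fun b => hB.toDec.EN b (hB.toDec.CE b ⟨hSM hcS, centralizer_le VX hcX⟩)⟩
  · exact norm_nxtX_of (hSM.trans MX) fun g hg x hx => mul_mem (mul_mem hg (nxtX_le _ _ hx)) (inv_mem hg)

omit [Finite G] in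
/-- `V*` is FF: the best offenders of `S` on `V*` move `V*` -/
theorem nxtX_Wd [Finite G] (B : RB S) (hr : RR (S : Subgroup G) = ⊥) :
    ¬ nxtX (S : Subgroup G) (Wd (S : Subgroup G)) ≤ centralizer (Wd (S : Subgroup G) : Set G) := by
  obtain ⟨A, hA, ho⟩ := ffMod_rr B hr
  obtain ⟨A', h1, h2, h3⟩ := exists_best ho
  intro hc
  exact h3 ((le_sSup (show A' ∈ {A | A ≤ (S : Subgroup G) ∧ Best (Wd (S : Subgroup G)) A} from ⟨h1.trans hA, h2⟩)).trans
    (le_sup_right.trans hc))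

/-- **THE FRAME OVER `B` AT A GENERAL LEVEL `X`.** -/
theorem exists_frX (B : RB S) (hB : Bks S N E ⊥ Om phi)
    (irr : ∀ U : Subgroup G, U ≤ Wd (S : Subgroup G) → MZ (S : Subgroup G) ≤ normalizer (U : Set G) → U ≠ ⊥ →
      Wd (S : Subgroup G) ≤ U) {X : Subgroup G} (elX : IsElementaryAbelian 2 X) (VX : Wd (S : Subgroup G) ≤ X)
    (MX : MZ (S : Subgroup G) ≤ normalizer (X : Set G))
    (hz : zc ((S : Subgroup G) ⊓ centralizer (Wd (S : Subgroup G) : Set G)) ≤ X ∨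
      zc ((S : Subgroup G) ⊓ centralizer (Wd (S : Subgroup G) : Set G)) ≤ Wd (S : Subgroup G))
    (hj : ¬ nxtX (S : Subgroup G) X ≤ centralizer (Wd (S : Subgroup G) : Set G)) :
    ∃ (ι : Type) (_ : Finite ι) (L W Z C A : ι → Subgroup G), Nonempty ι ∧
      (∑ i, Fintype.card (Om i)) ≤ 2 * Nat.card ι + Fintype.card I ∧ (∀ i, L i ≤ MZ (S : Subgroup G)) ∧
      FrL (BB (S : Subgroup G) (Wd (S : Subgroup G)) (nxtX (S : Subgroup G) X))
        ((S : Subgroup G) ⊓ centralizer (Wd (S : Subgroup G) : Set G)) (Wd (S : Subgroup G)) X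
        (ZJ (Wd (S : Subgroup G)) (nxtX (S : Subgroup G) X)) L W Z C A 2 ∧
      ∀ i j, ∃ g ∈ MZ (S : Subgroup G),
        g ∈ normalizer (BB (S : Subgroup G) (Wd (S : Subgroup G)) (nxtX (S : Subgroup G) X) : Set G) ∧
          cj g (W i) = W j := by
  have hbd := bd_of B hB
  have hXc : ∀ x ∈ X, ∀ y ∈ X, x * y = y * x := SQ1.Bau.elem_comm elX
  have hm := mvb_of hB ((nxtX_le _ _).trans (S_le_MZ B.ctx B.full)) (all_blocks B hB irr hXc VX MX hj)
  have hl := hbd.lvX elX VX MX hm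
  have hzc : Lv.ZcQ (S : Subgroup G) (Wd (S : Subgroup G)) := by
    rcases hz with hz | hz
    · exact hbd.zcQ_of elX VX MX hm hz
    · exact fun x h1 h2 h3 => hz (mem_zc.2 ⟨h1, h2, fun y hy => (h3 y hy).symm⟩)
  obtain ⟨b⟩ := hB.nonempty
  have : Nonempty (Fin (Fintype.card (Σ i, Om i))) := by
    have h3 := hB.toFull.three b
    obtain ⟨a⟩ : Nonempty (Om b) := Fintype.card_pos_iff.1 (by omega)
    exact ⟨(fP Om).symm ⟨b, a⟩⟩
  obtain ⟨L, W, Z, C, A, h1, h2, h4⟩ := hbd.frX elX VX MX hm hzc ((ofFull hB.toFull).tr_of_irr irr)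
  refine ⟨_, inferInstance, L, W, Z, C, A, ?_, ?_, h1, h2, h4⟩
  · obtain ⟨i, -⟩ := hl.exists_idx (Classical.arbitrary _)
    exact ⟨i⟩
  · have h3 := card_le_idx hl
    rw [Fintype.card_fin, Fintype.card_fin] at h3
    exact (Fintype.card_sigma).ge.trans h3

end box

end Cfsg.Agent.Omega.NOThreeL.RRed.BFr
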