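import Cfsg.Agent.Omega.NOThreeL.RRed.BFr.LevTn
import Cfsg.Agent.Omega.NOThreeL.RRed.BFr.Top
import Cfsg.Agent.Omega.NOThreeL.RLev.Chain

/-!
# NO-3L, box R, `q = 2`, one class, the top level `(Q, V*)`: `⟨C_G(Z_J), L i⟩` is local

`hl : LevX S K V*` (e.g. `K = Q = C_S(V*)`), `Ω₁Z(Q) ≤ V*`, `J = nxtX S V*`, `Z_J = C_{V*}(J)`, `B = C_S(Z_J)`.

* `lev_J`, `ZJ_eq` : `J` is a level, `Z_J = Ω₁(Z(J))`; `norm_B_le` : `N_G(B) ≤ N_G(V*)`; `wc_B`, `syl_B`;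
* `uni_top` : UNI+ for `N_G(B)`;
* `false_top` : THEOREM S''T at `(Q, V*)`;
* **`exists_top`** : the frame over `B` and a 2-group `R ≠ 1` normalised by `C_G(Z_J)` and all `L i`; `three` : at least
  three pairs;
* **`o2_ne_top`** : `O₂(⟨C_G(Z_J), L i⟩) ≠ 1`.
-/

set_option autoImplicit false
set_option linter.unusedSectionVars false

namespace Cfsg.Agent.Omega.NOThreeL.RRed.BFr

open Subgroup Cfsg Cfsg.Agent.ZN.ChoiceBase Cfsg.Agent.Omega.MinPar Cfsg.Agent.Omega.Frame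
open Cfsg.Agent.ZN (jj zj bau zc zl o2)
open Cfsg.Agent.Omega.NOThreeL.Merge (MZ le_MZ S_le_MZ)
open Cfsg.Agent.Omega.NOThreeL.RTree (RB)
open Cfsg.Agent.Omega.NO3S.Level (Lev)
open Cfsg.Agent.Omega.NO3S.OneLine (bo)
open Cfsg.Agent.Omega.OM.Lev.Uni (FrL)
open Cfsg.Agent.Omega.NOThreeL.RZ (RR)
open Cfsg.Agent.Omega.NOThreeL.RRed (Wd zl_le_Wd)
open Cfsg.Agent.Omega.NOThreeL.RRed.FourTree (Bks nxtX LevX)
open Cfsg.Agent.Omega.NOThreeL.RRed.HypJOf (nxtX_le)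
open Cfsg.Agent.Omega.Node.MultiOf (FBl)
open Cfsg.Agent.Omega.EDel (YL le_YL_of)

universe u

variable {G : Type u} [Group G]

section lev

variable [Finite G] {S : Sylow 2 G} {K V : Subgroup G}

/-- `J = nxtX S X` is a level -/
theorem lev_J {X : Subgroup G} (h : LevX (S : Subgroup G) K X) : Lev (S : Subgroup G) (nxtX (S : Subgroup G) X) :=
  RLev.nextX h.toLev h.Xle h.Xn

theorem K_le_J {X : Subgroup G} (h : LevX (S : Subgroup G) K X) : K ≤ nxtX (S : Subgroup G) X :=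
  RLev.le_nxtX h.le h.Xle

theorem J_le_BB (S V J : Subgroup G) (hJ : J ≤ S) : J ≤ BB S V J := fun a ha =>
  mem_inf.2 ⟨hJ ha, mem_centralizer_iff.2 fun z hz => (mem_centralizer_iff.1 (mem_inf.1 hz).2 a ha).symm⟩

/-- `Z_J = Ω₁(Z(J))` -/
theorem ZJ_eq (hV : IsElementaryAbelian 2 V) (hVS : V ≤ (S : Subgroup G))
    (hz : zc ((S : Subgroup G) ⊓ centralizer (V : Set G)) ≤ V) :
    ZJ V (nxtX (S : Subgroup G) V) = zc (nxtX (S : Subgroup G) V) := by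
  have hVc : V ≤ centralizer (V : Set G) := fun v hv => mem_centralizer_iff.2 fun w hw =>
    SQ1.Bau.elem_comm hV w hw v hv
  have hQJ : (S : Subgroup G) ⊓ centralizer (V : Set G) ≤ nxtX (S : Subgroup G) V := le_sup_left
  have hVJ : V ≤ nxtX (S : Subgroup G) V := (le_inf hVS hVc).trans hQJ
  apply le_antisymm
  · intro v hv
    obtain ⟨h1, h2⟩ := mem_inf.1 hv
    refine mem_zc.2 ⟨hVJ h1, SQ1.Bau.elem_sq hV v h1, fun y hy => mem_centralizer_iff.1 h2 y hy⟩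
  · intro v hv
    obtain ⟨h1, h2, h3⟩ := mem_zc.1 hv
    have hvQ : v ∈ (S : Subgroup G) ⊓ centralizer (V : Set G) :=
      mem_inf.2 ⟨nxtX_le _ _ h1, mem_centralizer_iff.2 fun w hw => h3 w (hVJ hw)⟩
    exact mem_inf.2 ⟨hz (mem_zc.2 ⟨hvQ, h2, fun y hy => h3 y (hQJ hy)⟩), mem_centralizer_iff.2 fun y hy => h3 y hy⟩

variable (hl : LevX (S : Subgroup G) K V)
include hl

theorem norm_B_le : normalizer (BB (S : Subgroup G) V (nxtX (S : Subgroup G) V) : Set G) ≤ normalizer (V : Set G) :=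
  (hl.norm _ ((K_le_J hl).trans (J_le_BB _ _ _ (nxtX_le _ _))) inf_le_left).trans hl.Xn

theorem wc_B (hV : IsElementaryAbelian 2 V) (hVS : V ≤ (S : Subgroup G))
    (hz : zc ((S : Subgroup G) ⊓ centralizer (V : Set G)) ≤ V) :
    OM.WeakCl.WC (BB (S : Subgroup G) V (nxtX (S : Subgroup G) V)) :=
  OM.Lev.Wc.wc_cent_Lev (lev_J hl) (by unfold BB; rw [ZJ_eq hV hVS hz])

theorem S_norm_ZJ (hV : IsElementaryAbelian 2 V) (hVS : V ≤ (S : Subgroup G))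
    (hz : zc ((S : Subgroup G) ⊓ centralizer (V : Set G)) ≤ V) :
    (S : Subgroup G) ≤ normalizer (ZJ V (nxtX (S : Subgroup G) V) : Set G) := by
  rw [ZJ_eq hV hVS hz]
  exact OM.Lev.Wc.S_norm_Lev (lev_J hl)

/-- `B` is Sylow in `C_G(Z_J)` -/
theorem syl_top (hV : IsElementaryAbelian 2 V) (hVS : V ≤ (S : Subgroup G))
    (hz : zc ((S : Subgroup G) ⊓ centralizer (V : Set G)) ≤ V) {R : Subgroup G}
    (hR : R ≤ centralizer (ZJ V (nxtX (S : Subgroup G) V) : Set G)) (hR2 : IsPGroup 2 R)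
    (hBR : BB (S : Subgroup G) V (nxtX (S : Subgroup G) V) ≤ R) :
    R ≤ BB (S : Subgroup G) V (nxtX (S : Subgroup G) V) :=
  ((OM.WOneG.syl_B S rfl (S_norm_ZJ hl hV hVS hz)).2.2 R hR hR2 hBR).le

/-- **UNI+ for `N_G(B)`** -/
theorem uni_top {ι : Type} [Finite ι] {Q : Subgroup G} {L W Z C A : ι → Subgroup G}
    (hVS : V ≤ (S : Subgroup G)) (hz : zc ((S : Subgroup G) ⊓ centralizer (V : Set G)) ≤ V)
    (fr : FrL (BB (S : Subgroup G) V (nxtX (S : Subgroup G) V)) Q V V (ZJ V (nxtX (S : Subgroup G) V)) L W Z C A 2)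
    {g : G} (hg : g ∈ normalizer (BB (S : Subgroup G) V (nxtX (S : Subgroup G) V) : Set G)) (i : ι) :
    ∃ j, cj g (W i) = W j ∧ cj g (L i) ≤ YL (ZJ V (nxtX (S : Subgroup G) V)) L j := by
  have hwc := wc_B hl fr.elX hVS hz
  have hB : IsPGroup 2 (BB (S : Subgroup G) V (nxtX (S : Subgroup G) V)) := S.isPGroup'.to_le inf_le_left
  have hp : ∀ g ∈ normalizer (BB (S : Subgroup G) V (nxtX (S : Subgroup G) V) : Set G), ∀ j, ∃ k,
      cj g (Z j) = Z k := by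
    intro g hg j
    obtain ⟨k, hk, -⟩ := (fr.norm_of hg (norm_B_le hl hg)).2 j
    exact ⟨k, hk⟩
  have h1 := (fr.blk i).conj g
  rw [cj_eq_of_mem_normalizer hg] at h1
  obtain ⟨-, k, -, -, -, -, h2⟩ := OM.Lev.UniPlus.uniPlusX fr hB hwc hp h1 (by
    rw [← cj_eq_of_mem_normalizer (norm_B_le hl hg)]
    exact cj_mono g (fr.WV i))
  obtain ⟨h3, h4⟩ := h2 rfl
  exact ⟨k, h3, le_YL_of h4⟩

end lev

section box

variable [Finite G] {S : Sylow 2 G} {I : Type u} [Fintype I] [DecidableEq I] {N E : I → Subgroup G} {Om : I → Type u}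
  [∀ i, Fintype (Om i)] [∀ i, DecidableEq (Om i)] {phi : ∀ i, Finset (Om i) → G}

/-- **THE TOP LEVEL**: the frame over `B`, at least three pairs, and `⟨C_G(Z_J), L i⟩` normalises a 2-group `≠ 1`. -/
theorem exists_top (hML : ML.Final.MLK.{u, u}) (B : RB S) (hr : RR (S : Subgroup G) = ⊥) (hB : Bks S N E ⊥ Om phi)
    (h4 : 4 ≤ Nat.card (zc (S : Subgroup G)))
    (irr : ∀ U : Subgroup G, U ≤ Wd (S : Subgroup G) → MZ (S : Subgroup G) ≤ normalizer (U : Set G) → U ≠ ⊥ →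
      Wd (S : Subgroup G) ≤ U) {K : Subgroup G} (hl : LevX (S : Subgroup G) K (Wd (S : Subgroup G)))
    (hz : zc ((S : Subgroup G) ⊓ centralizer (Wd (S : Subgroup G) : Set G)) ≤ Wd (S : Subgroup G)) :
    ∃ (ι : Type) (_ : Finite ι) (L W Z C A : ι → Subgroup G), Nonempty ι ∧ (∀ i j : ι, ∃ l, l ≠ i ∧ l ≠ j) ∧
      (∀ i, L i ≤ MZ (S : Subgroup G)) ∧
      FrL (BB (S : Subgroup G) (Wd (S : Subgroup G)) (nxtX (S : Subgroup G) (Wd (S : Subgroup G))))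
        ((S : Subgroup G) ⊓ centralizer (Wd (S : Subgroup G) : Set G)) (Wd (S : Subgroup G)) (Wd (S : Subgroup G))
        (ZJ (Wd (S : Subgroup G)) (nxtX (S : Subgroup G) (Wd (S : Subgroup G)))) L W Z C A 2 ∧
      (∀ i j, ∃ g ∈ MZ (S : Subgroup G),
        g ∈ normalizer (BB (S : Subgroup G) (Wd (S : Subgroup G))
          (nxtX (S : Subgroup G) (Wd (S : Subgroup G))) : Set G) ∧ cj g (W i) = W j) ∧
      ∃ R : Subgroup G, R ≠ ⊥ ∧ IsPGroup 2 R ∧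
        centralizer (ZJ (Wd (S : Subgroup G)) (nxtX (S : Subgroup G) (Wd (S : Subgroup G))) : Set G) ≤
          normalizer (R : Set G) ∧ ∀ i, L i ≤ normalizer (R : Set G) := by
  have hbd := bd_of B hB
  have elX : IsElementaryAbelian 2 (Wd (S : Subgroup G)) := V_elem (ofFull hB.toFull)
  have hXc := SQ1.Bau.elem_comm elX
  have MX : MZ (S : Subgroup G) ≤ normalizer (Wd (S : Subgroup G) : Set G) := hl.MX
  have hm := mvb_of hB ((nxtX_le _ _).trans (S_le_MZ B.ctx B.full))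
    (all_blocks B hB irr hXc le_rfl MX (nxtX_Wd B hr))
  have hlv := hbd.lvX elX le_rfl MX hm
  have hzc : Lv.ZcQ (S : Subgroup G) (Wd (S : Subgroup G)) := fun x h1 h2 h3 =>
    hz (mem_zc.2 ⟨h1, h2, fun y hy => (h3 y hy).symm⟩)
  obtain ⟨b⟩ := hB.nonempty
  have hPt : Nonempty (Fin (Fintype.card (Σ i, Om i))) := by
    have h3 := hB.toFull.three b
    obtain ⟨a⟩ : Nonempty (Om b) := Fintype.card_pos_iff.1 (by omega)
    exact ⟨(fP Om).symm ⟨b, a⟩⟩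
  obtain ⟨Lb, A, h1, -, -, h2⟩ := hlv.exists_frL hzc
  have tr := (ofFull hB.toFull).tr_of_irr irr
  have hVS := hbd.VS
  have hzZ : zc (S : Subgroup G) ≤ ZJ (Wd (S : Subgroup G)) (nxtX (S : Subgroup G) (Wd (S : Subgroup G))) := fun v hv =>
    mem_inf.2 ⟨hbd.ZV hv, mem_centralizer_iff.2 fun y hy => (mem_zc.1 hv).2.2 y (nxtX_le _ _ hy)⟩
  obtain ⟨i₀, -⟩ := hlv.exists_idx (Classical.arbitrary _)
  have : Nonempty (Idx (ofFull hB.toFull) (bo (S : Subgroup G) (Wd (S : Subgroup G)))) := ⟨i₀⟩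
  refine ⟨_, inferInstance, Lb, hlv.W, _, _, A, ⟨i₀⟩, hlv.three tr hzZ h4, fun i => (h1 i).trans (hlv.XX_le_M i), h2,
    hlv.hM tr, ?_⟩
  by_contra hno
  push Not at hno
  refine hlv.false_T h2 hML B.ctx.char2 B.ctx.kproper (fun R hR hR2 hBR => syl_top hl elX hVS hz hR hR2 hBR)
    (fun g hg i => uni_top hl hVS hz h2 hg i) (fun U hU hD hLU => ?_) tr MZ_le_sSup hzZ h4
  by_contra hU1
  obtain ⟨i, hi⟩ := hno U hU1 hU hD
  exact hi (hLU i)

/-- **THEOREM S''T at `(Q, V*)`.** -/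
theorem false_top (hML : ML.Final.MLK.{u, u}) (B : RB S) (hr : RR (S : Subgroup G) = ⊥) (hB : Bks S N E ⊥ Om phi)
    (h4 : 4 ≤ Nat.card (zc (S : Subgroup G)))
    (irr : ∀ U : Subgroup G, U ≤ Wd (S : Subgroup G) → MZ (S : Subgroup G) ≤ normalizer (U : Set G) → U ≠ ⊥ →
      Wd (S : Subgroup G) ≤ U) {K : Subgroup G} (hl : LevX (S : Subgroup G) K (Wd (S : Subgroup G)))
    (hz : zc ((S : Subgroup G) ⊓ centralizer (Wd (S : Subgroup G) : Set G)) ≤ Wd (S : Subgroup G))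
    (loc : ∀ (ι : Type) (L W Z C A : ι → Subgroup G), Finite ι → Nonempty ι → (∀ i j : ι, ∃ l, l ≠ i ∧ l ≠ j) →
      (∀ i, L i ≤ MZ (S : Subgroup G)) →
      FrL (BB (S : Subgroup G) (Wd (S : Subgroup G)) (nxtX (S : Subgroup G) (Wd (S : Subgroup G))))
        ((S : Subgroup G) ⊓ centralizer (Wd (S : Subgroup G) : Set G)) (Wd (S : Subgroup G)) (Wd (S : Subgroup G))
        (ZJ (Wd (S : Subgroup G)) (nxtX (S : Subgroup G) (Wd (S : Subgroup G)))) L W Z C A 2 →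
      (∀ i j, ∃ g ∈ MZ (S : Subgroup G),
        g ∈ normalizer (BB (S : Subgroup G) (Wd (S : Subgroup G))
          (nxtX (S : Subgroup G) (Wd (S : Subgroup G))) : Set G) ∧ cj g (W i) = W j) →
      ∀ R : Subgroup G, R ≠ ⊥ → IsPGroup 2 R →
        centralizer (ZJ (Wd (S : Subgroup G)) (nxtX (S : Subgroup G) (Wd (S : Subgroup G))) : Set G) ≤
          normalizer (R : Set G) → (∀ i, L i ≤ normalizer (R : Set G)) → False) : False := by
  obtain ⟨ι, h1, L, W, Z, C, A, h2, h3, h5, h6, h7, R, h8, h9, h10, h11⟩ := exists_top hML B hr hB h4 irr hl hz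
  exact loc ι L W Z C A h1 h2 h3 h5 h6 h7 R h8 h9 h10 h11

omit [Finite G] in
/-- a group `H ≥ C_G(Z_J)` normalising a 2-group `R ≠ 1` has `O₂(H) ≠ 1` -/
theorem o2_ne_of [Finite G] {J H R : Subgroup G} {V : Subgroup G} (hV : V ≤ (S : Subgroup G))
    (hVc : ∀ x ∈ V, ∀ y ∈ V, x * y = y * x)
    (hH : centralizer (ZJ V J : Set G) ≤ H) (hR1 : R ≠ ⊥) (hR : IsPGroup 2 R) (hn : H ≤ normalizer (R : Set G)) :
    o2 H ≠ ⊥ := by
  have hBp : IsPGroup 2 (BB (S : Subgroup G) V J) := S.isPGroup'.to_le inf_le_left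
  have hBH : BB (S : Subgroup G) V J ≤ H := inf_le_right.trans hH
  have h1 : zc R ≠ ⊥ := MinSimple.Basic.zc_ne_bot hR hR1
  have hn1 : normalizer (R : Set G) ≤ normalizer (zc R : Set G) := NO3S.Level.normalizer_le_zc _
  obtain ⟨c, hc, hc1, hcB⟩ := exists_fix_ne hBp (C := zc R) (fun c hc => by
    rw [← pow_two]; exact (mem_zc.1 hc).2.1) h1 fun s hs c hc =>
      (mem_normalizer_iff.1 (hn1 (hn (hBH hs))) c).1 hc
  have hZB : ZJ V J ≤ BB (S : Subgroup G) V J := fun v hv => mem_inf.2 ⟨hV (mem_inf.1 hv).1,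
    mem_centralizer_iff.2 fun w hw => hVc w (mem_inf.1 hw).1 v (mem_inf.1 hv).1⟩
  have hcH : c ∈ H := hH (mem_centralizer_iff.2 fun z hz => hcB z (hZB hz))
  have hcR : c ∈ R := (mem_zc.1 hc).1
  have h2 : R ⊓ H ≤ o2 H := by
    refine MinSimple.VModule.le_o2 inf_le_right (hR.to_le inf_le_left) fun g hg => ?_
    rw [mem_normalizer_iff_cj, cj_inf, cj_eq_of_mem_normalizer (hn hg), cj_eq_of_mem_normalizer (le_normalizer hg)]
  intro e
  rw [e] at h2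
  exact hc1 (mem_bot.1 (h2 (mem_inf.2 ⟨hcR, hcH⟩)))

end box

end Cfsg.Agent.Omega.NOThreeL.RRed.BFr
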