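import Cfsg.Agent.Omega.NOThreeL.RRed.BFr.Pairs
import Cfsg.Agent.Omega.NO3S.Level.Basic

/-!
# NO-3L, box R: no fixed points outside `V` (#23929 (1a), (1b))

`D : Pts M V Pt I`, `S` a Sylow 2-subgroup of `G` in `M`.

* `Gd D Y a` : `a ∈ M`, every `y ∈ Y` is congruent mod `V` to an element which commutes with `a`;
* `Pts.core` : `V ≤ Y` abelian, `M`-invariant, every block contains a transposition induced by some `a` with `Gd D Y a`, the
  elements of `M` which centralise `V` and `Y / V` centralise `Y`, `C_Y(S) ≤ V`; then `Y ≤ V`;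
* `Lv.gd` : members of `AA` give such elements; `Lv.zcQ` : `Ω₁(Z(C_S(V))) ≤ V`; `Lv.zcJ` : `Ω₁(Z(J)) ≤ V`.
-/

set_option autoImplicit false
set_option linter.unusedSectionVars false

namespace Cfsg.Agent.Omega.NOThreeL.RRed.BFr

open Subgroup Cfsg Cfsg.Agent.ZN Cfsg.Agent.ZN.ChoiceBase
open Cfsg.Agent.Omega.SQ1.Bau (mem_sup_comm card_sup_comm elem_comm elem_sq)
open Cfsg.Agent.Omega.OM.Lev.Uni (Best)
open Cfsg.Agent.Omega.FFThm (ElemM)
open Cfsg.Agent.Omega.NO3S.OneLine (BFam)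

universe u

variable {G : Type u} [Group G]

/-- a 2-group `S` acting on a 2-group `C ≠ 1` has a fixed point `≠ 1` -/
theorem exists_fix_ne [Finite G] {S C : Subgroup G} (hS : IsPGroup 2 S) (hC2 : ∀ c ∈ C, c * c = 1) (hC : C ≠ ⊥)
    (hn : ∀ s ∈ S, ∀ c ∈ C, s * c * s⁻¹ ∈ C) : ∃ c ∈ C, c ≠ 1 ∧ ∀ s ∈ S, s * c = c * s := by
  have : Fact (Nat.Prime 2) := ⟨Nat.prime_two⟩
  let _ : MulAction S C :=
    { smul := fun g y => ⟨g * y.1 * (g : G)⁻¹, hn g g.2 y.1 y.2⟩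
      one_smul := fun y => Subtype.ext (by show ((1 : S) : G) * y.1 * ((1 : S) : G)⁻¹ = y.1; simp)
      mul_smul := fun g g' y => Subtype.ext (by
        show ((g * g' : S) : G) * y.1 * ((g * g' : S) : G)⁻¹ = g * (g' * y.1 * (g' : G)⁻¹) * (g : G)⁻¹
        rw [Subgroup.coe_mul]; group) }
  have h2 : 2 ∣ Nat.card C := by
    obtain ⟨⟨c, hc⟩, hne⟩ := ne_bot_iff_exists_ne_one.1 hC
    have h3 : orderOf (⟨c, hc⟩ : C) = 2 := by
      refine orderOf_eq_prime ?_ hne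
      exact Subtype.ext (by rw [pow_two]; exact hC2 c hc)
    rw [← h3]
    exact orderOf_dvd_natCard _
  have h1 : (1 : C) ∈ MulAction.fixedPoints S C := by
    intro g
    exact Subtype.ext (by show (g : G) * ((1 : C) : G) * (g : G)⁻¹ = ((1 : C) : G); simp)
  obtain ⟨b, hb, hne⟩ := hS.exists_fixed_point_of_prime_dvd_card_of_fixed_point C h2 h1
  refine ⟨b.1, b.2, fun e => hne (Subtype.ext e.symm), fun s hs => ?_⟩
  have h4 : (⟨s, hs⟩ : S) • b = b := hb ⟨s, hs⟩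
  have h5 : s * b.1 * s⁻¹ = b.1 := congrArg Subtype.val h4
  calc s * b.1 = (s * b.1 * s⁻¹) * s := by group
    _ = b.1 * s := by rw [h5]

section core

variable {M V : Subgroup G} {Pt I : Type} [Fintype Pt] [DecidableEq Pt] [DecidableEq I]

/-- every `y ∈ Y` is congruent mod `V` to an element which commutes with `a` -/
structure Gd (_ : Pts M V Pt I) (Y : Subgroup G) (a : G) : Prop where
  aM : a ∈ M
  co : ∀ y ∈ Y, ∃ v ∈ V, a * (y * v) = y * v * a

variable (D : Pts M V Pt I) {Y : Subgroup G}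

theorem Gd.conj {a m : G} (h : Gd D Y a) (hMY : ∀ m ∈ M, ∀ y ∈ Y, m * y * m⁻¹ ∈ Y) (hm : m ∈ M) :
    Gd D Y (m * a * m⁻¹) where
  aM := mul_mem (mul_mem hm h.aM) (inv_mem hm)
  co y hy := by
    have hy' := hMY m⁻¹ (inv_mem hm) y hy
    rw [inv_inv] at hy'
    obtain ⟨v, hv, e⟩ := h.co _ hy'
    refine ⟨m * v * m⁻¹, D.MV m hm v hv, ?_⟩
    calc m * a * m⁻¹ * (y * (m * v * m⁻¹)) = m * (a * (m⁻¹ * y * m * v)) * m⁻¹ := by group
      _ = m * (m⁻¹ * y * m * v * a) * m⁻¹ := by rw [e]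
      _ = y * (m * v * m⁻¹) * (m * a * m⁻¹) := by group

theorem Gd.comm_mem {a : G} (h : Gd D Y a) (hYc : ∀ x ∈ Y, ∀ y ∈ Y, x * y = y * x) (hVY : V ≤ Y) {y : G} (hy : y ∈ Y) :
    a * y * a⁻¹ * y⁻¹ ∈ V := by
  obtain ⟨v, hv, e⟩ := h.co y hy
  have h1 : a * v⁻¹ * a⁻¹ ∈ V := D.MV a h.aM _ (inv_mem hv)
  have e1 : a * y * a⁻¹ = y * v * (a * v⁻¹ * a⁻¹) := by
    calc a * y * a⁻¹ = (a * (y * v)) * v⁻¹ * a⁻¹ := by group
      _ = y * v * (a * v⁻¹ * a⁻¹) := by rw [e]; group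
  rw [e1]
  have e2 : y * v * (a * v⁻¹ * a⁻¹) * y⁻¹ = y * (v * (a * v⁻¹ * a⁻¹)) * y⁻¹ := by group
  have h2 := mul_mem hv h1
  rw [e2, hYc y hy _ (hVY h2), mul_inv_cancel_right]
  exact h2

/-- two elements with the same action on the letters act equally on `Y` -/
theorem act_eq (hMY : ∀ m ∈ M, ∀ y ∈ Y, m * y * m⁻¹ ∈ Y)
    (hK : ∀ k ∈ M, D.r k = 1 → (∀ y ∈ Y, k * y * k⁻¹ * y⁻¹ ∈ V) → ∀ y ∈ Y, k * y = y * k) {a b : G} (ha : a ∈ M)
    (hb : b ∈ M) (hab : D.r a = D.r b) (ha' : ∀ y ∈ Y, a * y * a⁻¹ * y⁻¹ ∈ V) (hb' : ∀ y ∈ Y, b * y * b⁻¹ * y⁻¹ ∈ V)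
    {c : G} (hc : c ∈ Y) (h : a * c = c * a) : b * c = c * b := by
  have hk : b⁻¹ * a ∈ M := mul_mem (inv_mem hb) ha
  have h1 := hK (b⁻¹ * a) hk (by rw [D.r_mul (inv_mem hb) ha, D.r_inv hb, hab, inv_mul_cancel]) (fun y hy => ?_) c hc
  · have e1 : b⁻¹ * (a * c) = c * b⁻¹ * a := by
      calc b⁻¹ * (a * c) = b⁻¹ * a * c := by group
        _ = c * (b⁻¹ * a) := h1
        _ = c * b⁻¹ * a := by group
    rw [h] at e1
    have e2 : b⁻¹ * c = c * b⁻¹ := by
      have e3 : b⁻¹ * (c * a) = b⁻¹ * c * a := by group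
      rw [e3] at e1
      exact mul_right_cancel e1
    calc b * c = b * (c * b⁻¹) * b := by group
      _ = b * (b⁻¹ * c) * b := by rw [e2]
      _ = c * b := by group
  · have hy1 := hMY b⁻¹ (inv_mem hb) y hy
    rw [inv_inv] at hy1
    have h2 := hb' _ hy1
    have h3 := ha' y hy
    have h4 := D.MV b⁻¹ (inv_mem hb) _ h3
    rw [inv_inv] at h4
    have e1 : b * (b⁻¹ * y * b) * b⁻¹ * (b⁻¹ * y * b)⁻¹ = y * (b⁻¹ * y * b)⁻¹ := by group
    rw [e1] at h2
    have h5 := mul_mem h4 (inv_mem h2)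
    have e2 : b⁻¹ * (a * y * a⁻¹ * y⁻¹) * b * (y * (b⁻¹ * y * b)⁻¹)⁻¹ = b⁻¹ * a * y * (b⁻¹ * a)⁻¹ * y⁻¹ := by group
    rwa [e2] at h5

/-- some fixed letter of each block -/
noncomputable def bl (i : I) (h : ∃ u, D.blk u = i) : Pt := h.choose

noncomputable def bp (x : Pt) : Pt := bl D (D.blk x) ⟨x, rfl⟩

theorem bp_blk (x : Pt) : D.blk (bp D x) = D.blk x := Exists.choose_spec (⟨x, rfl⟩ : ∃ u, D.blk u = D.blk x)

theorem bp_eq {x y : Pt} (h : D.blk x = D.blk y) : bp D x = bp D y := by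
  have key : ∀ (i j : I) (hij : i = j) (hi : ∃ u, D.blk u = i) (hj : ∃ u, D.blk u = j), bl D i hi = bl D j hj := by
    rintro i _ rfl hi hj
    rfl
  exact key _ _ h _ _

/-- **No fixed points outside `V`.** -/
theorem core [Finite G] (S : Sylow 2 G) (hSM : (S : Subgroup G) ≤ M) (hVY : V ≤ Y)
    (hYc : ∀ x ∈ Y, ∀ y ∈ Y, x * y = y * x) (hY2 : ∀ y ∈ Y, y * y = 1) (hMY : ∀ m ∈ M, ∀ y ∈ Y, m * y * m⁻¹ ∈ Y)
    (hK : ∀ k ∈ M, D.r k = 1 → (∀ y ∈ Y, k * y * k⁻¹ * y⁻¹ ∈ V) → ∀ y ∈ Y, k * y = y * k)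
    (hG : ∀ x y : Pt, x ≠ y → D.blk x = D.blk y → ∃ a, Gd D Y a ∧ D.r a = Equiv.swap x y)
    (hfix : ∀ y ∈ Y, (∀ s ∈ S, s * y = y * s) → y ∈ V) : Y ≤ V := by
  classical
  -- the fixed points
  let C : Subgroup G :=
    { carrier := {c | c ∈ Y ∧ ∀ x y : Pt, x ≠ y → D.blk x = D.blk y → ∀ a, Gd D Y a → D.r a = Equiv.swap x y → a * c = c * a}
      mul_mem' := by
        rintro c c' ⟨h1, h2⟩ ⟨h3, h4⟩
        refine ⟨mul_mem h1 h3, fun x y hxy hb a ha e => ?_⟩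
        have e1 : Commute a c := h2 x y hxy hb a ha e
        have e2 : Commute a c' := h4 x y hxy hb a ha e
        exact (e1.mul_right e2).eq
      one_mem' := ⟨one_mem _, fun x y hxy hb a ha e => by simp⟩
      inv_mem' := by
        rintro c ⟨h1, h2⟩
        refine ⟨inv_mem h1, fun x y hxy hb a ha e => ?_⟩
        have e1 : Commute a c := h2 x y hxy hb a ha e
        exact e1.inv_right.eq }
  have hCM : ∀ m ∈ M, ∀ c ∈ C, m * c * m⁻¹ ∈ C := by
    rintro m hm c ⟨h1, h2⟩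
    refine ⟨hMY m hm c h1, fun x y hxy hb a ha e => ?_⟩
    have hmi := inv_mem hm
    have h3 := ha.conj D hMY hmi
    have h4 : D.r (m⁻¹ * a * m⁻¹⁻¹) = Equiv.swap ((D.r m)⁻¹ x) ((D.r m)⁻¹ y) := by
      rw [D.r_mul (mul_mem hmi ha.aM) (inv_mem hmi), D.r_mul hmi ha.aM, D.r_inv hmi, D.r_inv hm, e,
        Equiv.swap_apply_apply]
    have h5 := h2 _ _ (fun e => hxy ((D.r m)⁻¹.injective e)) (by rw [← D.r_inv hm]; exact D.r_blk hmi hb) _ h3 h4
    calc a * (m * c * m⁻¹) = m * (m⁻¹ * a * m⁻¹⁻¹ * c) * m⁻¹ := by group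
      _ = m * (c * (m⁻¹ * a * m⁻¹⁻¹)) * m⁻¹ := by rw [h5]
      _ = m * c * m⁻¹ * a := by group
  have hCV : ∀ c ∈ C, c ∈ V → c = 1 := by
    rintro c ⟨h1, h2⟩ hcV
    have h3 : ∀ x y : Pt, D.blk x = D.blk y → D.e c x = D.e c y := by
      intro x y hb
      by_cases hxy : x = y
      · rw [hxy]
      obtain ⟨a, ha, e⟩ := hG x y hxy hb
      have h4 := (D.comm_iff ha.aM hcV).1 (h2 x y hxy hb a ha e) x
      rw [e, Equiv.swap_apply_left] at h4
      exact h4.symm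
    refine D.inj c hcV ?_
    funext x
    have h4 := D.bs_const (f := D.e c) (x := x) (c := D.e c x) fun y hy => h3 y x hy
    rw [D.bs_e hcV] at h4
    exact h4.symm
  have hC1 : C = ⊥ := by
    by_contra hne
    have hC2 : ∀ c ∈ C, c * c = 1 := by
      rintro c ⟨h1, -⟩
      exact hY2 c h1
    obtain ⟨c, hc, hc1, hcS⟩ := exists_fix_ne S.isPGroup' hC2 hne fun s hs c hc => hCM s (hSM hs) c hc
    exact hc1 (hCV c hc (hfix c hc.1 hcS))
  -- the splitting
  intro e he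
  choose A hA hAr using hG
  let f : Pt → ZMod 2 := fun x => if h : bp D x ≠ x then
      D.e (A (bp D x) x h (bp_blk D x) * e * (A (bp D x) x h (bp_blk D x))⁻¹ * e⁻¹) x else 0
  set v := D.w f with hv
  have hvV : v ∈ V := D.w_mem f
  have hev : e * v ∈ Y := mul_mem he (hVY hvV)
  -- `e v` commutes with `A (bp x) x`
  have h1 : ∀ x (hx : bp D x ≠ x), A (bp D x) x hx (bp_blk D x) * (e * v) = e * v * A (bp D x) x hx (bp_blk D x) := by
    intro x hx
    set a := A (bp D x) x hx (bp_blk D x) with ha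
    have hga : Gd D Y a := hA (bp D x) x hx (bp_blk D x)
    have hra : D.r a = Equiv.swap (bp D x) x := hAr (bp D x) x hx (bp_blk D x)
    obtain ⟨u, hu, hc⟩ := hga.co e he
    -- `v = u` up to an element commuting with `a`
    have h2 : D.e v (bp D x) + D.e v x = D.e u (bp D x) + D.e u x := by
      have e1 : a * e * a⁻¹ * e⁻¹ = a * u * a⁻¹ * u := by
        have e2 : a * e * a⁻¹ = e * u * (a * u⁻¹ * a⁻¹) := by
          calc a * e * a⁻¹ = (a * (e * u)) * u⁻¹ * a⁻¹ := by group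
            _ = e * u * (a * u⁻¹ * a⁻¹) := by rw [hc]; group
        have h3 : a * u⁻¹ * a⁻¹ ∈ V := D.MV a hga.aM _ (inv_mem hu)
        have e3 : e * u * (a * u⁻¹ * a⁻¹) * e⁻¹ = u * (a * u⁻¹ * a⁻¹) := by
          have h4 := hYc e he _ (hVY (mul_mem hu h3))
          calc e * u * (a * u⁻¹ * a⁻¹) * e⁻¹ = e * (u * (a * u⁻¹ * a⁻¹)) * e⁻¹ := by group
            _ = u * (a * u⁻¹ * a⁻¹) := by rw [h4]; group
        rw [e2, e3, D.comm hu h3]
        have e4 : u⁻¹ = u := inv_eq_of_mul_eq_one_right (D.sq hu)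
        rw [e4]
      have h3 : f x = D.e u (bp D x) + D.e u x := by
        have h4 : f x = D.e (a * e * a⁻¹ * e⁻¹) x := by
          simp only [f]
          rw [dif_pos hx]
        rw [h4, e1, D.mul _ (D.MV a hga.aM u hu) _ hu, Pi.add_apply, D.e_conj' hga.aM hu, hra, Equiv.swap_inv,
          Equiv.swap_apply_right]
      have h5 : f (bp D x) = 0 := by
        simp only [f]
        rw [dif_neg]
        rw [not_not]
        exact bp_eq D (bp_blk D x)
      rw [hv, D.e_w, D.e_w, h5, zero_add, D.bs_congr (bp_blk D x), ← h3]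
      rw [add_comm (f x), ← add_assoc, add_self, zero_add]
    have h3 : a * (v * u) = v * u * a := by
      rw [D.comm_iff hga.aM (mul_mem hvV hu)]
      intro z
      rw [D.mul v hvV u hu, Pi.add_apply, Pi.add_apply, hra]
      have h4 : D.e v (bp D x) + D.e u (bp D x) = D.e v x + D.e u x := by
        have h5 := congrArg (fun t => t + D.e v x + D.e u (bp D x)) h2
        have e5 : D.e v (bp D x) + D.e v x + D.e v x + D.e u (bp D x) = D.e v (bp D x) + D.e u (bp D x) := by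
          rw [add_assoc (D.e v (bp D x)), add_self, add_zero]
        have e6 : D.e u (bp D x) + D.e u x + D.e v x + D.e u (bp D x) = D.e v x + D.e u x := by
          have : D.e u (bp D x) + D.e u x + D.e v x + D.e u (bp D x) =
            (D.e u (bp D x) + D.e u (bp D x)) + (D.e v x + D.e u x) := by ring
          rw [this, add_self, zero_add]
        exact e5.symm.trans (h5.trans e6)
      by_cases hz1 : z = bp D x
      · rw [hz1, Equiv.swap_apply_left]; exact h4.symm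
      · by_cases hz2 : z = x
        · rw [hz2, Equiv.swap_apply_right]; exact h4
        · rw [Equiv.swap_apply_of_ne_of_ne hz1 hz2]
    have e7 : e * v = (e * u) * (v * u) := by
      have e4 : u * u = 1 := D.sq hu
      calc e * v = e * (u * u) * v := by rw [e4, mul_one]
        _ = e * u * (u * v) := by group
        _ = e * u * (v * u) := by rw [D.comm hu hvV]
    have c1 : Commute a (e * u) := hc
    have c2 : Commute a (v * u) := h3
    rw [e7]
    exact (c1.mul_right c2).eq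
  have hCm : ∀ {a}, Gd D Y a → ∀ y ∈ Y, a * y * a⁻¹ * y⁻¹ ∈ V := fun ha y hy => ha.comm_mem D hYc hVY hy
  have h2 : e * v ∈ C := by
    refine ⟨hev, fun x y hxy hb a ha er => ?_⟩
    -- the case `bp x = x`
    have key : ∀ x y : Pt, x ≠ y → D.blk x = D.blk y → bp D x = x → ∀ a, Gd D Y a → D.r a = Equiv.swap x y →
        a * (e * v) = e * v * a := by
      intro x y hxy hb hx a ha er
      have hbp : bp D y = x := by rw [← bp_eq D hb, hx]
      have hne : bp D y ≠ y := by rw [hbp]; exact hxy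
      exact act_eq D hMY hK (hA (bp D y) y hne (bp_blk D y)).aM ha.aM
        (by rw [hAr (bp D y) y hne (bp_blk D y), er, hbp]) (hCm (hA (bp D y) y hne (bp_blk D y))) (hCm ha) hev (h1 y hne)
    by_cases hx : bp D x = x
    · exact key x y hxy hb hx a ha er
    · by_cases hy : bp D y = y
      · exact key y x hxy.symm hb.symm hy a ha (by rw [er, Equiv.swap_comm])
      · -- conjugate
        have g1 := hA (bp D x) x hx (bp_blk D x)
        have r1 := hAr (bp D x) x hx (bp_blk D x)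
        have c1 := h1 x hx
        have g2 := hA (bp D y) y hy (bp_blk D y)
        have r2 := hAr (bp D y) y hy (bp_blk D y)
        have c2 := h1 y hy
        set a1 := A (bp D x) x hx (bp_blk D x)
        set a2 := A (bp D y) y hy (bp_blk D y)
        have hbxy := bp_eq D hb
        have g3 : Gd D Y (a1 * a2 * a1⁻¹) := g2.conj D hMY g1.aM
        have r3 : D.r (a1 * a2 * a1⁻¹) = Equiv.swap x y := by
          have e1 : D.r (a1 * a2 * a1⁻¹) = Equiv.swap (D.r a1 (bp D y)) (D.r a1 y) := by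
            rw [D.r_mul (mul_mem g1.aM g2.aM) (inv_mem g1.aM), D.r_mul g1.aM g2.aM, D.r_inv g1.aM, r2,
              Equiv.swap_apply_apply]
          rw [e1, r1, ← hbxy, Equiv.swap_apply_left, Equiv.swap_apply_of_ne_of_ne]
          · rw [hbxy]; exact fun e => hy e.symm
          · exact hxy.symm
        have c3 : a1 * a2 * a1⁻¹ * (e * v) = e * v * (a1 * a2 * a1⁻¹) := by
          have d1 : Commute a1 (e * v) := c1
          have d2 : Commute a2 (e * v) := c2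
          exact ((d1.mul_left d2).mul_left d1.inv_left).eq
        exact act_eq D hMY hK g3.aM ha.aM (by rw [r3, er]) (hCm g3) (hCm ha) hev c3
  rw [hC1, mem_bot] at h2
  rw [mul_eq_one_iff_eq_inv] at h2
  rw [h2]
  exact inv_mem hvV

/-- the elements of `M` which centralise `V` and `Y / V` -/
def Kr (D : Pts M V Pt I) (Y : Subgroup G) : Subgroup G where
  carrier := {k | k ∈ M ∧ D.r k = 1 ∧ ∀ y ∈ Y, k * y * k⁻¹ * y⁻¹ ∈ V}
  mul_mem' := by
    rintro a b ⟨ha, ha1, ha2⟩ ⟨hb, hb1, hb2⟩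
    refine ⟨mul_mem ha hb, by rw [D.r_mul ha hb, ha1, hb1, one_mul], fun y hy => ?_⟩
    have e : a * b * y * (a * b)⁻¹ * y⁻¹ = (a * (b * y * b⁻¹ * y⁻¹) * a⁻¹) * (a * y * a⁻¹ * y⁻¹) := by group
    rw [e]
    exact mul_mem (D.MV a ha _ (hb2 y hy)) (ha2 y hy)
  one_mem' := ⟨one_mem _, D.r_one, fun y _ => by simp⟩
  inv_mem' := by
    rintro a ⟨ha, ha1, ha2⟩
    refine ⟨inv_mem ha, by rw [D.r_inv ha, ha1, inv_one], fun y hy => ?_⟩
    have e : a⁻¹ * y * a⁻¹⁻¹ * y⁻¹ = a⁻¹ * (a * y * a⁻¹ * y⁻¹)⁻¹ * a⁻¹⁻¹ := by group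
    rw [e]
    exact D.MV _ (inv_mem ha) _ (inv_mem (ha2 y hy))

/-- The elements of `K` of 2-power order decide. -/
theorem comm_of_two [Finite G] {y : G} (hy : y ∈ Y)
    (h2 : ∀ k ∈ Kr D Y, IsPGroup 2 (zpowers k) → k * y = y * k) {k : G}
    (hk : k ∈ Kr D Y) : k * y = y * k := by
  obtain ⟨hkM, hk1, hk2⟩ := hk
  have hkV := (D.r_eq_one_iff hkM).1 hk1
  -- `k²` commutes with `y`
  have hsq : (k * k) * y = y * (k * k) := by
    have h3 := hk2 y hy
    set v := k * y * k⁻¹ * y⁻¹ with hv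
    have e1 : k * y = v * y * k := by rw [hv]; group
    have e2 : k * v = v * k := hkV v h3
    have e3 : v * v = 1 := D.sq h3
    calc k * k * y = k * (k * y) := by group
      _ = (k * v) * y * k := by rw [e1]; group
      _ = v * (k * y) * k := by rw [e2]; group
      _ = (v * v) * y * (k * k) := by rw [e1]; group
      _ = y * (k * k) := by rw [e3, one_mul]
  obtain ⟨a, m, hm, hn⟩ := Nat.exists_eq_two_pow_mul_odd (n := orderOf k) (orderOf_pos k).ne'
  have h3 : k ^ m ∈ Kr D Y := (Kr D Y).pow_mem ⟨hkM, hk1, hk2⟩ m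
  have h4 : IsPGroup 2 (zpowers (k ^ m)) := by
    refine IsPGroup.of_card (n := a) ?_
    rw [Nat.card_zpowers, orderOf_pow, hn, Nat.gcd_eq_right (Dvd.intro_left _ rfl), Nat.mul_div_cancel _ hm.pos]
  have h5 := h2 _ h3 h4
  obtain ⟨j, hj⟩ := hm
  have e1 : k = k ^ m * ((k * k) ^ j)⁻¹ := by
    rw [hj, ← pow_two, ← pow_mul, pow_succ']
    group
  have c1 : Commute (k ^ m) y := h5
  have c2 : Commute (k * k) y := hsq
  rw [e1]
  exact (c1.mul_left (c2.pow_left j).inv_left).eq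

include D in
/-- `[k^l, w] = [k, w]^l` -/
theorem phi_conj {k w l : G} (hk : ∀ v ∈ V, k * v = v * k) (hu : k * w * k⁻¹ * w⁻¹ ∈ V) (hc : l⁻¹ * w * l * w⁻¹ ∈ V) :
    l * k * l⁻¹ * w * (l * k * l⁻¹)⁻¹ * w⁻¹ = l * (k * w * k⁻¹ * w⁻¹) * l⁻¹ := by
  have uc := D.comm hu hc
  set u := k * w * k⁻¹ * w⁻¹ with hu'
  set c := l⁻¹ * w * l * w⁻¹ with hc'
  have e1 : k * w * k⁻¹ = u * w := by rw [hu']; group
  have e2 : l⁻¹ * w * l = c * w := by rw [hc']; group
  calc l * k * l⁻¹ * w * (l * k * l⁻¹)⁻¹ * w⁻¹ = l * k * (l⁻¹ * w * l) * k⁻¹ * l⁻¹ * w⁻¹ := by group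
    _ = l * (k * c) * w * k⁻¹ * l⁻¹ * w⁻¹ := by rw [e2]; group
    _ = l * c * (k * w * k⁻¹) * l⁻¹ * w⁻¹ := by rw [hk c hc]; group
    _ = l * (c * u) * w * l⁻¹ * w⁻¹ := by rw [e1]; group
    _ = l * u * (c * w) * l⁻¹ * w⁻¹ := by rw [← uc]; group
    _ = l * u * l⁻¹ := by rw [← e2]; group

/-- an element inducing `(x y)` -/
theorem exists_el {x y : Pt} (hb : D.blk x = D.blk y) : ∃ t ∈ M, D.r t = Equiv.swap x y := by
  by_cases hxy : x = y
  · subst hxy
    exact ⟨1, one_mem _, by rw [D.r_one, Equiv.swap_self]; rfl⟩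
  · obtain ⟨t, ht, et⟩ := D.full x y hxy hb
    exact ⟨t, ht, D.r_eq ht et⟩

/-- `M` is transitive on the ordered pairs of letters of a block -/
theorem exists_el₂ {u v x y : Pt} (huv : u ≠ v) (hxy : x ≠ y) (h1 : D.blk u = D.blk v) (h2 : D.blk x = D.blk y)
    (h3 : D.blk u = D.blk x) : ∃ m ∈ M, D.r m u = x ∧ D.r m v = y := by
  obtain ⟨t, ht, et⟩ := exists_el D h3
  have h4 : D.blk (D.r t v) = D.blk y := by
    rw [← h2]
    have h5 := D.r_blk ht h1
    rw [← h5, et, Equiv.swap_apply_left]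
  obtain ⟨s, hs, es⟩ := exists_el D h4
  have hne : x ≠ D.r t v := by
    intro e
    have h5 : D.r t u = x := by rw [et, Equiv.swap_apply_left]
    exact huv ((D.r t).injective (h5.trans e))
  refine ⟨s * t, mul_mem hs ht, ?_, ?_⟩
  · rw [D.r_mul hs ht, Equiv.Perm.mul_apply, es]
    have h5 : D.r t u = x := by rw [et, Equiv.swap_apply_left]
    rw [h5, Equiv.swap_apply_of_ne_of_ne hne hxy]
  · rw [D.r_mul hs ht, Equiv.Perm.mul_apply, es, Equiv.swap_apply_left]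

end core

theorem two_mul_card_le [Finite G] {C V : Subgroup G} (h : C < V) : 2 * Nat.card C ≤ Nat.card V := by
  obtain ⟨k, hk⟩ := Subgroup.card_dvd_of_le h.le
  have h1 : Nat.card V ≠ 0 := Nat.card_pos.ne'
  rw [hk] at h1 ⊢
  have h2 : k ≠ 0 := fun e => h1 (by rw [e, mul_zero])
  have h3 : k ≠ 1 := fun e => h.ne (Subgroup.eq_of_le_of_card_ge h.le (by rw [hk, e, mul_one]))
  have h4 : 2 ≤ k := by omega
  calc 2 * Nat.card C = Nat.card C * 2 := mul_comm _ _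
    _ ≤ _ := Nat.mul_le_mul_left _ h4

/-- `|A| ≤ 2 |F|` -/
theorem card_le_two [Finite G] {A F : Subgroup G} {a₀ : G} (h : ∀ a ∈ A, a ∈ F ∨ a₀⁻¹ * a ∈ F) :
    Nat.card A ≤ 2 * Nat.card F := by
  classical
  have e : 2 * Nat.card F = Nat.card (Bool × F) := by
    rw [Nat.card_prod, Nat.card_eq_fintype_card (α := Bool), Fintype.card_bool]
  rw [e]
  refine Nat.card_le_card_of_injective (fun a : A => if ha : a.1 ∈ F then ((true, ⟨a.1, ha⟩) : Bool × F)
    else (false, ⟨a₀⁻¹ * a.1, (h a.1 a.2).resolve_left ha⟩)) ?_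
  intro a b hab
  by_cases ha : a.1 ∈ F <;> by_cases hb : b.1 ∈ F
  · simp only [dif_pos ha, dif_pos hb, Prod.mk.injEq, Subtype.mk.injEq, true_and] at hab
    exact Subtype.ext hab
  · simp only [dif_pos ha, dif_neg hb, Prod.mk.injEq] at hab
    exact absurd hab.1 (by decide)
  · simp only [dif_neg ha, dif_pos hb, Prod.mk.injEq] at hab
    exact absurd hab.1 (by decide)
  · simp only [dif_neg ha, dif_neg hb, Prod.mk.injEq, Subtype.mk.injEq, true_and] at hab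
    exact Subtype.ext (mul_left_cancel hab)

namespace Lv

variable {S : Sylow 2 G} {M V : Subgroup G} {Pt I : Type} [Fintype Pt] [DecidableEq Pt] [DecidableEq I]
variable {D : Pts M V Pt I} {X L J : Subgroup G} {AA : Set (Subgroup G)} (h : Lv S D X L J AA) {Y : Subgroup G}
include h

variable [Finite G]

/-- `|A| |C_V(A)| ≤ |C_A(V)| |V|` for a member acting as a transposition -/
theorem cut_card {A : Subgroup G} (hA : A ∈ AA) {x z : Pt} (hxz : x ≠ z) {a₀ : G} (ha₀ : a₀ ∈ A)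
    (e₀ : D.r a₀ = Equiv.swap x z) (hall : ∀ b ∈ A, D.r b = 1 ∨ D.r b = Equiv.swap x z) :
    Nat.card A * Nat.card ↥(V ⊓ centralizer (A : Set G)) ≤
      Nat.card ↥(A ⊓ centralizer (V : Set G)) * Nat.card V := by
  have hAM : A ≤ M := (h.fam.le A hA).trans h.SM
  set F := A ⊓ centralizer (V : Set G) with hF
  -- `|A| |C_V(A)| ≤ |F| |V|`
  have c1 : Nat.card A ≤ 2 * Nat.card F := by
    refine card_le_two (a₀ := a₀) fun a ha => ?_
    rcases hall a ha with e | e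
    · left
      exact ⟨ha, mem_centralizer_iff.2 fun v hv => ((D.r_eq_one_iff (hAM ha)).1 e v hv).symm⟩
    · right
      have h1 : a₀⁻¹ * a ∈ A := mul_mem (inv_mem ha₀) ha
      refine ⟨h1, mem_centralizer_iff.2 fun v hv => ((D.r_eq_one_iff (hAM h1)).1 ?_ v hv).symm⟩
      rw [D.r_mul (inv_mem (hAM ha₀)) (hAM ha), D.r_inv (hAM ha₀), e, e₀, inv_mul_cancel]
  have c2 : 2 * Nat.card ↥(V ⊓ centralizer (A : Set G)) ≤ Nat.card V := by
    refine two_mul_card_le (lt_of_le_of_ne inf_le_left fun e => ?_)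
    obtain ⟨w, hw, hwx, hwz⟩ := D.exists_third x z
    have h1 := (D.comm_iff (hAM ha₀) (D.pe_mem x w)).1
      (mem_centralizer_iff.1 ((e.ge (D.pe_mem x w)).2) a₀ ha₀) x
    rw [e₀, Equiv.swap_apply_left, D.e_pe' hw.symm, D.e_pe' hw.symm, if_pos rfl, if_neg hxz.symm,
      if_neg (fun e => hwz e.symm), if_neg (fun e => hwx e.symm)] at h1
    exact absurd h1 (by decide)
  calc _ ≤ 2 * Nat.card F * Nat.card ↥(V ⊓ centralizer (A : Set G)) := Nat.mul_le_mul_right _ c1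
    _ = Nat.card F * (2 * Nat.card ↥(V ⊓ centralizer (A : Set G))) := by ring
    _ ≤ _ := Nat.mul_le_mul_left _ c2

/-- **A member of `AA` acting as a transposition.** -/
theorem gd (hYX : Y ≤ X) (hYB : ∀ B ∈ AA, B ≤ centralizer (V : Set G) → ∀ b ∈ B, ∀ y ∈ Y, b * y = y * b)
    {A : Subgroup G} (hA : A ∈ AA) {x z : Pt} (hxz : x ≠ z) {a₀ : G} (ha₀ : a₀ ∈ A)
    (e₀ : D.r a₀ = Equiv.swap x z) (hall : ∀ b ∈ A, D.r b = 1 ∨ D.r b = Equiv.swap x z) : Gd D Y a₀ := by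
  have hAM : A ≤ M := (h.fam.le A hA).trans h.SM
  have hXc := h.Xc
  refine ⟨hAM ha₀, fun y hy => ?_⟩
  set F := A ⊓ centralizer (V : Set G) with hF
  have he : Nat.card A * Nat.card ↥(V ⊓ centralizer (A : Set G)) ≤ Nat.card F * Nat.card V :=
    h.cut_card hA hxz ha₀ e₀ hall
  have hcX : centralizer (X : Set G) ≤ centralizer (V : Set G) := centralizer_le h.VX
  have hAF : A ⊓ centralizer (X : Set G) ≤ F := inf_le_inf_left _ hcX
  have h1 := best_cut_eq hXc h.VX he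
  have h2 := h.fam.best A hA F hAF inf_le_left
  obtain ⟨B', hB', hBF⟩ := h.fam.cut A hA F hAF inf_le_left (le_antisymm h2 h1)
  -- `y` centralises `F`
  have hyX : y ∈ X := hYX hy
  have hcy : centralizer (X : Set G) ≤ centralizer ({y} : Set G) := centralizer_le (Set.singleton_subset_iff.2 hyX)
  have hB'V : B' ≤ centralizer (V : Set G) :=
    (le_sup_left.trans hBF.le).trans (sup_le inf_le_right hcX)
  have hFy : F ≤ centralizer ({y} : Set G) :=
    (le_sup_left.trans hBF.ge).trans (sup_le (fun b hb => mem_centralizer_singleton_iff.2 (hYB B' hB' hB'V b hb y hy)) hcy)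
  have hyF : y ∈ X ⊓ centralizer (F : Set G) :=
    ⟨hyX, mem_centralizer_iff.2 fun f hf => mem_centralizer_singleton_iff.1 (hFy hf)⟩
  -- `C_X(F) = V C_X(A)`
  have hle : V ⊔ (X ⊓ centralizer (A : Set G)) ≤ X ⊓ centralizer (F : Set G) := by
    refine sup_le (le_inf h.VX fun v hv => mem_centralizer_iff.2 fun f hf => ?_) (inf_le_inf_left _ (centralizer_le inf_le_left))
    exact (mem_centralizer_iff.1 hf.2 v hv).symm
  have h3 := card_sup_comm (A := V) (B := X ⊓ centralizer (A : Set G)) fun v hv x hx => hXc v (h.VX hv) x hx.1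
  have h4 : V ⊓ (X ⊓ centralizer (A : Set G)) = V ⊓ centralizer (A : Set G) := by
    rw [← inf_assoc, inf_eq_left.2 h.VX]
  rw [h4] at h3
  have h5 : X ⊓ centralizer (F : Set G) = V ⊔ (X ⊓ centralizer (A : Set G)) := by
    symm
    refine Subgroup.eq_of_le_of_card_ge hle ?_
    have p1 : 0 < Nat.card F * Nat.card ↥(V ⊓ centralizer (A : Set G)) := Nat.mul_pos Nat.card_pos Nat.card_pos
    refine Nat.le_of_mul_le_mul_left ?_ p1
    calc Nat.card F * Nat.card ↥(V ⊓ centralizer (A : Set G)) * Nat.card ↥(X ⊓ centralizer (F : Set G))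
        = (Nat.card F * Nat.card ↥(X ⊓ centralizer (F : Set G))) * Nat.card ↥(V ⊓ centralizer (A : Set G)) := by ring
      _ ≤ (Nat.card A * Nat.card ↥(X ⊓ centralizer (A : Set G))) * Nat.card ↥(V ⊓ centralizer (A : Set G)) :=
          Nat.mul_le_mul_right _ h2
      _ = (Nat.card A * Nat.card ↥(V ⊓ centralizer (A : Set G))) * Nat.card ↥(X ⊓ centralizer (A : Set G)) := by ring
      _ ≤ (Nat.card F * Nat.card V) * Nat.card ↥(X ⊓ centralizer (A : Set G)) := Nat.mul_le_mul_right _ he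
      _ = Nat.card F * (Nat.card V * Nat.card ↥(X ⊓ centralizer (A : Set G))) := by ring
      _ = Nat.card F * (Nat.card ↥(V ⊔ (X ⊓ centralizer (A : Set G))) * Nat.card ↥(V ⊓ centralizer (A : Set G))) := by
          rw [h3]
      _ = _ := by ring
  rw [h5] at hyF
  obtain ⟨v, hv, c, hc, e⟩ := (mem_sup_comm (A := V) (B := X ⊓ centralizer (A : Set G))
    (fun v hv x hx => hXc v (h.VX hv) x hx.1) hyF)
  refine ⟨v⁻¹, inv_mem hv, ?_⟩
  have e1 : y * v⁻¹ = c := by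
    rw [e, hXc v (h.VX hv) c hc.1, mul_inv_cancel_right]
  rw [e1]
  exact mem_centralizer_iff.1 hc.2 a₀ ha₀

/-- **All transpositions** -/
theorem exists_gd (hYX : Y ≤ X) (hYB : ∀ B ∈ AA, B ≤ centralizer (V : Set G) → ∀ b ∈ B, ∀ y ∈ Y, b * y = y * b)
    (hMY : ∀ m ∈ M, ∀ y ∈ Y, m * y * m⁻¹ ∈ Y) (x y : Pt) (hxy : x ≠ y) (hb : D.blk x = D.blk y) :
    ∃ a, Gd D Y a ∧ D.r a = Equiv.swap x y := by
  obtain ⟨u, hu, A, hA, a, ha, hau⟩ := h.mv x
  obtain ⟨A', hA', ⟨a', ha', ea'⟩, hall⟩ := h.exists_member hA ha rfl hau.symm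
  have hbu : D.blk u = D.blk (D.r a u) := (Ofd.blk_eq D (h.ofd hA) h.VX h.Xc ha u).symm
  have hg := h.gd hYX hYB hA' hau.symm ha' ea' hall
  obtain ⟨m, hm, m1, m2⟩ := exists_el₂ D hau.symm hxy hbu hb hu
  refine ⟨m * a' * m⁻¹, hg.conj D hMY hm, ?_⟩
  rw [D.r_mul (mul_mem hm hg.aM) (inv_mem hm), D.r_mul hm hg.aM, D.r_inv hm, ea', ← Equiv.swap_apply_apply, m1, m2]

omit [Finite G] in
theorem MQn {g x : G} (hg : g ∈ M) (hx : x ∈ (S : Subgroup G) ⊓ centralizer (V : Set G)) :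
    g * x * g⁻¹ ∈ (S : Subgroup G) ⊓ centralizer (V : Set G) := by
  refine ⟨h.MQ g hg x hx, mem_centralizer_iff.2 fun v hv => ?_⟩
  have h1 := D.MV g⁻¹ (inv_mem hg) v hv
  rw [inv_inv] at h1
  have h2 := mem_centralizer_iff.1 hx.2 _ h1
  calc v * (g * x * g⁻¹) = g * ((g⁻¹ * v * g) * x) * g⁻¹ := by group
    _ = g * x * g⁻¹ * v := by rw [h2]; group

omit [Finite G] in
theorem M_norm_Q : M ≤ normalizer (((S : Subgroup G) ⊓ centralizer (V : Set G) : Subgroup G) : Set G) := by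
  intro m hm
  rw [mem_normalizer_iff]
  intro x
  refine ⟨fun hx => h.MQn hm hx, fun hx => ?_⟩
  have h1 := h.MQn (inv_mem hm) hx
  have e : m⁻¹ * (m * x * m⁻¹) * m⁻¹⁻¹ = x := by group
  rwa [e] at h1

/-- **(1a)** `Ω₁(Z(C_S(V))) ≤ V`. -/
theorem zcQ (hZV : zc (S : Subgroup G) ≤ V)
    (hQX : zc ((S : Subgroup G) ⊓ centralizer (V : Set G)) ≤ X) :
    zc ((S : Subgroup G) ⊓ centralizer (V : Set G)) ≤ V := by
  set Q := (S : Subgroup G) ⊓ centralizer (V : Set G) with hQ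
  have hVQ : V ≤ Q := fun v hv => ⟨h.VS hv, mem_centralizer_iff.2 fun u hu => D.comm hu hv⟩
  have hVY : V ≤ zc Q := fun v hv => ChoiceBase.mem_zc.2
    ⟨hVQ hv, by rw [pow_two]; exact D.sq hv, fun y hy => (mem_centralizer_iff.1 hy.2 v hv).symm⟩
  have hMY : ∀ m ∈ M, ∀ y ∈ zc Q, m * y * m⁻¹ ∈ zc Q := fun m hm y hy =>
    (mem_normalizer_iff.1 (Cfsg.Agent.Omega.NO3S.Level.normalizer_le_zc Q (h.M_norm_Q hm)) y).1 hy
  refine core D S h.SM hVY (fun x hx y hy => ?_) (fun y hy => ?_) hMY (fun k hk hk1 hk2 y hy => ?_)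
    (h.exists_gd hQX (fun B hB hBV b hb y hy => ?_) hMY) (fun y hy hyS => ?_)
  · exact (ChoiceBase.mem_zc.1 hy).2.2 x (ChoiceBase.mem_zc.1 hx).1
  · rw [← pow_two]; exact (ChoiceBase.mem_zc.1 hy).2.1
  · refine comm_of_two D hy (fun k hk hk' => ?_) ⟨hk, hk1, hk2⟩
    obtain ⟨m, hm, hmS⟩ := exists_into S h.SM hk' (by rw [zpowers_le]; exact hk.1)
    have h1 : m * k * m⁻¹ ∈ (S : Subgroup G) := hmS ⟨k, mem_zpowers k, rfl⟩
    have h2 : m * k * m⁻¹ ∈ Q := by
      refine ⟨h1, mem_centralizer_iff.2 fun v hv => ?_⟩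
      have h3 := D.MV m⁻¹ (inv_mem hm) v hv
      rw [inv_inv] at h3
      have h4 := (D.r_eq_one_iff hk.1).1 hk.2.1 _ h3
      calc v * (m * k * m⁻¹) = m * ((m⁻¹ * v * m) * k) * m⁻¹ := by group
        _ = m * k * m⁻¹ * v := by rw [← h4]; group
    have h3 := (ChoiceBase.mem_zc.1 (hMY m hm y hy)).2.2 _ h2
    have h4 := congrArg (fun t => m⁻¹ * t * m) h3
    simpa [mul_assoc] using h4
  · exact (ChoiceBase.mem_zc.1 hy).2.2 b ⟨h.fam.le B hB hb, hBV hb⟩
  · have h1 := ChoiceBase.mem_zc.1 hy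
    exact hZV (ChoiceBase.mem_zc.2 ⟨h1.1.1, h1.2.1, hyS⟩)

/-- **(1b)** an `S`-invariant subgroup of `X` centralised by `J` lies in `V`. -/
theorem le_of_cent (hXS : X ≤ (S : Subgroup G)) (hZV : zc (S : Subgroup G) ≤ V) {W : Subgroup G} (hWX : W ≤ X)
    (hWJ : ∀ w ∈ W, ∀ j ∈ J, j * w = w * j) (hWS : ∀ s ∈ S, ∀ w ∈ W, s * w * s⁻¹ ∈ W) : W ≤ V := by
  have hXc := h.Xc
  set Y : Subgroup G := V ⊔ ⨆ m : M, cj (m : G) W with hY
  have hVY : V ≤ Y := le_sup_left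
  have hWY : ∀ m ∈ M, cj m W ≤ Y := fun m hm => (le_iSup (fun m : M => cj (m : G) W) ⟨m, hm⟩).trans le_sup_right
  have hWY' : W ≤ Y := by
    have := hWY 1 (one_mem _)
    rwa [cj_one] at this
  have hYX : Y ≤ X := by
    refine sup_le h.VX (iSup_le fun m => ?_)
    rintro _ ⟨w, hw, rfl⟩
    exact h.MX m m.2 w (hWX hw)
  have hYc : ∀ x ∈ Y, ∀ y ∈ Y, x * y = y * x := fun x hx y hy => hXc x (hYX hx) y (hYX hy)
  have hY2 : ∀ y ∈ Y, y * y = 1 := fun y hy => by rw [← pow_two]; exact elem_sq h.elX y (hYX hy)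
  have hMY : ∀ m ∈ M, ∀ y ∈ Y, m * y * m⁻¹ ∈ Y := by
    intro m hm
    have h1 : cj m Y ≤ Y := by
      rw [hY]
      show Subgroup.map _ _ ≤ _
      rw [Subgroup.map_sup, Subgroup.map_iSup]
      refine sup_le ?_ (iSup_le fun m' => ?_)
      · rintro _ ⟨v, hv, rfl⟩
        exact hVY (D.MV m hm v hv)
      · have e : Subgroup.map (MulAut.conj m).toMonoidHom (cj (m' : G) W) = cj (m * m') W := cj_cj m (m' : G) W
        rw [e]
        exact hWY _ (mul_mem hm m'.2)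
    exact fun y hy => h1 ⟨y, hy, rfl⟩
  -- members of `AA` which centralise `V` centralise `Y`
  have hYB : ∀ B ∈ AA, B ≤ centralizer (V : Set G) → ∀ b ∈ B, ∀ y ∈ Y, b * y = y * b := by
    intro B hB hBV b hb
    have h1 : Y ≤ centralizer ({b} : Set G) := by
      refine sup_le (fun v hv => mem_centralizer_singleton_iff.2 (mem_centralizer_iff.1 (hBV hb) v hv)) (iSup_le ?_)
      rintro ⟨m, hm⟩ _ ⟨w, hw, rfl⟩
      have h2 : cj m⁻¹ B ≤ (S : Subgroup G) := by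
        rintro _ ⟨c, hc, rfl⟩
        exact h.MQ m⁻¹ (inv_mem hm) c ⟨h.fam.le B hB hc, hBV hc⟩
      have h3 := h.fam.conj B hB m⁻¹ (h.ML (inv_mem hm)) h2
      have h4 := hWJ w hw (m⁻¹ * b * m⁻¹⁻¹) (h.AJ _ h3 ⟨b, hb, rfl⟩)
      rw [mem_centralizer_singleton_iff]
      show m * w * m⁻¹ * b = b * (m * w * m⁻¹)
      have h5 := congrArg (fun t => m * t * m⁻¹) h4
      simpa [mul_assoc] using h5.symm
    exact fun y hy => (mem_centralizer_singleton_iff.1 (h1 hy)).symm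
  have hgd := h.exists_gd hYX hYB hMY
  have hgm : ∀ {a}, Gd D Y a → ∀ y ∈ Y, a * y * a⁻¹ * y⁻¹ ∈ V := fun ha y hy => ha.comm_mem D hYc hVY hy
  have hKV : ∀ k ∈ Kr D Y, ∀ v ∈ V, k * v = v * k := fun k hk => (D.r_eq_one_iff hk.1).1 hk.2.1
  have hKn : ∀ m ∈ M, ∀ k ∈ Kr D Y, m * k * m⁻¹ ∈ Kr D Y := by
    rintro m hm k ⟨h1, h2, h3⟩
    refine ⟨mul_mem (mul_mem hm h1) (inv_mem hm), ?_, fun y hy => ?_⟩
    · rw [D.r_mul (mul_mem hm h1) (inv_mem hm), D.r_mul hm h1, h2, mul_one, D.r_inv hm, mul_inv_cancel]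
    · have h4 := hMY m⁻¹ (inv_mem hm) y hy
      rw [inv_inv] at h4
      have h5 := D.MV m hm _ (h3 _ h4)
      have e : m * (k * (m⁻¹ * y * m) * k⁻¹ * (m⁻¹ * y * m)⁻¹) * m⁻¹ = m * k * m⁻¹ * y * (m * k * m⁻¹)⁻¹ * y⁻¹ := by
        group
      rwa [e] at h5
  -- the value of `k ↦ [k, w]`
  have hphi : ∀ w ∈ W, ∀ k ∈ Kr D Y, IsPGroup 2 (zpowers k) → ∀ j ∈ J, j * (k * w * k⁻¹ * w⁻¹) = k * w * k⁻¹ * w⁻¹ * j := by
    intro w hw k hk hk' j hj
    have hKS : (S : Subgroup G) ≤ Kr D Y ⊔ (S : Subgroup G) := le_sup_right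
    obtain ⟨m, hm, hmS⟩ := exists_into S hKS hk' (by rw [zpowers_le]; exact mem_sup_left hk)
    rw [sup_comm] at hm
    obtain ⟨s, hs, g, hg, rfl⟩ := Cfsg.Agent.Omega.SQ1.Bau.mem_sup_norm (A := (S : Subgroup G)) (B := Kr D Y)
      (fun s hs => mem_normalizer_iff.2 fun c => ⟨fun hc => hKn s (h.SM hs) c hc, fun hc => by
        have h3 := hKn _ (inv_mem (h.SM hs)) _ hc
        have e1 : s⁻¹ * (s * c * s⁻¹) * s⁻¹⁻¹ = c := by group
        rwa [e1] at h3⟩) hm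
    have h1 : s * g * k * (s * g)⁻¹ ∈ (S : Subgroup G) := hmS ⟨k, mem_zpowers k, rfl⟩
    have h2 : g * k * g⁻¹ ∈ (S : Subgroup G) := by
      have h3 := mul_mem (mul_mem (inv_mem hs) h1) hs
      have e1 : s⁻¹ * (s * g * k * (s * g)⁻¹) * s = g * k * g⁻¹ := by group
      rwa [e1] at h3
    -- `[k^g, w] = [k, w]`
    have h3 := hk.2.2 w (hWY' hw)
    have h4 := (inv_mem hg).2.2 w (hWY' hw)
    rw [inv_inv] at h4
    have h5 := phi_conj D (hKV k hk) h3 h4
    have h6 : g * (k * w * k⁻¹ * w⁻¹) * g⁻¹ = k * w * k⁻¹ * w⁻¹ := by rw [hKV g hg _ h3]; group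
    rw [h6] at h5
    have h7 : k * w * k⁻¹ * w⁻¹ ∈ W := by
      rw [← h5]
      exact mul_mem (hWS _ h2 w hw) (inv_mem hw)
    exact hWJ _ h7 j hj
  -- it is trivial
  have hphi1 : ∀ w ∈ W, ∀ k ∈ Kr D Y, IsPGroup 2 (zpowers k) → k * w = w * k := by
    intro w hw k hk hk'
    set u := k * w * k⁻¹ * w⁻¹ with hu
    have huV : u ∈ V := hk.2.2 w (hWY' hw)
    have hul : ∀ l, Gd D Y l → ∀ j ∈ J, j * (l * u * l⁻¹) = l * u * l⁻¹ * j := by
      intro l hl j hj
      have h4 : l⁻¹ * w * l * w⁻¹ ∈ V := by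
        have h5 := hgm hl _ (hMY l⁻¹ (inv_mem hl.aM) w (hWY' hw))
        rw [inv_inv] at h5
        have e : l * (l⁻¹ * w * l) * l⁻¹ * (l⁻¹ * w * l)⁻¹ = (l⁻¹ * w * l * w⁻¹)⁻¹ := by group
        rw [e] at h5
        exact inv_mem_iff.1 h5
      rw [← phi_conj D (hKV k hk) huV h4]
      refine hphi w hw _ (hKn l hl.aM k hk) ?_ j hj
      have e : zpowers (l * k * l⁻¹) = cj l (zpowers k) := by
        show _ = Subgroup.map _ _
        rw [MonoidHom.map_zpowers]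
        rfl
      rw [e]
      exact hk'.map _
    have hu1 : u = 1 := by
      refine D.inj u huV ?_
      funext x
      obtain ⟨p, hp, A, hA, a, ha, hap⟩ := h.mv x
      obtain ⟨hne, hpb, a', ha', ea'⟩ := h.pr_of_move hA ha hap
      set q := D.r a p with hq
      have haJ : a' ∈ J := h.J0_le_J ha'
      have haM : a' ∈ M := h.J0M ha'
      have hpq : D.e u p = D.e u q := by
        have h5 := (D.comm_iff haM huV).1 (hphi w hw k hk hk' a' haJ) p
        rw [ea', Equiv.swap_apply_left] at h5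
        exact h5.symm
      have hall : ∀ z, D.blk z = D.blk x → D.e u z = D.e u p := by
        intro z hz
        by_cases hzp : z = p
        · rw [hzp]
        by_cases hzq : z = q
        · rw [hzq, hpq]
        obtain ⟨l, hl, el⟩ := hgd q z (Ne.symm hzq) (by rw [← hpb, hp, hz])
        have h5 := (D.comm_iff haM (D.MV l hl.aM u huV)).1 (hul l hl a' haJ) p
        rw [ea', Equiv.swap_apply_left, D.e_conj' hl.aM huV, D.e_conj' hl.aM huV, el, Equiv.swap_inv,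
          Equiv.swap_apply_left, Equiv.swap_apply_of_ne_of_ne hne (Ne.symm hzp)] at h5
        exact h5
      have h6 := D.bs_const (f := D.e u) (x := x) (c := D.e u p) hall
      rw [D.bs_e huV] at h6
      rw [hall x rfl, ← h6]
      rfl
    rw [hu] at hu1
    calc k * w = (k * w * k⁻¹ * w⁻¹) * (w * k) := by group
      _ = w * k := by rw [hu1, one_mul]
  refine hWY'.trans (core D S h.SM hVY hYc hY2 hMY (fun k hk hk1 hk2 => ?_) hgd fun y hy hyS => ?_)
  · have hkK : k ∈ Kr D Y := ⟨hk, hk1, hk2⟩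
    have h1 : Y ≤ centralizer ({k} : Set G) := by
      refine sup_le (fun v hv => mem_centralizer_singleton_iff.2 (hKV k hkK v hv).symm) (iSup_le ?_)
      rintro ⟨m, hm⟩ _ ⟨w, hw, rfl⟩
      have h2 := comm_of_two D (hWY' hw) (hphi1 w hw) (hKn m⁻¹ (inv_mem hm) k hkK)
      rw [mem_centralizer_singleton_iff]
      show m * w * m⁻¹ * k = k * (m * w * m⁻¹)
      have h5 := congrArg (fun t => m * t * m⁻¹) h2
      simpa [mul_assoc] using h5.symm
    exact fun y hy => (mem_centralizer_singleton_iff.1 (h1 hy)).symm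
  · exact hZV (ChoiceBase.mem_zc.2 ⟨hXS (hYX hy), elem_sq h.elX y (hYX hy), hyS⟩)

end Lv

end Cfsg.Agent.Omega.NOThreeL.RRed.BFr
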