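import Cfsg.Agent.Omega.NOThreeL.RRed.BFr.Idx
import Cfsg.Agent.Omega.OM.NX

/-!
# NO-3L, box R: the frame `FrL` over `B = C_S(Z_J)`

* `h.ZJ_oo` : the elements of `Z_J` vanish at the letters `oo`;
* `h.XX i` : the elements of `M` preserving the other pairs and `{xx i, yy i, oo}`; `h.nx i : NX F₂ B (XX i) (W i)`;
* `h.exists_A` : a best offender acting only on `W i`;
* **`h.exists_frL`** : the frame `FrL B Q V X Z_J L W ⟨d⟩ C A 2`.
-/

set_option autoImplicit false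
set_option linter.unusedSectionVars false

namespace Cfsg.Agent.Omega.NOThreeL.RRed.BFr

open Subgroup Cfsg Cfsg.Agent.ZN Cfsg.Agent.ZN.ChoiceBase
open Cfsg.Agent.PLocal.ThompsonJ (isElementaryAbelian_iff)
open Cfsg.Agent.Omega.SQ1.Bau (mem_sup_comm card_sup_comm elem_comm elem_sq)
open Cfsg.Agent.Omega.OM.Lev.Uni (Best FrL)
open Cfsg.Agent.Omega.OM.Uni (NX FB)
open Cfsg.Agent.Omega.FFThm (ElemM)
open Cfsg.Agent.Omega.NO3S.OneLine (BFam)
open Cfsg.Agent.Omega.NatPair (ap ap_zero' ap_one' ap_one ap_mul ext2)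
open Cfsg.Agent.Lib.SL2Mat (ent mk mk_00 mk_01 mk_10 mk_11 up lo ext_ent ent_mul det_eq eq_up_lo_up)

universe u

variable {G : Type u} [Group G]

theorem zmod_two (c : ZMod 2) : c = 0 ∨ c = 1 := by
  revert c; decide

namespace Lv

variable {S : Sylow 2 G} {M V : Subgroup G} {Pt I : Type} [Fintype Pt] [DecidableEq Pt] [DecidableEq I]
variable {D : Pts M V Pt I} {X L J : Subgroup G} {AA : Set (Subgroup G)} (h : Lv S D X L J AA)
include h

variable [Finite G]

/-- the elements of `Z_J` vanish at the letters `oo` -/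
theorem ZJ_oo {z : G} (hz : z ∈ ZJ V J) (x : Pt) : D.e z (h.oo x) = 0 := by
  classical
  have hzV : z ∈ V := hz.1
  have h1 := D.even z hzV x
  have ho : h.oo x ∈ Finset.univ.filter fun y => D.blk y = D.blk x :=
    Finset.mem_filter.2 ⟨Finset.mem_univ _, h.oo_blk x⟩
  rw [← Finset.add_sum_erase _ _ ho] at h1
  suffices h2 : ∑ y ∈ (Finset.univ.filter fun y => D.blk y = D.blk x).erase (h.oo x), D.e z y = 0 by
    rw [h2, add_zero] at h1
    exact h1
  -- the partner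
  have hp : ∀ y ∈ (Finset.univ.filter fun y => D.blk y = D.blk x).erase (h.oo x), ∃ w, Pr D AA y w := by
    intro y hy
    rw [Finset.mem_erase, Finset.mem_filter] at hy
    by_contra hcon
    push Not at hcon
    exact hy.1 (h.eq_oo hcon hy.2.2)
  choose g hg using hp
  refine Finset.sum_involution g ?_ ?_ ?_ ?_
  · intro y hy
    obtain ⟨i, hi, hj⟩ := h.mem_of_pr (hg y hy)
    have h3 := (h.mem_ZJ_iff hzV).1 hz i
    have h4 : D.e z y = D.e z (g y hy) := by
      rcases hi with e1 | e1 <;> rcases hj with e2 | e2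
      · rw [e2, e1]
      · rw [e2, e1, h3]
      · rw [e2, e1, h3]
      · rw [e2, e1]
    rw [← h4, add_self]
  · intro y hy _ e
    exact (hg y hy).1 e.symm
  · intro y hy
    have h5 := hg y hy
    rw [Finset.mem_erase, Finset.mem_filter] at hy ⊢
    refine ⟨fun e => ?_, Finset.mem_univ _, h5.2.1.symm.trans hy.2.2⟩
    exact h.oo_un x _ (e ▸ h5.symm)
  · intro y hy
    exact h.Pr_unique (hg _ _) (hg y hy).symm

/-- the three letters of `W i` -/
def M3 (i : Idx D AA) (x : Pt) : Prop := Mem i x ∨ x = h.oo (xx i)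

theorem M3_blk {i : Idx D AA} {x : Pt} (hx : h.M3 i x) : D.blk x = D.blk (xx i) := by
  rcases hx with hx | rfl
  · exact hx.blk
  · exact h.oo_blk _

theorem M3_disj {i j : Idx D AA} (hij : j ≠ i) {x : Pt} (hx : h.M3 i x) : ¬ Mem j x := by
  intro hj
  rcases hx with hx | rfl
  · exact hij (h.mem_inj hj hx)
  · exact h.oo_not_mem _ _ hj

/-- the group inducing `Sym(3)` on the three letters -/
def XX (i : Idx D AA) : Subgroup G where
  carrier := {m | m ∈ M ∧ (∀ j : Idx D AA, j ≠ i → ∀ x, Mem j (D.r m x) ↔ Mem j x) ∧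
    ∀ x, h.M3 i (D.r m x) ↔ h.M3 i x}
  mul_mem' := by
    rintro a b ⟨ha, ha1, ha2⟩ ⟨hb, hb1, hb2⟩
    refine ⟨mul_mem ha hb, fun j hj x => ?_, fun x => ?_⟩
    · rw [D.r_mul ha hb, Equiv.Perm.mul_apply, ha1 j hj, hb1 j hj]
    · rw [D.r_mul ha hb, Equiv.Perm.mul_apply, ha2, hb2]
  one_mem' := ⟨one_mem _, fun j _ x => by rw [D.r_one]; rfl, fun x => by rw [D.r_one]; rfl⟩
  inv_mem' := by
    rintro a ⟨ha, ha1, ha2⟩
    refine ⟨inv_mem ha, fun j hj x => ?_, fun x => ?_⟩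
    · rw [D.r_inv ha, ← ha1 j hj, apply_inv_self']
    · rw [D.r_inv ha, ← ha2, apply_inv_self']

theorem XX_le_M (i : Idx D AA) : h.XX i ≤ M := fun _ hm => hm.1

theorem swap_mem {i : Idx D AA} {t : G} (ht : t ∈ M) {a b : Pt} (ha : h.M3 i a) (hb : h.M3 i b)
    (e : D.r t = Equiv.swap a b) : t ∈ h.XX i := by
  have key : ∀ x, x ≠ a → x ≠ b → D.r t x = x := fun x h1 h2 => by rw [e, Equiv.swap_apply_of_ne_of_ne h1 h2]
  have ka : D.r t a = b := by rw [e, Equiv.swap_apply_left]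
  have kb : D.r t b = a := by rw [e, Equiv.swap_apply_right]
  refine ⟨ht, fun j hj x => ?_, fun x => ?_⟩
  · by_cases h1 : x = a
    · subst h1
      rw [ka]
      exact iff_of_false (h.M3_disj hj hb) (h.M3_disj hj ha)
    · by_cases h2 : x = b
      · subst h2
        rw [kb]
        exact iff_of_false (h.M3_disj hj ha) (h.M3_disj hj hb)
      · rw [key x h1 h2]
  · by_cases h1 : x = a
    · subst h1; rw [ka]; exact iff_of_true hb ha
    · by_cases h2 : x = b
      · subst h2; rw [kb]; exact iff_of_true ha hb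
      · rw [key x h1 h2]

theorem Pp_mem_XX {i : Idx D AA} {m : G} (hm : m ∈ M) (hp : Pp D AA m) : m ∈ h.XX i := by
  refine ⟨hm, fun j _ x => ⟨fun hx => hp.mem_inv hx, fun hx => hp j x hx⟩, fun x => ?_⟩
  constructor
  · rintro (hx | hx)
    · exact Or.inl (hp.mem_inv hx)
    · right
      have h1 := h.Pp_oo hm hp (xx i)
      exact (D.r m).injective (hx.trans h1.symm)
  · rintro (hx | rfl)
    · exact Or.inl (hp i x hx)
    · right; exact h.Pp_oo hm hp (xx i)

theorem B_le_XX (i : Idx D AA) : BB (S : Subgroup G) V J ≤ h.XX i := fun _ hb =>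
  h.Pp_mem_XX (h.SM hb.1) (h.B_Pp hb)

theorem n1 (i : Idx D AA) : xx i ≠ h.oo (xx i) := fun e => h.oo_not_mem (xx i) i (e ▸ Or.inl rfl)

theorem n2 (i : Idx D AA) : yy i ≠ h.oo (xx i) := fun e => h.oo_not_mem (xx i) i (e ▸ Or.inr rfl)

/-- coordinates on `W i` -/
noncomputable def pi (i : Idx D AA) (v : G) : Fin 2 → ZMod 2 := ![D.e v (xx i), D.e v (h.oo (xx i))]

omit h in
/-- the coefficient of a letter -/
noncomputable def row (i : Idx D AA) (z : Pt) : ZMod 2 × ZMod 2 :=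
  if z = xx i then (1, 0) else if z = yy i then (1, 1) else (0, 1)

theorem row_spec {i : Idx D AA} {z : Pt} (hz : h.M3 i z) {v : G} (hv : v ∈ h.W i) :
    D.e v z = (row i z).1 * D.e v (xx i) + (row i z).2 * D.e v (h.oo (xx i)) := by
  unfold row
  rcases hz with (rfl | rfl) | rfl
  · rw [if_pos rfl]; ring
  · rw [if_neg (ne_i i).symm, if_pos rfl, h.W_sum hv]; ring
  · rw [if_neg (h.n1 i).symm, if_neg (h.n2 i).symm]; ring

theorem row_det {i : Idx D AA} {a b : Pt} (ha : h.M3 i a) (hb : h.M3 i b) (hab : a ≠ b) :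
    (row i a).1 * (row i b).2 - (row i a).2 * (row i b).1 = 1 := by
  unfold row
  rcases ha with (rfl | rfl) | rfl <;> rcases hb with (rfl | rfl) | rfl
  · exact absurd rfl hab
  · rw [if_pos rfl, if_neg (ne_i i).symm, if_pos rfl]; decide
  · rw [if_pos rfl, if_neg (h.n1 i).symm, if_neg (h.n2 i).symm]; decide
  · rw [if_pos rfl, if_neg (ne_i i).symm, if_pos rfl]; decide
  · exact absurd rfl hab
  · rw [if_neg (ne_i i).symm, if_pos rfl, if_neg (h.n1 i).symm, if_neg (h.n2 i).symm]; decide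
  · rw [if_pos rfl, if_neg (h.n1 i).symm, if_neg (h.n2 i).symm]; decide
  · rw [if_neg (ne_i i).symm, if_pos rfl, if_neg (h.n1 i).symm, if_neg (h.n2 i).symm]; decide
  · exact absurd rfl hab

theorem W_norm {i : Idx D AA} {l : G} (hl : l ∈ h.XX i) {v : G} (hv : v ∈ h.W i) : l * v * l⁻¹ ∈ h.W i := by
  refine ⟨D.MV l hl.1 v hv.1, fun z h1 h2 => ?_⟩
  rw [D.e_conj' hl.1 hv.1]
  have h3 : ¬ h.M3 i ((D.r l)⁻¹ z) := by
    rw [← hl.2.2, apply_inv_self']
    rintro (h4 | h4)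
    · exact h1 h4
    · exact h2 h4
  exact hv.2 _ (fun h4 => h3 (Or.inl h4)) (fun h4 => h3 (Or.inr h4))

theorem acts {i : Idx D AA} {l : G} (hl : l ∈ h.XX i) :
    ∃ A : Matrix.SpecialLinearGroup (Fin 2) (ZMod 2), ∀ v ∈ h.W i, h.pi i (l * v * l⁻¹) = ap A (h.pi i v) := by
  have hx : h.M3 i ((D.r l)⁻¹ (xx i)) := by
    rw [← hl.2.2, apply_inv_self']; exact Or.inl (Or.inl rfl)
  have ho : h.M3 i ((D.r l)⁻¹ (h.oo (xx i))) := by
    rw [← hl.2.2, apply_inv_self']; exact Or.inr rfl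
  have hne : (D.r l)⁻¹ (xx i) ≠ (D.r l)⁻¹ (h.oo (xx i)) := fun e => h.n1 i ((D.r l)⁻¹.injective e)
  refine ⟨Cfsg.Agent.Lib.SL2Mat.mk _ _ _ _ (h.row_det hx ho hne), fun v hv => ext2 ?_ ?_⟩
  · rw [ap_zero', mk_00, mk_01]
    show D.e (l * v * l⁻¹) (xx i) = _
    rw [D.e_conj' hl.1 hv.1, h.row_spec hx hv]
    rfl
  · rw [ap_one', mk_10, mk_11]
    show D.e (l * v * l⁻¹) (h.oo (xx i)) = _
    rw [D.e_conj' hl.1 hv.1, h.row_spec ho hv]
    rfl

/-- `swap xx yy` acts as `up 1` -/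
theorem acts_swap {i : Idx D AA} {t : G} (ht : t ∈ M) (e : D.r t = Equiv.swap (xx i) (yy i)) {v : G} (hv : v ∈ h.W i) :
    h.pi i (t * v * t⁻¹) = ap (up 1) (h.pi i v) := by
  have e' : (D.r t)⁻¹ = Equiv.swap (xx i) (yy i) := by rw [e, Equiv.swap_inv]
  refine ext2 ?_ ?_
  · rw [ap_zero']
    show D.e (t * v * t⁻¹) (xx i) = 1 * D.e v (xx i) + 1 * D.e v (h.oo (xx i))
    rw [D.e_conj' ht hv.1, e', Equiv.swap_apply_left, h.W_sum hv, one_mul, one_mul]
  · rw [ap_one']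
    show D.e (t * v * t⁻¹) (h.oo (xx i)) = 0 * D.e v (xx i) + 1 * D.e v (h.oo (xx i))
    rw [D.e_conj' ht hv.1, e', Equiv.swap_apply_of_ne_of_ne (h.n1 i).symm (h.n2 i).symm, zero_mul, one_mul, zero_add]

/-- `swap yy oo` acts as `lo 1` -/
theorem acts_swap' {i : Idx D AA} {t : G} (ht : t ∈ M) (e : D.r t = Equiv.swap (yy i) (h.oo (xx i))) {v : G}
    (hv : v ∈ h.W i) : h.pi i (t * v * t⁻¹) = ap (lo 1) (h.pi i v) := by
  have e' : (D.r t)⁻¹ = Equiv.swap (yy i) (h.oo (xx i)) := by rw [e, Equiv.swap_inv]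
  refine ext2 ?_ ?_
  · rw [ap_zero']
    show D.e (t * v * t⁻¹) (xx i) = 1 * D.e v (xx i) + 0 * D.e v (h.oo (xx i))
    rw [D.e_conj' ht hv.1, e', Equiv.swap_apply_of_ne_of_ne (ne_i i) (h.n1 i), zero_mul, one_mul, add_zero]
  · rw [ap_one']
    show D.e (t * v * t⁻¹) (h.oo (xx i)) = 1 * D.e v (xx i) + 1 * D.e v (h.oo (xx i))
    rw [D.e_conj' ht hv.1, e', Equiv.swap_apply_right, h.W_sum hv, one_mul, one_mul]

theorem pi_one (i : Idx D AA) {v : G} : h.pi i (1 * v * 1⁻¹) = ap (up 0) (h.pi i v) := by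
  rw [one_mul, inv_one, mul_one, Cfsg.Agent.Lib.SL2Mat.up_zero, ap_one]

theorem cov (i : Idx D AA) (A : Matrix.SpecialLinearGroup (Fin 2) (ZMod 2)) :
    ∃ l ∈ h.XX i, ∀ v ∈ h.W i, h.pi i (l * v * l⁻¹) = ap A (h.pi i v) := by
  have hmul : ∀ A A', (∃ l ∈ h.XX i, ∀ v ∈ h.W i, h.pi i (l * v * l⁻¹) = ap A (h.pi i v)) →
      (∃ l ∈ h.XX i, ∀ v ∈ h.W i, h.pi i (l * v * l⁻¹) = ap A' (h.pi i v)) →
        ∃ l ∈ h.XX i, ∀ v ∈ h.W i, h.pi i (l * v * l⁻¹) = ap (A * A') (h.pi i v) := by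
    rintro A A' ⟨l, hl, e⟩ ⟨l', hl', e'⟩
    refine ⟨l * l', mul_mem hl hl', fun v hv => ?_⟩
    have e1 : l * l' * v * (l * l')⁻¹ = l * (l' * v * l'⁻¹) * l⁻¹ := by group
    rw [e1, e _ (h.W_norm hl' hv), e' v hv, ap_mul]
  have hup : ∀ c : ZMod 2, ∃ l ∈ h.XX i, ∀ v ∈ h.W i, h.pi i (l * v * l⁻¹) = ap (up c) (h.pi i v) := by
    intro c
    rcases zmod_two c with rfl | rfl
    · exact ⟨1, one_mem _, fun v _ => h.pi_one i⟩
    · obtain ⟨t, ht, et⟩ := D.full _ _ (ne_i i) (blk_i i)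
      have e := D.r_eq ht et
      exact ⟨t, h.swap_mem ht (Or.inl (Or.inl rfl)) (Or.inl (Or.inr rfl)) e, fun v hv => h.acts_swap ht e hv⟩
  have hlo : ∃ l ∈ h.XX i, ∀ v ∈ h.W i, h.pi i (l * v * l⁻¹) = ap (lo 1) (h.pi i v) := by
    obtain ⟨t, ht, et⟩ := D.full _ _ (h.n2 i) ((blk_i i).symm.trans (h.oo_blk _).symm)
    have e := D.r_eq ht et
    exact ⟨t, h.swap_mem ht (Or.inl (Or.inr rfl)) (Or.inr rfl) e, fun v hv => h.acts_swap' ht e hv⟩
  rcases zmod_two (ent A 1 0) with h0 | h0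
  · have hd := det_eq A
    rw [h0, mul_zero, sub_zero] at hd
    have ha : ent A 0 0 = 1 := by
      rcases zmod_two (ent A 0 0) with e | e
      · rw [e, zero_mul] at hd; exact absurd hd (by decide)
      · exact e
    have hd' : ent A 1 1 = 1 := by rwa [ha, one_mul] at hd
    have e : A = up (ent A 0 1) := ext_ent ha rfl h0 hd'
    rw [e]
    exact hup _
  · have hne : ent A 1 0 ≠ 0 := by rw [h0]; decide
    have e := eq_up_lo_up A hne
    rw [e, h0]
    exact hmul _ _ (hmul _ _ (hup _) hlo) (hup _)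

theorem Q_le_B : (S : Subgroup G) ⊓ centralizer (V : Set G) ≤ BB (S : Subgroup G) V J := fun x hx =>
  mem_BB.2 ⟨hx.1, fun z hz => (mem_centralizer_iff.1 hx.2 z hz.1).symm⟩

omit h in
/-- `Ω₁Z(Q) ≤ V` for `Q = C_S(V)` -/
def ZcQ (S V : Subgroup G) : Prop := ∀ x ∈ S ⊓ centralizer (V : Set G), x ^ 2 = 1 →
  (∀ y ∈ S ⊓ centralizer (V : Set G), x * y = y * x) → x ∈ V

/-- `Ω₁Z(B) = Z_J` -/
theorem zc_B (hz : ZcQ (S : Subgroup G) V) : zc (BB (S : Subgroup G) V J) = ZJ V J := by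
  ext z
  rw [ChoiceBase.mem_zc]
  constructor
  · rintro ⟨h1, h2, h3⟩
    have h4 : z ∈ V := hz z ⟨h1.1, mem_centralizer_iff.2 fun v hv => h3 v (h.V_le_B hv)⟩ h2
      fun y hy => (h3 y (h.Q_le_B hy)).symm
    exact mem_ZJ.2 ⟨h4, fun y hy => h3 y (h.J_le_B hy)⟩
  · intro hz'
    refine ⟨h.V_le_B hz'.1, ?_, fun b hb => (mem_BB.1 hb).2 z hz'⟩
    rw [pow_two]; exact D.sq hz'.1

theorem W_elem (i : Idx D AA) : IsElementaryAbelian 2 (h.W i) :=
  isElementaryAbelian_iff.2 ⟨fun x hx y hy => D.comm hx.1 hy.1, fun x hx => by rw [pow_two]; exact D.sq hx.1⟩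

theorem zj_act {i : Idx D AA} {l z : G} (hl : l ∈ h.XX i) (hz : z ∈ ZJ V J) : l * z * l⁻¹ * z⁻¹ ∈ h.W i := by
  have hzV : z ∈ V := hz.1
  have hlz := D.MV l hl.1 z hzV
  refine ⟨mul_mem hlz (inv_mem hzV), fun u h1 h2 => ?_⟩
  rw [D.mul _ hlz _ (inv_mem hzV), D.map_inv hzV, Pi.add_apply, D.e_conj' hl.1 hzV]
  have h3 : ¬ h.M3 i ((D.r l)⁻¹ u) := by
    rw [← hl.2.2, apply_inv_self']
    rintro (h4 | h4)
    · exact h1 h4
    · exact h2 h4
  suffices h4 : D.e z ((D.r l)⁻¹ u) = D.e z u by rw [h4, add_self]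
  rcases h.cover u with hu | ⟨j, hj⟩
  · rcases h.cover ((D.r l)⁻¹ u) with hu' | ⟨j, hj⟩
    · rw [hu', hu, h.ZJ_oo hz, h.ZJ_oo hz]
    · exfalso
      by_cases hji : j = i
      · subst hji; exact h3 (Or.inl hj)
      · rw [← hl.2.1 j hji, apply_inv_self', hu] at hj
        exact h.oo_not_mem _ _ hj
  · have hji : j ≠ i := fun e => h1 (e ▸ hj)
    have hj' : Mem j ((D.r l)⁻¹ u) := by
      rw [← hl.2.1 j hji, apply_inv_self']; exact hj
    have h5 := (h.mem_ZJ_iff hzV).1 hz j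
    rcases hj with e1 | e1 <;> rcases hj' with e2 | e2
    · rw [e2, e1]
    · rw [e2, e1, h5]
    · rw [e2, e1, h5]
    · rw [e2, e1]

/-- **`B` is a Sylow 2-subgroup of `XX i`.** -/
theorem syl_XX {i : Idx D AA} {T : Subgroup G} (hBT : BB (S : Subgroup G) V J ≤ T) (hTX : T ≤ h.XX i)
    (hT : IsPGroup 2 T) : T = BB (S : Subgroup G) V J := by
  have hTM : T ≤ M := hTX.trans (h.XX_le_M i)
  -- a fixed letter
  obtain ⟨z, hz, hfix⟩ := h.fix_of_odd hTM hT {xx i, yy i, h.oo (xx i)} (by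
    rw [Finset.card_insert_of_notMem (by simp [ne_i i, h.n1 i]), Finset.card_pair (h.n2 i)]; decide) (by
    intro t ht y hy
    have h1 : h.M3 i y := by
      simp only [Finset.mem_insert, Finset.mem_singleton] at hy
      rcases hy with e | e | e
      · exact Or.inl (Or.inl e)
      · exact Or.inl (Or.inr e)
      · exact Or.inr e
    have h2 := ((hTX ht).2.2 y).2 h1
    simp only [Finset.mem_insert, Finset.mem_singleton]
    rcases h2 with (e | e) | e
    · exact Or.inl e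
    · exact Or.inr (Or.inl e)
    · exact Or.inr (Or.inr e))
  obtain ⟨-, -, a, ha, ea⟩ := pr_i i
  have hza := hfix a (hBT (h.J0_le_B ha))
  rw [ea] at hza
  have hzo : z = h.oo (xx i) := by
    simp only [Finset.mem_insert, Finset.mem_singleton] at hz
    rcases hz with e | e | e
    · rw [e, Equiv.swap_apply_left] at hza
      exact absurd hza.symm (ne_i i)
    · rw [e, Equiv.swap_apply_right] at hza
      exact absurd hza (ne_i i)
    · exact e
  refine h.syl_B hT hTM hBT fun t ht z' hz' => h.ZJ_of_Pp (hTM ht) (fun j x hx => ?_) hz'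
  by_cases hji : j = i
  · subst hji
    have h1 := ((hTX ht).2.2 x).2 (Or.inl hx)
    rcases h1 with h1 | h1
    · exact h1
    · exfalso
      have h2 := hfix t ht
      rw [hzo] at h2
      have h3 : x = h.oo (xx j) := (D.r t).injective (h1.trans h2.symm)
      exact h.oo_not_mem _ j (h3 ▸ hx)
  · exact ((hTX ht).2.1 j hji x).2 hx

/-- **The block input.** -/
noncomputable def nx (hz : ZcQ (S : Subgroup G) V) (i : Idx D AA) : NX (ZMod 2) (BB (S : Subgroup G) V J) (h.XX i) (h.W i) where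
  π := h.pi i
  mul v hv w hw := by
    unfold pi
    rw [D.mul v hv.1 w hw.1]
    refine ext2 ?_ ?_ <;> rfl
  inj v hv e := by
    refine h.W_ext hv (one_mem _) ?_ ?_
    · have := congrFun e 0
      rw [D.map_one]
      exact this
    · have := congrFun e 1
      rw [D.map_one]
      exact this
  surj x := by
    obtain ⟨v, hv, e1, e2⟩ := h.exists_W i (x 0) (x 1)
    exact ⟨v, hv, ext2 e1 e2⟩
  el := h.W_elem i
  WB := (h.W_le_V i).trans h.V_le_B
  B2 := S.isPGroup'.to_le inf_le_left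
  BX := h.B_le_XX i
  nW l hl v hv := h.W_norm hl hv
  acts l hl := h.acts hl
  cov := h.cov i
  up b hb := by
    have hbM := h.B_le_M hb
    have hp := h.B_Pp hb
    have ho := h.Pp_oo hbM hp (xx i)
    have ho' : (D.r b)⁻¹ (h.oo (xx i)) = h.oo (xx i) := by rw [Equiv.Perm.inv_eq_iff_eq]; exact ho.symm
    rcases hp i (xx i) (Or.inl rfl) with h1 | h1
    · refine ⟨0, fun v hv => ?_⟩
      have h1' : (D.r b)⁻¹ (xx i) = xx i := by rw [Equiv.Perm.inv_eq_iff_eq]; exact h1.symm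
      rw [Cfsg.Agent.Lib.SL2Mat.up_zero, ap_one]
      refine ext2 ?_ ?_
      · show D.e (b * v * b⁻¹) (xx i) = _
        rw [D.e_conj' hbM hv.1, h1']; rfl
      · show D.e (b * v * b⁻¹) (h.oo (xx i)) = _
        rw [D.e_conj' hbM hv.1, ho']; rfl
    · have h2 : D.r b (yy i) = xx i := by
        rcases hp i (yy i) (Or.inr rfl) with h3 | h3
        · exact h3
        · exact absurd ((D.r b).injective (h1.trans h3.symm)) (ne_i i)
      have h2' : (D.r b)⁻¹ (xx i) = yy i := by rw [Equiv.Perm.inv_eq_iff_eq]; exact h2.symm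
      refine ⟨1, fun v hv => ext2 ?_ ?_⟩
      · rw [ap_zero']
        show D.e (b * v * b⁻¹) (xx i) = 1 * D.e v (xx i) + 1 * D.e v (h.oo (xx i))
        rw [D.e_conj' hbM hv.1, h2', h.W_sum hv, one_mul, one_mul]
      · rw [ap_one']
        show D.e (b * v * b⁻¹) (h.oo (xx i)) = 0 * D.e v (xx i) + 1 * D.e v (h.oo (xx i))
        rw [D.e_conj' hbM hv.1, ho', zero_mul, one_mul, zero_add]
  upc c := by
    rcases zmod_two c with rfl | rfl
    · exact ⟨1, one_mem _, fun v _ => h.pi_one i⟩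
    · obtain ⟨-, -, a, ha, ea⟩ := pr_i i
      exact ⟨a, h.J0_le_B ha, fun v hv => h.acts_swap (h.J0M ha) ea hv⟩
  syl T h1 h2 h3 := h.syl_XX h1 h2 h3
  act l hl z hz' := h.zj_act hl (by rw [h.zc_B hz] at hz'; exact hz')

/-- the line is `⟨d i⟩` -/
theorem Zs_eq (hz : ZcQ (S : Subgroup G) V) (i : Idx D AA) : (h.nx hz i).Zs = zpowers (D.pe (xx i) (yy i)) := by
  have hd : D.pe (xx i) (yy i) ∈ h.W i := by
    refine ⟨D.pe_mem _ _, fun z h1 _ => ?_⟩
    rw [D.e_pe' (blk_i i), if_neg (fun e => h1 (Or.inl e)), if_neg (fun e => h1 (Or.inr e)), add_zero]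
  have hdx : D.e (D.pe (xx i) (yy i)) (xx i) = 1 := by
    rw [D.e_pe' (blk_i i), if_pos rfl, if_neg (ne_i i), add_zero]
  have hdo : D.e (D.pe (xx i) (yy i)) (h.oo (xx i)) = 0 := by
    rw [D.e_pe' (blk_i i), if_neg (h.n1 i).symm, if_neg (h.n2 i).symm, add_zero]
  ext v
  rw [NX.mem_Zs]
  constructor
  · rintro ⟨hv, h1⟩
    have h1' : D.e v (h.oo (xx i)) = 0 := h1
    rcases zmod_two (D.e v (xx i)) with h2 | h2
    · have : v = 1 := h.W_ext hv (one_mem _) (by rw [h2, D.map_one]; rfl) (by rw [h1', D.map_one]; rfl)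
      rw [this]; exact one_mem _
    · have : v = D.pe (xx i) (yy i) := h.W_ext hv hd (by rw [h2, hdx]) (by rw [h1', hdo])
      rw [this]; exact mem_zpowers _
  · intro hv
    have h2 : zpowers (D.pe (xx i) (yy i)) ≤ (h.nx hz i).Zs := by
      rw [zpowers_le]
      exact ⟨hd, hdo⟩
    exact h2 hv

/-- a member of `AA` acting only on `W i` -/
theorem exists_A (i : Idx D AA) : ∃ A ∈ AA, (∃ a ∈ A, D.r a = Equiv.swap (xx i) (yy i)) ∧
    ∀ a ∈ A, D.r a = 1 ∨ D.r a = Equiv.swap (xx i) (yy i) := by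
  have h1 : ∃ A ∈ AA, ∃ a ∈ A, D.r a (xx i) ≠ xx i := by
    by_contra hcon
    push Not at hcon
    let N : Subgroup G :=
      { carrier := {a | a ∈ M ∧ D.r a (xx i) = xx i}
        mul_mem' := by
          rintro a b ⟨ha, ha'⟩ ⟨hb, hb'⟩
          exact ⟨mul_mem ha hb, by rw [D.r_mul ha hb, Equiv.Perm.mul_apply, hb', ha']⟩
        one_mem' := ⟨one_mem _, by rw [D.r_one]; rfl⟩
        inv_mem' := by
          rintro a ⟨ha, ha'⟩
          exact ⟨inv_mem ha, by rw [D.r_inv ha, Equiv.Perm.inv_eq_iff_eq]; exact ha'.symm⟩ }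
    have h2 : sSup AA ≤ N := sSup_le fun A hA a ha => ⟨h.SM (h.fam.le A hA ha), hcon A hA a ha⟩
    obtain ⟨-, -, a, ha, ea⟩ := pr_i i
    have h3 := (h2 ha).2
    rw [ea, Equiv.swap_apply_left] at h3
    exact ne_i i h3.symm
  obtain ⟨A, hA, a, ha, hax⟩ := h1
  have h2 := h.Pr_unique (h.pr_of_move hA ha hax) (pr_i i)
  exact h.exists_member hA ha h2 (ne_i i)

/-- **THE FRAME OVER `B`.** -/
theorem exists_frL (hz : ZcQ (S : Subgroup G) V) : ∃ Lb A : Idx D AA → Subgroup G,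
    (∀ i, Lb i ≤ h.XX i) ∧ (∀ i, A i ∈ AA) ∧
    (∀ i, ∀ T : Matrix.SpecialLinearGroup (Fin 2) (ZMod 2), ∃ l ∈ Lb i, (h.nx hz i).Acts l T) ∧
    FrL (BB (S : Subgroup G) V J) ((S : Subgroup G) ⊓ centralizer (V : Set G)) V X (ZJ V J) Lb h.W
      (fun i => zpowers (D.pe (xx i) (yy i))) (fun i => C D i) A 2 := by
  have h2 : Nat.card (ZMod 2) = 2 := by rw [Nat.card_zmod]
  choose Lb hB hX hFB hcov hmin using fun i => (h.nx hz i).exists_block
  choose A hA hAs hAa using h.exists_A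
  refine ⟨Lb, A, hX, hA, hcov, ?_⟩
  have hLM : ∀ i, Lb i ≤ M := fun i => (hX i).trans (h.XX_le_M i)
  refine
    { blk := fun i => by
        have h3 := hFB i
        rw [h2, h.Zs_eq hz i] at h3
        exact h3
      cardZ := fun i => by
        have h3 := (h.nx hz i).card_Zs
        rw [h2, h.Zs_eq hz i] at h3
        exact h3
      QB := h.Q_le_B
      VQ := fun v hv => ⟨h.VS hv, mem_centralizer_iff.2 fun u hu => D.comm hu hv⟩
      elX := h.elX
      VX := h.VX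
      mem_Q := fun x hx => ⟨fun hq v hv => (mem_centralizer_iff.1 hq.2 v hv).symm, fun hc =>
        ⟨hx.1, mem_centralizer_iff.2 fun v hv => (hc v hv).symm⟩⟩
      zcQ := fun x hx h3 h4 => hz x hx h3 h4
      mem_ZJ := fun v => ⟨fun hv => ⟨hv.1, fun b hb => (mem_BB.1 hb).2 v hv⟩, fun hv =>
        mem_ZJ.2 ⟨hv.1, fun y hy => hv.2 y (h.J_le_B hy)⟩⟩
      LV := fun i l hl v hv => D.MV l (hLM i hl) v hv
      LQ := fun i l hl x hx => ?_
      LX := fun i l hl x hx => h.MX l (hLM i hl) x hx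
      WV := h.W_le_V
      CV := fun i => C_le_V i
      WC := fun i v hv => h.split_WC i hv
      dir := h.dir
      C0 := fun x hx hc => h.eq_one_of hx fun i => (hc i).2
      WjC := fun i j hij => h.W_le_C hij
      BC := fun i b hb c hc => ?_
      LC := fun i l hl z hz hzC => ?_
      AB := fun i => (le_sSup (hA i)).trans h.J0_le_B
      AX := fun i => h.fam.elem _ (hA i)
      best := fun i => h.fam.best _ (hA i)
      Ane := fun i hcon => ?_
      AC := fun i a ha c hc => ?_ }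
  · -- `LQ`
    have hlM := hLM i hl
    refine ⟨h.MQ l hlM x hx, mem_centralizer_iff.2 fun v hv => ?_⟩
    have h3 := mem_centralizer_iff.1 hx.2 (l⁻¹ * v * l) (by simpa using D.MV l⁻¹ (inv_mem hlM) v hv)
    calc v * (l * x * l⁻¹) = l * ((l⁻¹ * v * l) * x) * l⁻¹ := by group
      _ = l * x * l⁻¹ * v := by rw [h3]; group
  · -- `BC`
    have hbM := h.B_le_M hb
    have hp := h.B_Pp (inv_mem hb)
    have key : ∀ x, Mem i x → D.e c ((D.r b)⁻¹ x) = 0 := by
      intro x hx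
      have h3 := hp i x hx
      rw [D.r_inv hbM] at h3
      rcases h3 with e | e
      · rw [e]; exact hc.2.1
      · rw [e]; exact hc.2.2
    refine ⟨D.MV b hbM c hc.1, ?_, ?_⟩
    · rw [D.e_conj' hbM hc.1]; exact key _ (Or.inl rfl)
    · rw [D.e_conj' hbM hc.1]; exact key _ (Or.inr rfl)
  · -- `LC`
    have hlX := hX i hl
    have hzV : z ∈ V := hz.1
    rw [D.comm_iff hlX.1 hzV]
    intro u
    have h0 : ∀ u, h.M3 i u → D.e z u = 0 := by
      rintro u ((rfl | rfl) | rfl)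
      · exact hzC.2.1
      · exact hzC.2.2
      · exact h.ZJ_oo hz _
    by_cases hu : h.M3 i u
    · rw [h0 u hu, h0 _ ((hlX.2.2 u).2 hu)]
    · have hu' : ¬ h.M3 i (D.r l u) := fun e => hu ((hlX.2.2 u).1 e)
      rcases h.cover u with e | ⟨j, hj⟩
      · rcases h.cover (D.r l u) with e' | ⟨j, hj⟩
        · rw [e', e, h.ZJ_oo hz, h.ZJ_oo hz]
        · exfalso
          by_cases hji : j = i
          · subst hji; exact hu' (Or.inl hj)
          · rw [hlX.2.1 j hji, e] at hj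
            exact h.oo_not_mem _ _ hj
      · have hji : j ≠ i := fun e => hu (Or.inl (e ▸ hj))
        have hj' := (hlX.2.1 j hji u).2 hj
        have h5 := (h.mem_ZJ_iff hzV).1 hz j
        rcases hj with e1 | e1 <;> rcases hj' with e2 | e2
        · rw [e2, e1]
        · rw [e2, e1, h5]
        · rw [e2, e1, h5]
        · rw [e2, e1]
  · -- `Ane`
    obtain ⟨a, ha, ea⟩ := hAs i
    obtain ⟨v, hv, e1, e2⟩ := h.exists_W i 0 1
    have haM : a ∈ M := h.J0M ((le_sSup (hA i)) ha)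
    have h3 := (D.comm_iff haM hv.1).1 (hcon a ha v hv) (xx i)
    rw [ea, Equiv.swap_apply_left, h.W_sum hv, e1, e2] at h3
    exact absurd h3 (by decide)
  · -- `AC`
    have haM : a ∈ M := h.J0M ((le_sSup (hA i)) ha)
    rw [D.comm_iff haM hc.1]
    intro u
    rcases hAa i a ha with e | e
    · rw [e]; rfl
    · rw [e]
      by_cases h1 : u = xx i
      · rw [h1, Equiv.swap_apply_left, hc.2.1, hc.2.2]
      · by_cases h3 : u = yy i
        · rw [h3, Equiv.swap_apply_right, hc.2.1, hc.2.2]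
        · rw [Equiv.swap_apply_of_ne_of_ne h1 h3]

end Lv

end Cfsg.Agent.Omega.NOThreeL.RRed.BFr
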