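import Cfsg.Agent.Omega.NOThreeL.RRed.BFr.Idx

/-!
# NO-3L, box R: `N_M(B)` is transitive on the pairs

`h : Lv S D X L J AA`, `B = C_S(Z_J)`:

* `PP D AA g` : `g` permutes the pairs; `PP_of_norm` : `g ∈ M ∩ N(B)` permutes the pairs;
* `cj_W` : if `g` permutes the pairs and maps a letter of the pair `i` into the pair `j`, then `(W i)^g = W j`;
* `same_blk` : two pairs in the same block are conjugate by `M ∩ N(B)`;
* `other_blk` : the blocks are conjugate by `M ∩ N(B)`, if `M` is transitive on them;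
* **`hM`** : `∀ i j, ∃ g ∈ M, g ∈ N(B) ∧ (W i)^g = W j`;
* `tr_of_irr` : `M` is transitive on the blocks if `V` is irreducible.
-/

set_option autoImplicit false
set_option linter.unusedSectionVars false

namespace Cfsg.Agent.Omega.NOThreeL.RRed.BFr

open Subgroup Cfsg Cfsg.Agent.ZN Cfsg.Agent.ZN.ChoiceBase
open Cfsg.Agent.Omega.NO3S.OneLine (BFam)

universe u

variable {G : Type u} [Group G]

/-- **`M` is transitive on the blocks if `V` is irreducible.** -/
theorem Pts.tr_of_irr {M V : Subgroup G} {Pt I : Type} [Fintype Pt] [DecidableEq Pt] [DecidableEq I] (D : Pts M V Pt I)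
    (hirr : ∀ U : Subgroup G, U ≤ V → M ≤ normalizer (U : Set G) → U ≠ ⊥ → V ≤ U) (x y : Pt) :
    ∃ m ∈ M, D.blk (D.r m x) = D.blk y := by
  by_contra hcon
  let U : Subgroup G :=
    { carrier := {v | v ∈ V ∧ ∀ z, (¬ ∃ m ∈ M, D.blk (D.r m x) = D.blk z) → D.e v z = 0}
      mul_mem' := by
        rintro a b ⟨ha, ha'⟩ ⟨hb, hb'⟩
        exact ⟨mul_mem ha hb, fun z hz => by rw [D.mul a ha b hb, Pi.add_apply, ha' z hz, hb' z hz, add_zero]⟩
      one_mem' := ⟨one_mem _, fun z _ => by rw [D.map_one]; rfl⟩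
      inv_mem' := by
        rintro a ⟨ha, ha'⟩
        exact ⟨inv_mem ha, fun z hz => by rw [D.map_inv ha]; exact ha' z hz⟩ }
  have key : ∀ g ∈ M, ∀ v ∈ U, g * v * g⁻¹ ∈ U := by
    rintro g hg v ⟨hv, hv'⟩
    refine ⟨D.MV g hg v hv, fun z hz => ?_⟩
    rw [D.e_conj' hg hv]
    refine hv' _ ?_
    rintro ⟨m, hm, e⟩
    apply hz
    refine ⟨g * m, mul_mem hg hm, ?_⟩
    rw [D.r_mul hg hm, Equiv.Perm.mul_apply]
    have h1 := D.r_blk hg e
    rwa [apply_inv_self'] at h1
  have hMU : M ≤ normalizer (U : Set G) := by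
    intro g hg
    rw [mem_normalizer_iff]
    refine fun v => ⟨key g hg v, fun hv => ?_⟩
    have h1 := key g⁻¹ (inv_mem hg) _ hv
    have e : g⁻¹ * (g * v * g⁻¹) * g⁻¹⁻¹ = v := by group
    rwa [e] at h1
  obtain ⟨x', hx', hxx', -⟩ := D.exists_third x x
  have hUne : U ≠ ⊥ := by
    intro e
    have h1 : D.pe x x' ∈ U := by
      refine ⟨D.pe_mem _ _, fun z hz => ?_⟩
      rw [D.e_pe' hx'.symm]
      have h2 : z ≠ x := fun e => hz ⟨1, one_mem _, by rw [D.r_one, e]; rfl⟩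
      have h3 : z ≠ x' := fun e => hz ⟨1, one_mem _, by rw [D.r_one, e, hx']; rfl⟩
      rw [if_neg h2, if_neg h3, add_zero]
    rw [e, mem_bot] at h1
    have h2 := D.e_pe' hx'.symm x
    rw [h1, D.map_one, if_pos rfl, if_neg (Ne.symm hxx'), Pi.zero_apply] at h2
    exact absurd h2 (by decide)
  have hVU := hirr U (fun v hv => hv.1) hMU hUne
  obtain ⟨y', hy', hyy', -⟩ := D.exists_third y y
  have h1 := (hVU (D.pe_mem y y')).2 y hcon
  rw [D.e_pe' hy'.symm, if_pos rfl, if_neg (Ne.symm hyy')] at h1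
  exact absurd h1 (by decide)

namespace Lv

variable {S : Sylow 2 G} {M V : Subgroup G} {Pt I : Type} [Fintype Pt] [DecidableEq Pt] [DecidableEq I]
variable {D : Pts M V Pt I} {X L J : Subgroup G} {AA : Set (Subgroup G)}

variable (D AA) in
/-- `g` permutes the pairs. -/
def PP (g : G) : Prop := ∀ x y, Pr D AA (D.r g x) (D.r g y) ↔ Pr D AA x y

variable [Finite G] (h : Lv S D X L J AA)
include h

/-- `b` maps a letter to itself or to its partner -/
theorem move_of_Pp {b : G} (hb : b ∈ M) (hp : Pp D AA b) (x : Pt) : D.r b x = x ∨ Pr D AA x (D.r b x) := by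
  rcases h.cover x with hx | ⟨i, hi⟩
  · left
    have h1 := h.Pp_oo hb hp x
    rw [← hx] at h1
    exact h1
  · have h1 := hp i x hi
    by_cases h2 : D.r b x = x
    · exact Or.inl h2
    right
    rcases hi with e1 | e1 <;> rcases h1 with e2 | e2
    · exact absurd (e2.trans e1.symm) h2
    · rw [e2, e1]; exact pr_i i
    · rw [e2, e1]; exact (pr_i i).symm
    · exact absurd (e2.trans e1.symm) h2

/-- **`g ∈ M ∩ N(B)` permutes the pairs** -/
theorem PP_of_norm {g : G} (hg : g ∈ M) (hn : g ∈ normalizer (BB (S : Subgroup G) V J : Set G)) : PP D AA g := by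
  have key : ∀ g : G, g ∈ M → g ∈ normalizer (BB (S : Subgroup G) V J : Set G) → ∀ x y, Pr D AA x y →
      Pr D AA (D.r g x) (D.r g y) := by
    intro g hg hn x y hp
    obtain ⟨hne, -, a, ha, e⟩ := hp
    have haM := h.J0M ha
    have h1 : g * a * g⁻¹ ∈ BB (S : Subgroup G) V J := (mem_normalizer_iff.1 hn a).1 (h.J0_le_B ha)
    have h2 := h.move_of_Pp (h.B_le_M h1) (h.B_Pp h1) (D.r g x)
    have e1 : D.r (g * a * g⁻¹) (D.r g x) = D.r g y := by
      rw [D.r_mul (mul_mem hg haM) (inv_mem hg), D.r_mul hg haM, D.r_inv hg, Equiv.Perm.mul_apply,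
        inv_apply_self', Equiv.Perm.mul_apply, e, Equiv.swap_apply_left]
    rw [e1] at h2
    exact h2.resolve_left fun e2 => hne ((D.r g).injective e2.symm)
  intro x y
  refine ⟨fun hp => ?_, key g hg hn x y⟩
  have h1 := key g⁻¹ (inv_mem hg) (inv_mem hn) _ _ hp
  rw [D.r_inv hg, inv_apply_self', inv_apply_self'] at h1
  exact h1

/-- the three letters -/
def T3 (i : Idx D AA) (x : Pt) : Prop := Mem i x ∨ x = h.oo (xx i)

theorem T3_iff {g : G} (hg : g ∈ M) (hp : PP D AA g) {i j : Idx D AA} {x : Pt} (hx : Mem i x) (hgx : Mem j (D.r g x))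
    (u : Pt) : h.T3 j (D.r g u) ↔ h.T3 i u := by
  have hoo : D.r g (h.oo (xx i)) = h.oo (xx j) := by
    refine h.eq_oo (fun y hy => ?_) ?_
    · have h1 : Pr D AA (D.r g (h.oo (xx i))) (D.r g ((D.r g)⁻¹ y)) := by rwa [apply_inv_self']
      exact h.oo_un _ _ ((hp _ _).1 h1)
    · rw [← hgx.blk]
      refine D.r_blk hg ?_
      rw [h.oo_blk, hx.blk]
  have hpart : ∀ {k : Idx D AA} {a b : Pt}, Mem k a → Mem k b → a = b ∨ Pr D AA a b := by
    intro k a b ha hb
    rcases ha with e1 | e1 <;> rcases hb with e2 | e2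
    · exact Or.inl (e1.trans e2.symm)
    · right; rw [e1, e2]; exact pr_i k
    · right; rw [e1, e2]; exact (pr_i k).symm
    · exact Or.inl (e1.trans e2.symm)
  constructor
  · rintro (h1 | h1)
    · left
      rcases hpart hgx h1 with e | h2
      · rw [← (D.r g).injective e]; exact hx
      · exact h.partner hx ((hp _ _).1 h2)
    · right
      rw [← hoo] at h1
      exact (D.r g).injective h1
  · rintro (h1 | h1)
    · left
      rcases hpart hx h1 with e | h2
      · rw [← e]; exact hgx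
      · exact h.partner hgx ((hp _ _).2 h2)
    · right
      rw [h1, hoo]

/-- **`(W i)^g = W j`** -/
theorem cj_W {g : G} (hg : g ∈ M) (hp : PP D AA g) {i j : Idx D AA} {x : Pt} (hx : Mem i x) (hgx : Mem j (D.r g x)) :
    cj g (h.W i) = h.W j := by
  have ht := h.T3_iff hg hp hx hgx
  apply le_antisymm
  · rintro _ ⟨v, hv, rfl⟩
    have hv' : v ∈ h.W i := hv
    show g * v * g⁻¹ ∈ h.W j
    refine ⟨D.MV g hg v hv'.1, fun z h1 h2 => ?_⟩
    rw [D.e_conj' hg hv'.1]
    have h3 : ¬ h.T3 i ((D.r g)⁻¹ z) := by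
      rw [← ht, apply_inv_self']
      rintro (h4 | h4)
      · exact h1 h4
      · exact h2 h4
    exact hv'.2 _ (fun h4 => h3 (Or.inl h4)) (fun h4 => h3 (Or.inr h4))
  · intro v hv
    rw [mem_cj]
    have hgi := inv_mem hg
    have e1 : g⁻¹ * v * g = g⁻¹ * v * g⁻¹⁻¹ := by rw [inv_inv]
    rw [e1]
    refine ⟨D.MV g⁻¹ hgi v hv.1, fun z h1 h2 => ?_⟩
    rw [D.e_conj' hgi hv.1, D.r_inv hg, inv_inv]
    have h3 : ¬ h.T3 j (D.r g z) := by
      rw [ht]
      rintro (h4 | h4)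
      · exact h1 h4
      · exact h2 h4
    exact hv.2 _ (fun h4 => h3 (Or.inl h4)) (fun h4 => h3 (Or.inr h4))

/-- an element of `M` which permutes the pairs normalises `Z_J` -/
theorem norm_ZJ_of_PP {g : G} (hg : g ∈ M) (hp : PP D AA g) : cj g (ZJ V J) = ZJ V J := by
  have key : ∀ g : G, g ∈ M → PP D AA g → cj g (ZJ V J) ≤ ZJ V J := by
    rintro g hg hp _ ⟨v, hv, rfl⟩
    have hvV : v ∈ V := (mem_ZJ.1 hv).1
    have hv' := (h.mem_ZJ_iff hvV).1 hv
    show g * v * g⁻¹ ∈ ZJ V J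
    rw [h.mem_ZJ_iff (D.MV g hg v hvV)]
    intro i
    rw [D.e_conj' hg hvV, D.e_conj' hg hvV]
    have h1 : Pr D AA ((D.r g)⁻¹ (xx i)) ((D.r g)⁻¹ (yy i)) := by
      rw [← hp, apply_inv_self', apply_inv_self']
      exact pr_i i
    obtain ⟨k, h2, h3⟩ := h.mem_of_pr h1
    have h4 := hv' k
    rcases h2 with e1 | e1 <;> rcases h3 with e2 | e2
    · rw [e1, e2]
    · rw [e1, e2, h4]
    · rw [e1, e2, h4]
    · rw [e1, e2]
  exact Subgroup.eq_of_le_of_card_ge (key g hg hp) (by rw [card_cj])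

/-- the elements preserving all pairs permute the pairs -/
theorem PP_of_Pp {g : G} (hp : Pp D AA g) : PP D AA g := by
  have hpart : ∀ {k : Idx D AA} {a b : Pt}, Mem k a → Mem k b → a ≠ b → Pr D AA a b := by
    intro k a b ha hb hab
    rcases ha with e1 | e1 <;> rcases hb with e2 | e2
    · exact absurd (e1.trans e2.symm) hab
    · rw [e1, e2]; exact pr_i k
    · rw [e1, e2]; exact (pr_i k).symm
    · exact absurd (e1.trans e2.symm) hab
  intro x y
  constructor
  · intro h1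
    obtain ⟨k, h2, h3⟩ := h.mem_of_pr h1
    exact hpart (hp.mem_inv h2) (hp.mem_inv h3) fun e => h1.1 (by rw [e])
  · intro h1
    obtain ⟨k, h2, h3⟩ := h.mem_of_pr h1
    exact hpart (hp k x h2) (hp k y h3) fun e => h1.1 ((D.r g).injective e)

/-- **An element of `M` which permutes the pairs can be corrected to normalise `B`.** -/
theorem correct {t : G} (ht : t ∈ M) (hp : PP D AA t) : ∃ g ∈ M, g ∈ normalizer (BB (S : Subgroup G) V J : Set G) ∧
    ∀ (j : Idx D AA) (x : Pt), Mem j (D.r t x) → Mem j (D.r g x) := by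
  set B := BB (S : Subgroup G) V J with hB
  set H : Subgroup G := M ⊓ centralizer (ZJ V J : Set G) with hH
  have hBH : B ≤ H := le_inf h.B_le_M inf_le_right
  have hcjM : cj t B ≤ M := by
    have := cj_mono t h.B_le_M
    rwa [cj_eq_of_mem_normalizer (Subgroup.le_normalizer ht)] at this
  have htH : cj t B ≤ H := by
    refine le_inf hcjM ?_
    have h1 := cj_mono t (inf_le_right : B ≤ centralizer (ZJ V J : Set G))
    rwa [cj_centralizer, h.norm_ZJ_of_PP ht hp] at h1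
  have hBp : IsPGroup 2 B := S.isPGroup'.to_le inf_le_left
  have hcp : IsPGroup 2 (cj t B : Subgroup G) := hBp.map _
  obtain ⟨k, hk, R, hRH, hRp, hBR, hkR⟩ := exists_common hBp hcp hBH htH
  have hR : R = B := h.syl_B hRp (hRH.trans inf_le_left) hBR fun r hr z hz =>
    (mem_centralizer_iff.1 (hRH hr).2 z hz).symm
  have hkM : k ∈ M := hk.1
  have hkp : Pp D AA k := h.Pp_of_ZJ hkM fun z hz => (mem_centralizer_iff.1 hk.2 z hz).symm
  have h1 : cj (k * t) B = B := by
    rw [← cj_cj]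
    refine Subgroup.eq_of_le_of_card_ge (hkR.trans hR.le) ?_
    rw [card_cj, card_cj]
  refine ⟨k * t, mul_mem hkM ht, mem_normalizer_iff_cj.2 h1, fun j x hx => ?_⟩
  rw [D.r_mul hkM ht, Equiv.Perm.mul_apply]
  exact hkp j _ hx

/-- two pairs in the same block -/
theorem same_blk {i j : Idx D AA} (hb : D.blk (xx i) = D.blk (xx j)) :
    ∃ g ∈ M, g ∈ normalizer (BB (S : Subgroup G) V J : Set G) ∧ Mem j (D.r g (xx i)) := by
  by_cases hij : i = j
  · subst hij
    exact ⟨1, one_mem _, one_mem _, by rw [D.r_one]; exact Or.inl rfl⟩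
  have n1 := ne_i i
  have n2 := ne_i j
  have d : ∀ a b, Mem i a → Mem j b → a ≠ b := fun a b ha hb' e => hij (h.mem_inj ha (e ▸ hb'))
  have d1 := d (xx i) (xx j) (Or.inl rfl) (Or.inl rfl)
  have d2 := d (xx i) (yy j) (Or.inl rfl) (Or.inr rfl)
  have d3 := d (yy i) (xx j) (Or.inr rfl) (Or.inl rfl)
  have d4 := d (yy i) (yy j) (Or.inr rfl) (Or.inr rfl)
  obtain ⟨t, ht, et⟩ := D.full (xx i) (xx j) d1 hb
  obtain ⟨s, hs, es⟩ := D.full (yy i) (yy j) d4 ((blk_i i).symm.trans (hb.trans (blk_i j)))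
  have e1 : D.r t = Equiv.swap (xx i) (xx j) := D.r_eq ht et
  have e2 : D.r s = Equiv.swap (yy i) (yy j) := D.r_eq hs es
  have hm := mul_mem hs ht
  have er : D.r (s * t) = Equiv.swap (yy i) (yy j) * Equiv.swap (xx i) (xx j) := by rw [D.r_mul hs ht, e1, e2]
  have a1 : D.r (s * t) (xx i) = xx j := by
    rw [er, Equiv.Perm.mul_apply, Equiv.swap_apply_left, Equiv.swap_apply_of_ne_of_ne d3.symm n2]
  have a2 : D.r (s * t) (yy i) = yy j := by
    rw [er, Equiv.Perm.mul_apply, Equiv.swap_apply_of_ne_of_ne n1.symm d3, Equiv.swap_apply_left]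
  have a3 : D.r (s * t) (xx j) = xx i := by
    rw [er, Equiv.Perm.mul_apply, Equiv.swap_apply_right, Equiv.swap_apply_of_ne_of_ne n1 d2]
  have a4 : D.r (s * t) (yy j) = yy i := by
    rw [er, Equiv.Perm.mul_apply, Equiv.swap_apply_of_ne_of_ne d2.symm n2.symm, Equiv.swap_apply_right]
  have a5 : ∀ z, ¬ Mem i z → ¬ Mem j z → D.r (s * t) z = z := by
    intro z h1 h2
    rw [er, Equiv.Perm.mul_apply, Equiv.swap_apply_of_ne_of_ne (fun e => h1 (Or.inl e)) (fun e => h2 (Or.inl e)),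
      Equiv.swap_apply_of_ne_of_ne (fun e => h1 (Or.inr e)) (fun e => h2 (Or.inr e))]
  have hfwd : ∀ x y, Pr D AA x y → Pr D AA (D.r (s * t) x) (D.r (s * t) y) := by
    intro x y hp
    obtain ⟨k, hx, hy⟩ := h.mem_of_pr hp
    by_cases hki : k = i
    · subst hki
      rcases hx with e3 | e3 <;> rcases hy with e4 | e4
      · exact absurd (e3.trans e4.symm) hp.1
      · rw [e3, e4, a1, a2]; exact pr_i j
      · rw [e3, e4, a1, a2]; exact (pr_i j).symm
      · exact absurd (e3.trans e4.symm) hp.1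
    by_cases hkj : k = j
    · subst hkj
      rcases hx with e3 | e3 <;> rcases hy with e4 | e4
      · exact absurd (e3.trans e4.symm) hp.1
      · rw [e3, e4, a3, a4]; exact pr_i i
      · rw [e3, e4, a3, a4]; exact (pr_i i).symm
      · exact absurd (e3.trans e4.symm) hp.1
    rw [a5 x (fun e => hki (h.mem_inj hx e)) (fun e => hkj (h.mem_inj hx e)),
      a5 y (fun e => hki (h.mem_inj hy e)) (fun e => hkj (h.mem_inj hy e))]
    exact hp
  have hinv : ∀ z, D.r (s * t) (D.r (s * t) z) = z := by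
    intro z
    by_cases h1 : Mem i z
    · rcases h1 with e3 | e3
      · rw [e3, a1, a3]
      · rw [e3, a2, a4]
    · by_cases h2 : Mem j z
      · rcases h2 with e3 | e3
        · rw [e3, a3, a1]
        · rw [e3, a4, a2]
      · rw [a5 z h1 h2, a5 z h1 h2]
  have hPP : PP D AA (s * t) := by
    intro x y
    refine ⟨fun hp => ?_, hfwd x y⟩
    have := hfwd _ _ hp
    rwa [hinv, hinv] at this
  obtain ⟨g, hg, hgn, hgm⟩ := h.correct hm hPP
  exact ⟨g, hg, hgn, hgm j (xx i) (by rw [a1]; exact Or.inl rfl)⟩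

/-- **the blocks are conjugate by `M ∩ N(B)`** -/
theorem other_blk {x y : Pt} (htr : ∃ m ∈ M, D.blk (D.r m x) = D.blk y) :
    ∃ g ∈ M, g ∈ normalizer (BB (S : Subgroup G) V J : Set G) ∧ D.blk (D.r g x) = D.blk y := by
  obtain ⟨m, hm, hmx⟩ := htr
  -- the kernel on the blocks
  let K : Subgroup G :=
    { carrier := {k | k ∈ M ∧ ∀ z, D.blk (D.r k z) = D.blk z}
      mul_mem' := by
        rintro a b ⟨ha, ha'⟩ ⟨hb, hb'⟩
        exact ⟨mul_mem ha hb, fun z => by rw [D.r_mul ha hb, Equiv.Perm.mul_apply, ha', hb']⟩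
      one_mem' := ⟨one_mem _, fun z => by rw [D.r_one]; rfl⟩
      inv_mem' := by
        rintro a ⟨ha, ha'⟩
        refine ⟨inv_mem ha, fun z => ?_⟩
        have h1 := ha' (D.r a⁻¹ z)
        rw [D.r_inv ha] at h1 ⊢
        rw [apply_inv_self'] at h1
        exact h1.symm }
  have hKM : K ≤ M := fun _ hk => hk.1
  have hMK : ∀ g ∈ M, ∀ k ∈ K, g * k * g⁻¹ ∈ K := by
    rintro g hg k ⟨hk, hk'⟩
    refine ⟨mul_mem (mul_mem hg hk) (inv_mem hg), fun z => ?_⟩
    rw [D.r_mul (mul_mem hg hk) (inv_mem hg), D.r_mul hg hk, D.r_inv hg, Equiv.Perm.mul_apply, Equiv.Perm.mul_apply]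
    have h1 := D.r_blk hg (hk' ((D.r g)⁻¹ z))
    rwa [apply_inv_self'] at h1
  have hcjK : ∀ g ∈ M, cj g K ≤ K := by
    rintro g hg _ ⟨k, hk, rfl⟩
    exact hMK g hg k hk
  set SK : Subgroup G := (S : Subgroup G) ⊓ K with hSK
  have hSKp : IsPGroup 2 SK := S.isPGroup'.to_le inf_le_left
  -- `S ∩ K` is Sylow in `K`
  have hsyl : ∀ R : Subgroup G, R ≤ K → IsPGroup 2 R → SK ≤ R → R = SK := by
    intro R hR hRp hle
    obtain ⟨m', hm', hm'S⟩ := exists_into S h.SM hRp (hR.trans hKM)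
    have h1 : cj m' R ≤ SK := le_inf hm'S ((cj_mono m' hR).trans (hcjK m' hm'))
    refine (Subgroup.eq_of_le_of_card_ge hle ?_).symm
    rw [← card_cj m' R]
    exact Subgroup.card_le_of_le h1
  have hcm : cj m SK ≤ K := (cj_mono m inf_le_right).trans (hcjK m hm)
  have hcmp : IsPGroup 2 (cj m SK : Subgroup G) := hSKp.map _
  obtain ⟨k, hk, R, hRK, hRp, hSR, hkR⟩ := exists_common hSKp hcmp inf_le_right hcm
  have hR := hsyl R hRK hRp hSR
  have hkM : k ∈ M := hKM hk
  have hgM : k * m ∈ M := mul_mem hkM hm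
  have h1 : cj (k * m) SK = SK := by
    rw [← cj_cj]
    refine Subgroup.eq_of_le_of_card_ge (hkR.trans hR.le) ?_
    rw [card_cj, card_cj]
  have hBK : BB (S : Subgroup G) V J ≤ K := fun b hb => ⟨h.B_le_M hb, h.Pp_blk (h.B_le_M hb) (h.B_Pp hb)⟩
  have hBeq : BB (S : Subgroup G) V J = SK ⊓ centralizer (ZJ V J : Set G) := by
    apply le_antisymm
    · exact le_inf (le_inf inf_le_left hBK) inf_le_right
    · exact inf_le_inf_right _ inf_le_left
  have hJ0 : cj (k * m) (sSup AA) = sSup AA := by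
    refine h.cj_J0 hgM ?_
    have h2 : sSup AA ≤ SK := le_inf h.J0S (h.J0_le_B.trans hBK)
    refine (cj_mono _ h2).trans ?_
    rw [h1]
    exact inf_le_left
  refine ⟨k * m, hgM, mem_normalizer_iff_cj.2 ?_, ?_⟩
  · rw [hBeq, cj_inf, cj_centralizer, h1, h.norm_ZJ hgM hJ0]
  · rw [D.r_mul hkM hm, Equiv.Perm.mul_apply]
    exact (hk.2 _).trans hmx

/-- **`M ∩ N(B)` is transitive on the four-groups `W i`.** -/
theorem hM (htr : ∀ x y : Pt, ∃ m ∈ M, D.blk (D.r m x) = D.blk y) (i j : Idx D AA) :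
    ∃ g ∈ M, g ∈ normalizer (BB (S : Subgroup G) V J : Set G) ∧ cj g (h.W i) = h.W j := by
  obtain ⟨g, hg, hgn, hgb⟩ := h.other_blk (htr (xx i) (xx j))
  have hp := h.PP_of_norm hg hgn
  -- the pair `i'` of `r g (xx i)`
  obtain ⟨i', hi', -⟩ := h.mem_of_pr ((hp _ _).2 (pr_i i))
  obtain ⟨g', hg', hgn', hm⟩ := h.same_blk (i := i') (j := j) (hi'.blk.symm.trans hgb)
  have hp' := h.PP_of_norm hg' hgn'
  have e1 := h.cj_W hg hp (Or.inl rfl) hi'
  have e2 := h.cj_W hg' hp' (Or.inl rfl) hm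
  refine ⟨g' * g, mul_mem hg' hg, mul_mem hgn' hgn, ?_⟩
  rw [← cj_cj, e1, e2]

end Lv

end Cfsg.Agent.Omega.NOThreeL.RRed.BFr
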