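import Cfsg.Agent.Omega.NOThreeL.RRed.BFr.Stage
import Cfsg.Agent.Omega.NOThreeL.RRed.BFr.HM

/-!
# NO-3L, box R: the frame over `B` at stage `n` with `hM`

* **`Bd.frLM`** : 947's `Bd.frL` and: `M ∩ N(BL S n)` is transitive on the four-groups `W i`;
* `Bd.frM` : the same for the stage `-1`.
-/

set_option autoImplicit false
set_option linter.unusedSectionVars false

namespace Cfsg.Agent.Omega.NOThreeL.RRed.BFr

open Subgroup Cfsg Cfsg.Agent.ZN.ChoiceBase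
open Cfsg.Agent.ZN (jj zj bau zc)
open Cfsg.Agent.Omega.NO3S.OneLine (BFam bo bo_fam)
open Cfsg.Agent.Omega.NO3S.Level (lev Lev lev_isLev nxt BO)
open Cfsg.Agent.Omega.OM.SwapL (BL ZL)
open Cfsg.Agent.Omega.OM.Lev.Uni (FrL)

universe u

variable {G : Type u} [Group G] {S : Sylow 2 G} {M V : Subgroup G} {Pt I : Type} [Fintype Pt] [DecidableEq Pt]
  [DecidableEq I] {D : Pts M V Pt I}

namespace Bd

variable (h : Bd S D) [Finite G]
include h

/-- **THE FRAME OVER `B`, stage `n`, with `hM`.** -/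
theorem frLM {n : ℕ} (VX : V ≤ zc (lev (S : Subgroup G) n))
    (MK : M ≤ normalizer (lev (S : Subgroup G) n : Set G)) (mv : Mvb D (lev (S : Subgroup G) (n + 1)))
    (tr : ∀ x y : Pt, ∃ m ∈ M, D.blk (D.r m x) = D.blk y) :
    ∃ L W Z C A : Idx D (bo (S : Subgroup G) (zc (lev (S : Subgroup G) n))) → Subgroup G,
    (∀ i, L i ≤ M) ∧ FrL (BL (S : Subgroup G) n) ((S : Subgroup G) ⊓ centralizer (V : Set G)) V
      (zc (lev (S : Subgroup G) n)) (ZL (S : Subgroup G) n) L W Z C A 2 ∧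
    ∀ i j, ∃ g ∈ M, g ∈ normalizer (BL (S : Subgroup G) n : Set G) ∧ cj g (W i) = W j := by
  have hz : Lv.ZcQ (S : Subgroup G) V := fun x h1 h2 h3 =>
    h.zcQ_lev VX MK mv (mem_zc.2 ⟨h1, h2, fun y hy => (h3 y hy).symm⟩)
  obtain ⟨L, A, h1, -, -, h2⟩ := (h.lv VX MK mv).exists_frL hz
  have h3 := (h.lv VX MK mv).hM tr
  rw [BB, h.ZJ_lev VX MK mv] at h2 h3
  exact ⟨L, _, _, _, A, fun i => (h1 i).trans ((h.lv VX MK mv).XX_le_M i), h2, h3⟩

/-- **THE FRAME OVER `B`, stage `-1`, with `hM`.** -/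
theorem frM [Nonempty Pt] (mv : Mvb D (jj (S : Subgroup G)))
    (tr : ∀ x y : Pt, ∃ m ∈ M, D.blk (D.r m x) = D.blk y) :
    ∃ L W Z C A : Idx D (AA (S : Subgroup G)) → Subgroup G,
    (∀ i, L i ≤ M) ∧ OM.Uni.Fr (bau (S : Subgroup G)) ((S : Subgroup G) ⊓ centralizer (V : Set G)) V
      (zj (S : Subgroup G)) L W Z C A 2 (mm (S : Subgroup G)) ∧
    ∀ i j, ∃ g ∈ M, g ∈ normalizer (bau (S : Subgroup G) : Set G) ∧ cj g (W i) = W j := by
  have hz : Lv.ZcQ (S : Subgroup G) V := fun x h1 h2 h3 =>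
    h.zcQ_neg mv (mem_zc.2 ⟨h1, h2, fun y hy => (h3 y hy).symm⟩)
  obtain ⟨L, A, h1, hA, -, h2⟩ := (h.lv_neg mv).exists_frL hz
  have h3 := (h.lv_neg mv).hM tr
  rw [BB, h.ZJ_neg mv] at h2 h3
  refine ⟨L, (h.lv_neg mv).W, fun i => zpowers (D.pe (xx i) (yy i)), fun i => Lv.C D i, A, fun i =>
    (h1 i).trans ((h.lv_neg mv).XX_le_M i), ?_, h3⟩
  exact
    { max := OM.Uni.mx_sylow S
      blk := h2.blk
      cardZ := h2.cardZ
      QB := h2.QB
      VQ := h2.VQ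
      el := V_elem D
      mem_Q := h2.mem_Q
      zcQ := h2.zcQ
      mem_ZJ := h2.mem_ZJ
      LV := h2.LV
      LQ := h2.LQ
      WV := h2.WV
      CV := h2.CV
      WC := h2.WC
      dir := h2.dir
      C0 := h2.C0
      WjC := h2.WjC
      BC := h2.BC
      LC := h2.LC
      AB := h2.AB
      Ael := fun i => (hA i).1
      Am := fun i => (mm_eq (hA i)).symm
      Ane := h2.Ane
      AC := h2.AC }

end Bd

end Cfsg.Agent.Omega.NOThreeL.RRed.BFr
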