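import Cfsg.Agent.Omega.NOThreeL.RRed.BFr.VSup
import Cfsg.Agent.Omega.NOThreeL.RRed.BFr.TrCross
import Cfsg.Agent.Omega.OM.Lev.Low.TorusK.Fam
import Cfsg.Agent.Omega.OM.Lev.Low.TorusK.Inst

/-!
# NO-3L, box R: (LL) over `B = C_S(Z_J)`, stage `n ≥ 0`, `q = 2`, at least three light pairs

* `ExBk` : natural `S₃`-blocks (`Tr`): a minimal parabolic over `B` of lower stage which moves `Z_J` has a torus block
  (socket, helper646);
* `NoTor` : no torus blocks in box R (socket, helper630);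
* `NoCross` : light pairs with a common letter: no minimal parabolic over `B` of lower stage moves `Z_J` (socket,
  helper646);
* `ll_of` : **(LL)**: every minimal parabolic of characteristic 2 over `B` (Sylow) which moves `Ω₁Z(B)` contains
  `lev S n` in its `O₂`.
-/

set_option autoImplicit false
set_option linter.unusedSectionVars false

namespace Cfsg.Agent.Omega.NOThreeL.RRed.BFr.LL

open Subgroup Cfsg Cfsg.Agent.Omega.MinPar Cfsg.Agent.Omega.Frame Cfsg.Agent.Omega.FrameNOFF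
open Cfsg.Agent.ZN.ChoiceBase Cfsg.Agent.ZN.ChoiceSit
open Cfsg.Agent.ZN (zc zl o2 zj bau jj)
open Cfsg.Agent.MinSimple.MinParabolic (IsMinPar)
open Cfsg.Agent.Omega.NO3S.Level (lev)
open Cfsg.Agent.Omega.OM.SwapL (ZL BL)
open Cfsg.Agent.Omega.OM.SwapV.Lv (LnV)
open Cfsg.Agent.Omega.OM.Lev.Uni (FrL)
open Cfsg.Agent.Omega.OM.Lev.Low (TorusK.BK TorusK.NA TorusK.stM TorusK.stY)
open Cfsg.Agent.Omega.NOThreeL.RTree (RB)
open Cfsg.Agent.Omega.NOThreeL.Merge (MZ)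

universe u

/-- A minimal parabolic over `B` of lower stage which moves `Z_J` has a torus block (natural `S₃`-blocks). -/
def ExBk : Prop :=
  ∀ (G : Type u) [Group G] [Finite G] (ι : Type) [Finite ι] [Nonempty ι] (S : Sylow 2 G) (V Q : Subgroup G) (n : ℕ)
    (L W Z C A : ι → Subgroup G), LnV S V Q n L W Z C A → OM.Lev.Low.Line.Tr W Z C →
    (∀ i : ι, ∃ j, j ≠ i) → ∀ R : Subgroup G,
    IsMinPar (BL (S : Subgroup G) n) R → Syl (BL (S : Subgroup G) n) R → R ⊓ centralizer (o2 R : Set G) ≤ o2 R →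
    ¬ lev (S : Subgroup G) n ≤ o2 R → ¬ R ≤ centralizer (zc (BL (S : Subgroup G) n) : Set G) →
    ∃ j ≤ n, ∃ (l : ι) (K N N1 N0 : Subgroup G),
      TorusK.BK (BL (S : Subgroup G) n) (OM.LevB.BL (S : Subgroup G) j) (zc (lev (S : Subgroup G) j))
        (TorusK.stM (S : Subgroup G) j) (TorusK.stY (S : Subgroup G) j) W l K N N1 N0 ∧
      TorusK.NA (BL (S : Subgroup G) n) K N

/-- No torus blocks in box R. -/
def NoTor : Prop :=
  ∀ (G : Type u) [Group G] [Finite G] (ι : Type) [Finite ι] (S : Sylow 2 G) (V Q : Subgroup G) (n : ℕ)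
    (L W Z C A : ι → Subgroup G), RB S → (∀ P, IsParS (S : Subgroup G) P → lev (S : Subgroup G) n ≤ o2 P) →
    LnV S V Q n L W Z C A → (∀ l m : ι, ∃ r, r ≠ l ∧ r ≠ m) → (∀ i, L i ≤ MZ (S : Subgroup G)) →
    (∀ i j, ∃ g ∈ MZ (S : Subgroup G), g ∈ normalizer (BL (S : Subgroup G) n : Set G) ∧ cj g (W i) = W j) →
    ∀ j ≤ n, ∀ (l : ι) (K N N1 N0 : Subgroup G),
      TorusK.BK (BL (S : Subgroup G) n) (OM.LevB.BL (S : Subgroup G) j) (zc (lev (S : Subgroup G) j))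
        (TorusK.stM (S : Subgroup G) j) (TorusK.stY (S : Subgroup G) j) W l K N N1 N0 →
      TorusK.NA (BL (S : Subgroup G) n) K N → False

/-- Light pairs with a common letter: no minimal parabolic over `B` of lower stage moves `Z_J`. -/
def NoCross : Prop :=
  ∀ (G : Type u) [Group G] [Finite G] (ι : Type) [Finite ι] (S : Sylow 2 G) (V Q : Subgroup G) (n : ℕ)
    (L W Z C A : ι → Subgroup G), RB S → (∀ P, IsParS (S : Subgroup G) P → lev (S : Subgroup G) n ≤ o2 P) →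
    LnV S V Q n L W Z C A → (∀ l m : ι, ∃ r, r ≠ l ∧ r ≠ m) → (∀ i, L i ≤ MZ (S : Subgroup G)) →
    (∀ i j, ∃ g ∈ MZ (S : Subgroup G), g ∈ normalizer (BL (S : Subgroup G) n : Set G) ∧ cj g (W i) = W j) →
    (∀ l, ∃ m, m ≠ l ∧ ∃ g ∈ normalizer (Q : Set G), (∀ p, p ≠ m → ∀ z ∈ Z p, g * z = z * g) ∧ cj g (W l) ≠ W l) →
    ∀ R : Subgroup G, IsMinPar (BL (S : Subgroup G) n) R → Syl (BL (S : Subgroup G) n) R →
    R ⊓ centralizer (o2 R : Set G) ≤ o2 R → ¬ lev (S : Subgroup G) n ≤ o2 R →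
    ¬ R ≤ centralizer (zc (BL (S : Subgroup G) n) : Set G) → False

variable {G : Type u} [Group G] [Finite G] {ι : Type} [Finite ι] {S : Sylow 2 G} {n : ℕ} {Q : Subgroup G}
  {L W Z C A : ι → Subgroup G}

/-- **(LL)** over `B` in box R, stage `n`. -/
theorem ll_of (hX : ExBk.{u}) (hT : NoTor.{u}) (hC : NoCross.{u}) (R : RB S)
    (fr : FrL (BL (S : Subgroup G) n) Q (Wd (S : Subgroup G)) (zc (lev (S : Subgroup G) n)) (ZL (S : Subgroup G) n)
      L W Z C A 2) (hL : ∀ i, L i ≤ MZ (S : Subgroup G)) (h3 : ∀ l m : ι, ∃ r, r ≠ l ∧ r ≠ m)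
    (hM : ∀ i j, ∃ g ∈ MZ (S : Subgroup G), g ∈ normalizer (BL (S : Subgroup G) n : Set G) ∧ cj g (W i) = W j)
    {Y : Subgroup G} (hY : IsMinPar (BL (S : Subgroup G) n) Y) (hs : Syl (BL (S : Subgroup G) n) Y)
    (hc : Y ⊓ centralizer (o2 Y : Set G) ≤ o2 Y)
    (hZ : ¬ Y ≤ centralizer (zc (BL (S : Subgroup G) n) : Set G)) : lev (S : Subgroup G) n ≤ o2 Y := by
  by_contra hn
  have hln := VSup.lnV R fr hL
  have hne : Nonempty ι := by
    by_contra hcon
    rw [not_nonempty_iff] at hcon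
    apply hZ
    have h1 : zc (BL (S : Subgroup G) n) ≤ ⊥ := by
      rw [fr.zcB]
      intro z hz
      rw [mem_bot]
      exact fr.C0 z (fr.ZJV hz) fun i => (hcon.false i).elim
    intro y _
    rw [mem_centralizer_iff]
    intro z hz
    rw [mem_bot.1 (h1 hz)]
    group
  obtain htr | hcr := TrCross.dich hln fun i j => by
    obtain ⟨g, -, h1, h2⟩ := hM i j
    exact ⟨g, h1, h2⟩
  swap
  · exact hC G ι S _ _ n L W Z C A R (VSup.hall fr.VX) hln h3 hL hM hcr Y hY hs hc hn hZ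
  obtain ⟨j, hj, l, K, N, N1, N0, hk, ha⟩ := hX G ι S _ _ n L W Z C A hln htr (fun i => by
    obtain ⟨r, hr, -⟩ := h3 i i
    exact ⟨r, hr⟩) Y hY hs hc hn hZ
  exact hT G ι S _ _ n L W Z C A R (VSup.hall fr.VX) hln h3 hL hM j hj l K N N1 N0 hk ha

end Cfsg.Agent.Omega.NOThreeL.RRed.BFr.LL
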