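import Cfsg.Agent.Omega.NOThreeL.RRed.BFr.NoCross
import Cfsg.Agent.Omega.OM.LowV.Inst
import Cfsg.Agent.Omega.OM.SwapV.Torus.Main

/-!
# NO-3L, box R: the sockets of (LL) (`BFr/LL.lean`)

* `exBk` (helper646), `noTor` (helper630), `NoCross.noCross` (helper400); **`ll`**: (LL) without hypotheses.
-/

set_option autoImplicit false
set_option linter.unusedSectionVars false

namespace Cfsg.Agent.Omega.NOThreeL.RRed.BFr.LL

open Subgroup Cfsg Cfsg.Agent.Omega.MinPar Cfsg.Agent.Omega.Frame Cfsg.Agent.Omega.FrameNOFF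
open Cfsg.Agent.ZN.ChoiceBase Cfsg.Agent.ZN.ChoiceSit
open Cfsg.Agent.ZN (zc zl o2 zj bau jj)
open Cfsg.Agent.MinSimple.MinParabolic (IsMinPar)
open Cfsg.Agent.Omega.NO3S.Level (lev)
open Cfsg.Agent.Omega.OM.SwapL (ZL BL)
open Cfsg.Agent.Omega.OM.Lev.Uni (FrL)
open Cfsg.Agent.Omega.NOThreeL.RTree (RB)
open Cfsg.Agent.Omega.NOThreeL.Merge (MZ)

universe u

/-- `ExBk` (helper646). -/
theorem exBk : ExBk.{u} :=
  fun _ _ _ _ _ _ _ _ _ _ _ _ _ _ _ h htr two _ hP hT hc hn hZ => OM.LowV.exists_bk h htr two hP hT hc hn hZ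

/-- `NoTor` (helper630). -/
theorem noTor : NoTor.{u} :=
  fun _ _ _ _ _ _ _ _ _ _ _ _ _ _ R hall h h3 hL hM _ hj _ _ _ _ _ hk ha =>
    OM.SwapV.TorusV.noTor R hall h h3 hL hM hj hk ha

variable {G : Type u} [Group G] [Finite G] {ι : Type} [Finite ι] {S : Sylow 2 G} {n : ℕ} {Q : Subgroup G}
  {L W Z C A : ι → Subgroup G}

/-- **(LL)** over `B` in box R, stage `n`. -/
theorem ll (R : RB S)
    (fr : FrL (BL (S : Subgroup G) n) Q (Wd (S : Subgroup G)) (zc (lev (S : Subgroup G) n)) (ZL (S : Subgroup G) n)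
      L W Z C A 2) (hL : ∀ i, L i ≤ MZ (S : Subgroup G)) (h3 : ∀ l m : ι, ∃ r, r ≠ l ∧ r ≠ m)
    (hM : ∀ i j, ∃ g ∈ MZ (S : Subgroup G), g ∈ normalizer (BL (S : Subgroup G) n : Set G) ∧ cj g (W i) = W j)
    {Y : Subgroup G} (hY : IsMinPar (BL (S : Subgroup G) n) Y) (hs : Syl (BL (S : Subgroup G) n) Y)
    (hc : Y ⊓ centralizer (o2 Y : Set G) ≤ o2 Y)
    (hZ : ¬ Y ≤ centralizer (zc (BL (S : Subgroup G) n) : Set G)) : lev (S : Subgroup G) n ≤ o2 Y :=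
  ll_of exBk noTor NoCross.noCross R fr hL h3 hM hY hs hc hZ

end Cfsg.Agent.Omega.NOThreeL.RRed.BFr.LL
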