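import Cfsg.Agent.Omega.NOThreeL.RRed.BFr.RegT
import Cfsg.Agent.Omega.NOThreeL.RRed.BFr.Frame
import Cfsg.Agent.Omega.EDel.FinT

/-!
# NO-3L, box R, `q = 2`, one class: THEOREM S''T over `Lv`

* **`Lv.false_T`** : the frame `FrL` over `B = C_S(Z_J)` of any level, UNI+ for `N_G(B)`, no 2-group `≠ 1` is normalised by
  `C_G(Z_J)` and all `L i`, `M = ⟨P*(S)⟩` transitive on the blocks, `|Ω₁Z(S)| ≥ 4`: contradiction.
-/

set_option autoImplicit false
set_option linter.unusedSectionVars false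

namespace Cfsg.Agent.Omega.NOThreeL.RRed.BFr

open Subgroup Cfsg Cfsg.Agent.ZN.ChoiceBase
open Cfsg.Agent.ZN (jj zj bau zc zl o2)
open Cfsg.Agent.Omega.OM.Lev.Uni (FrL)
open Cfsg.Agent.Omega.EDel (Zf YL)
open Cfsg.Agent.MinSimple.MinParabolic (IsMinPar)

universe u

variable {G : Type u} [Group G] {S : Sylow 2 G} {M V : Subgroup G} {Pt I : Type} [Fintype Pt] [DecidableEq Pt]
  [DecidableEq I] {D : Pts M V Pt I} {X L J : Subgroup G} {AA : Set (Subgroup G)}

namespace Lv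

variable [Finite G] (h : Lv S D X L J AA) {Lb A : Idx D AA → Subgroup G}
  (fr : FrL (BB (S : Subgroup G) V J) ((S : Subgroup G) ⊓ centralizer (V : Set G)) V X (ZJ V J) Lb h.W
      (fun i => zpowers (D.pe (xx i) (yy i))) (fun i => C D i) A 2)
include fr

theorem mem_Z_iff (i : Idx D AA) (x : G) :
    x ∈ zpowers (D.pe (xx i) (yy i)) ↔ x = 1 ∨ x = D.pe (xx i) (yy i) := by
  have hx : D.pe (xx i) (yy i) ^ 2 = 1 := by
    rw [pow_two]
    exact D.sq (D.pe_mem _ _)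
  constructor
  · rintro ⟨n, rfl⟩
    have h2 : D.pe (xx i) (yy i) ^ (2 : ℤ) = 1 := by exact_mod_cast hx
    rcases Int.even_or_odd' n with ⟨c, rfl | rfl⟩
    · left
      show D.pe (xx i) (yy i) ^ (2 * c) = 1
      rw [zpow_mul, h2, one_zpow]
    · right
      show D.pe (xx i) (yy i) ^ (2 * c + 1) = _
      rw [zpow_add, zpow_mul, h2, one_zpow, one_mul, zpow_one]
  · rintro (rfl | rfl)
    · exact one_mem _
    · exact mem_zpowers _

theorem pe_ne (i : Idx D AA) : D.pe (xx i) (yy i) ≠ 1 := by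
  intro e
  have h1 := fr.cardZ i
  change Nat.card ↥(zpowers (D.pe (xx i) (yy i))) = 2 at h1
  rw [e, zpowers_one_eq_bot, Subgroup.card_bot] at h1
  omega

theorem pe_inj {i j : Idx D AA} (e : D.pe (xx i) (yy i) = D.pe (xx j) (yy j)) : i = j := by
  by_contra hne
  have h1 : D.pe (xx i) (yy i) ∈ h.W i := (fr.blk i).ZV (mem_zpowers _)
  have h2 : D.pe (xx i) (yy i) ∈ C D i := by
    rw [e]
    exact fr.WjC i j hne ((fr.blk j).ZV (mem_zpowers _))
  have h3 : D.pe (xx i) (yy i) ∈ h.W i ⊓ C D i := ⟨h1, h2⟩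
  rw [h.dir i, mem_bot] at h3
  exact pe_ne h fr i h3

theorem conj_pe {g : G} (hg : g ∈ normalizer (BB (S : Subgroup G) V J : Set G)) {i j : Idx D AA}
    (e : cj g (h.W i) = h.W j) : g * D.pe (xx i) (yy i) * g⁻¹ = D.pe (xx j) (yy j) := by
  have e1 : cj g ⁅h.W i, BB (S : Subgroup G) V J⁆ = ⁅cj g (h.W i), cj g (BB (S : Subgroup G) V J)⁆ :=
    Subgroup.map_commutator _ _ _
  have e2 : ⁅h.W i, BB (S : Subgroup G) V J⁆ = zpowers (D.pe (xx i) (yy i)) := fr.comm_W i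
  have e3 : ⁅h.W j, BB (S : Subgroup G) V J⁆ = zpowers (D.pe (xx j) (yy j)) := fr.comm_W j
  rw [e, cj_eq_of_mem_normalizer hg, e2, e3] at e1
  have h1 : g * D.pe (xx i) (yy i) * g⁻¹ ∈ zpowers (D.pe (xx j) (yy j)) := by
    rw [← e1]
    exact ⟨_, mem_zpowers _, rfl⟩
  rcases (mem_Z_iff h fr j _).1 h1 with h2 | h2
  · exfalso
    apply pe_ne h fr i
    have h3 := congrArg (fun t => g⁻¹ * t * g) h2
    simpa [mul_assoc] using h3
  · exact h2

/-- **THEOREM S''T over `Lv`.** -/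
theorem false_T [Nonempty Pt] (hML : ML.Final.MLK.{u, u}) (hG : IsCharacteristicTwoType G) (hK : IsKProper G)
    (syl : ∀ R : Subgroup G, R ≤ centralizer (ZJ V J : Set G) → IsPGroup 2 R → BB (S : Subgroup G) V J ≤ R →
      R ≤ BB (S : Subgroup G) V J)
    (uni : ∀ g ∈ normalizer (BB (S : Subgroup G) V J : Set G), ∀ i, ∃ j, cj g (h.W i) = h.W j ∧
      cj g (Lb i) ≤ YL (ZJ V J) Lb j)
    (nl : ∀ U : Subgroup G, IsPGroup 2 U → centralizer (ZJ V J : Set G) ≤ normalizer (U : Set G) →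
      (∀ i, Lb i ≤ normalizer (U : Set G)) → U = ⊥)
    (tr : ∀ x y : Pt, ∃ m ∈ M, D.blk (D.r m x) = D.blk y)
    (hM : M ≤ sSup {P : Subgroup G | IsMinPar (S : Subgroup G) P ∧ P ≤ M})
    (hz : zc (S : Subgroup G) ≤ ZJ V J) (h4 : 4 ≤ Nat.card (zc (S : Subgroup G))) : False := by
  obtain ⟨i₀, -⟩ := h.exists_idx (Classical.arbitrary Pt)
  have hne : Nonempty (Idx D AA) := ⟨i₀⟩
  have three := h.three tr hz h4
  have zf : Zf (BB (S : Subgroup G) V J) ((S : Subgroup G) ⊓ centralizer (V : Set G)) V X (ZJ V J) Lb h.W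
      (fun i => zpowers (D.pe (xx i) (yy i))) (fun i => C D i) A (fun i => D.pe (xx i) (yy i)) :=
    { hG := hG
      fr := fr
      hz := mem_Z_iff h fr
      Bp := S.isPGroup'.to_le inf_le_left
      syl := syl
      uni := fun g hg i => by
        obtain ⟨j, hj, -⟩ := uni g hg i
        refine ⟨j, ?_, hj.le.trans le_sup_left⟩
        have h1 := conj_pe h fr hg hj
        show cj g (zpowers (D.pe (xx i) (yy i))) = zpowers (D.pe (xx j) (yy j))
        rw [← h1]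
        exact MonoidHom.map_zpowers _ _ }
  obtain ⟨τ, h1, h2⟩ := zf.cyc_of hML hK
    (fun g hg i j hij => by
      obtain ⟨j', e1, e2⟩ := uni g hg i
      have e3 := (conj_pe h fr hg e1).symm.trans hij
      rwa [pe_inj h fr e3] at e2)
    (fun U hU hU2 hn => hU (nl U hU2 (le_sup_left.trans (hn i₀)) fun i => le_sup_right.trans (hn i)))
    three
    (fun i j => by
      obtain ⟨g, hg, hgn, e⟩ := h.hM tr i j
      obtain ⟨π, hπ, -, -⟩ := h.exists_perm hg hgn
      exact ⟨g, π, fun l => conj_pe h fr hgn (hπ l), h.W_inj ((hπ i).symm.trans e)⟩)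
  refine h.not_cyc tr hM hz h4 ⟨τ, h1, fun g hg hgn π hπ => h2 g π fun l => conj_pe h fr hgn (hπ l)⟩

end Lv

end Cfsg.Agent.Omega.NOThreeL.RRed.BFr
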