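import Cfsg.Agent.Omega.NOThreeL.RRed.BFr.LevTn

/-!
# NO-3L, box R, `q = 2`, one class: THEOREM S''T at the stage `-1`

* **`false_negT`** : `RB S`, `V*` irreducible, `𝔽₂`-blocks, `|Ω₁Z(S)| ≥ 4`, `J(S)` moves every block: contradiction.
-/

set_option autoImplicit false
set_option linter.unusedSectionVars false

namespace Cfsg.Agent.Omega.NOThreeL.RRed.BFr

open Subgroup Cfsg Cfsg.Agent.ZN.ChoiceBase Cfsg.Agent.Omega.MinPar Cfsg.Agent.Omega.Frame
open Cfsg.Agent.ZN (jj zj bau zc zl o2)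
open Cfsg.Agent.Omega.NOThreeL.Merge (MZ le_MZ S_le_MZ)
open Cfsg.Agent.Omega.NOThreeL.RTree (RB)
open Cfsg.Agent.Omega.OM.LevD (LB)
open Cfsg.Agent.Omega.OM.Uni (Fr FB)
open Cfsg.Agent.Omega.OM.UniPlus (NB)
open Cfsg.Agent.Omega.OM.SwapV
open Cfsg.Agent.Omega.NOThreeL.RRed (Wd zl_le_Wd)
open Cfsg.Agent.Omega.NOThreeL.RRed.FourTree (Bks)
open Cfsg.Agent.Omega.EDel (YL le_YL_of)

universe u

variable {G : Type u} [Group G] [Finite G] {S : Sylow 2 G}

/-- UNI+ for `N_G(B)` at the stage `-1` -/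
theorem uni_negT {ι : Type} [Finite ι] {Q V : Subgroup G} {L W Z C A : ι → Subgroup G}
    (hl : NegPair.LineV S Q V L W Z C A 2) (h3 : ∀ i j : ι, ∃ l, l ≠ i ∧ l ≠ j)
    {m : ℕ} (fr : Fr (bau (S : Subgroup G)) Q V (zj (S : Subgroup G)) L W Z C A 2 m)
    {g : G} (hg : g ∈ normalizer (bau (S : Subgroup G) : Set G)) (i : ι) :
    ∃ j, cj g (W i) = W j ∧ cj g (L i) ≤ YL (zj (S : Subgroup G)) L j := by
  have hN := (show NB (bau (S : Subgroup G)) (L i) (W i) (Z i) 2 from ⟨fr.blk i, fr.cardZ i⟩).conj g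
  rw [cj_eq_of_mem_normalizer hg] at hN
  obtain ⟨-, j, -, -, h1⟩ := hl.uniPlus hN.toFB
  rcases h1 with ⟨-, -, h2⟩ | ⟨-, h4, -⟩
  · exact ⟨j, (h2 rfl).1, le_YL_of (h2 rfl).2⟩
  · exact absurd h4 (NlNeg.card_ne hl h3 j)

variable {I : Type u} [Fintype I] [DecidableEq I] {N E : I → Subgroup G} {Om : I → Type u}
  [∀ i, Fintype (Om i)] [∀ i, DecidableEq (Om i)] {phi : ∀ i, Finset (Om i) → G}

/-- **`𝔽₂`-blocks, one class, stage `-1`.** -/
theorem false_negT (hML : ML.Final.MLK.{u, u}) (B : RB S) (hB : Bks S N E ⊥ Om phi)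
    (h4 : 4 ≤ Nat.card (zc (S : Subgroup G)))
    (irr : ∀ U : Subgroup G, U ≤ Wd (S : Subgroup G) → MZ (S : Subgroup G) ≤ normalizer (U : Set G) → U ≠ ⊥ →
      Wd (S : Subgroup G) ≤ U)
    (hj : ∀ b, ¬ jj (S : Subgroup G) ≤ centralizer (N b : Set G)) : False := by
  have hG := B.ctx.char2
  have hbd := bd_of B hB
  have hm := mvb_of hB ((jj_le _).trans (S_le_MZ B.ctx B.full)) hj
  have hl := hbd.lv_neg hm
  obtain ⟨b⟩ := hB.nonempty
  have hPt : Nonempty (Fin (Fintype.card (Σ i, Om i))) := by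
    have h3 := hB.toFull.three b
    obtain ⟨a⟩ : Nonempty (Om b) := Fintype.card_pos_iff.1 (by omega)
    exact ⟨(fP Om).symm ⟨b, a⟩⟩
  have hzq : Lv.ZcQ (S : Subgroup G) (Wd (S : Subgroup G)) := fun x h1 h2 h3 =>
    hbd.zcQ_neg hm (mem_zc.2 ⟨h1, h2, fun y hy => (h3 y hy).symm⟩)
  obtain ⟨Lb, A, h1, hA, -, h2⟩ := hl.exists_frL hzq
  have hLM : ∀ i, Lb i ≤ MZ (S : Subgroup G) := fun i => (h1 i).trans (hl.XX_le_M i)
  have eZ : ZJ (Wd (S : Subgroup G)) (jj (S : Subgroup G)) = zj (S : Subgroup G) := hbd.ZJ_neg hm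
  have eB : BB (S : Subgroup G) (Wd (S : Subgroup G)) (jj (S : Subgroup G)) = bau (S : Subgroup G) := by
    rw [BB, eZ]
    rfl
  have h2' := h2
  rw [eB, eZ] at h2'
  have htr := (ofFull hB.toFull).tr_of_irr irr
  have hz : zc (S : Subgroup G) ≤ ZJ (Wd (S : Subgroup G)) (jj (S : Subgroup G)) := by
    rw [eZ]
    exact zc_le_zj _
  obtain ⟨i₀, -⟩ := hl.exists_idx (Classical.arbitrary _)
  have hne : Nonempty (Idx (ofFull hB.toFull) (AA (S : Subgroup G))) := ⟨i₀⟩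
  have three := hl.three htr hz h4
  have frr : Fr (bau (S : Subgroup G)) ((S : Subgroup G) ⊓ centralizer (Wd (S : Subgroup G) : Set G))
      (Wd (S : Subgroup G)) (zj (S : Subgroup G)) Lb hl.W
      (fun i => zpowers ((ofFull hB.toFull).pe (xx i) (yy i))) (fun i => Lv.C (ofFull hB.toFull) i) A 2
      (mm (S : Subgroup G)) :=
    { max := OM.Uni.mx_sylow S
      blk := h2'.blk
      cardZ := h2'.cardZ
      QB := h2'.QB
      VQ := h2'.VQ
      el := V_elem (ofFull hB.toFull)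
      mem_Q := h2'.mem_Q
      zcQ := h2'.zcQ
      mem_ZJ := h2'.mem_ZJ
      LV := h2'.LV
      LQ := h2'.LQ
      WV := h2'.WV
      CV := h2'.CV
      WC := h2'.WC
      dir := h2'.dir
      C0 := h2'.C0
      WjC := h2'.WjC
      BC := h2'.BC
      LC := h2'.LC
      AB := h2'.AB
      Ael := fun i => (hA i).1
      Am := fun i => (mm_eq (hA i)).symm
      Ane := h2'.Ane
      AC := h2'.AC }
  have hline := VSup.lineV B frr hLM fun i => by
    obtain ⟨l, hl, -⟩ := three i i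
    exact ⟨l, hl⟩
  have lb : LB S (jj (S : Subgroup G)) (bau (S : Subgroup G)) (zj (S : Subgroup G)) := LB.neg S
  have hSZ : (S : Subgroup G) ≤ normalizer (zj (S : Subgroup G) : Set G) :=
    (le_normalizer (H := (S : Subgroup G))).trans
      (lb.nrm _ S.isPGroup' ((lb.KB.trans lb.eqB.le).trans inf_le_left))
  refine hl.false_T h2 hML hG B.ctx.kproper ?_ ?_ ?_ htr MZ_le_sSup hz h4
  · rw [eB, eZ]
    exact fun R hR hR2 hBR => ((OM.WOneG.syl_B S lb.eqB hSZ).2.2 R hR hR2 hBR).le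
  · rw [eB, eZ]
    exact fun g hg i => uni_negT hline three frr hg i
  · rw [eZ]
    exact fun U hU hD hLU => VSup.nl_neg B frr hLM three hU hD hLU

end Cfsg.Agent.Omega.NOThreeL.RRed.BFr
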