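import Cfsg.Agent.Omega.OM.SwapV.Q.NlQ
import Cfsg.Agent.Omega.NOThreeL.RTree

/-!
# NO-3L, box R, `q ≥ 4`: the groups `C_G(Z_J ∩ C i)` are together nonlocal, stage `n ≥ 0`

`B = C_S(Z_J)`, `Z_J = Ω₁Z(lev S (n+1))`, the frame `LnQ S V Q n L W Z C A q` (any module `V`, any `S`-orbits of
blocks, one field size `q ≥ 4`); no condition on the stage.

* `nlQ` : in box R no 2-group `≠ 1` is normalised by all `C_G(Z_J ∩ C i)`.
-/

set_option autoImplicit false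
set_option linter.unusedSectionVars false

namespace Cfsg.Agent.Omega.NOThreeL.RRed.BFr.NlLev

open Subgroup Cfsg Cfsg.Agent.Omega.MinPar Cfsg.Agent.Omega.Frame Cfsg.Agent.ZN.ChoiceBase Cfsg.Agent.ZN.ChoiceSit
open Cfsg.Agent.ZN (zc o2)
open Cfsg.Agent.Omega.NO3S.Level (lev)
open Cfsg.Agent.Omega.OM.SwapL (ZL BL lb)
open Cfsg.Agent.Omega.OM.SwapV.Q
open Cfsg.Agent.Omega.NOThreeL.RTree (RB)
open Cfsg.Agent.Omega.OM.LevD (K0)
open Cfsg.Agent.Omega.OM.LevB (FBlk)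

universe u

variable {G : Type u} [Group G] [Finite G] {ι : Type} [Finite ι] {S : Sylow 2 G} {V Q : Subgroup G} {n : ℕ}
  {L W Z C A : ι → Subgroup G} {q : ℕ}

/-- **No 2-group `≠ 1` is normalised by `⟨C_G(Z_J), all FF-blocks over B⟩`.** -/
theorem nlK [Nonempty ι] (B : RB S) (hq : 4 ≤ q) (h : LnQ S V Q n L W Z C A q) {R : Subgroup G}
    (hR : IsPGroup 2 R)
    (hY : K0 (ZL (S : Subgroup G) n) (FBlk (BL (S : Subgroup G) n)) ≤ normalizer (R : Set G)) : R = ⊥ := by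
  by_contra hR1
  obtain ⟨O, hO2, hO1, -, -, -, -, hYO, hH⟩ := LnQ.nonLocK main2 h hq hR hR1 hY
  have hG := B.ctx.char2
  refine hO1 (FrameNOFF.eq_bot_of_norm B.ctx S B.full hO2 (fun P hP => ?_) ?_)
  · have hP' : IsParS (S : Subgroup G) P := hP
    exact hYO S P ⟨hP'.le, S.isPGroup', fun Q _ hQ hle => S.is_maximal' hQ hle⟩ (lb S n).BS hP'.toIsMinPar
      (hP'.isLoc.char2 S hG) fun hc => hP'.not_zc (hc.trans (centralizer_le_normalizer _))
  · have h1 := isLoc_centralizer_zc S (B.ctx.sylow_ne_bot S)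
    exact hH _ ((lb S n).BS.trans h1.le) (h1.char2 S hG)

/-- **No 2-group `≠ 1` is normalised by all `C_G(Z_J ∩ C i)`.** -/
theorem nlQ' [Nonempty ι] (B : RB S) (hq : 4 ≤ q) (h : LnQ S V Q n L W Z C A q) {R : Subgroup G}
    (hR : IsPGroup 2 R)
    (hY : ∀ i, centralizer ((ZL (S : Subgroup G) n ⊓ C i : Subgroup G) : Set G) ≤ normalizer (R : Set G)) :
    R = ⊥ := nlK B hq h hR (h.K0_le.trans (iSup_le hY))

/-- the same, from `Main2` -/
theorem nlQ [Nonempty ι] (B : RB S) (_hm : Main2.{u}) (hq : 4 ≤ q) (h : LnQ S V Q n L W Z C A q) {R : Subgroup G}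
    (hR : IsPGroup 2 R)
    (hY : ∀ i, centralizer ((ZL (S : Subgroup G) n ⊓ C i : Subgroup G) : Set G) ≤ normalizer (R : Set G)) :
    R = ⊥ := nlQ' B hq h hR hY

end Cfsg.Agent.Omega.NOThreeL.RRed.BFr.NlLev
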