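import Cfsg.Agent.Omega.OM.SwapV.Q.K0LeNeg
import Cfsg.Agent.Omega.NOThreeL.RTree

/-!
# NO-3L, box R: `C_G(Z_J)` and the `L i` are together nonlocal, stage `-1`

* `nlNegK` : no 2-group `≠ 1` is normalised by `⟨C_G(Z_J), all FF-blocks over B⟩` (`q ≥ 4`);
* `nlNeg8` : no 2-group `≠ 1` is normalised by `C_G(Z_J)` and all `L i` (`q ≥ 8`, at least two blocks).
-/

set_option autoImplicit false
set_option linter.unusedSectionVars false

namespace Cfsg.Agent.Omega.NOThreeL.RRed.BFr.NlNeg8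

open Subgroup Cfsg Cfsg.Agent.Omega.MinPar Cfsg.Agent.Omega.Frame Cfsg.Agent.ZN.ChoiceBase Cfsg.Agent.ZN.ChoiceSit
open Cfsg.Agent.ZN (jj zj bau zc zl o2)
open Cfsg.Agent.Omega.OM.SwapV.Q
open Cfsg.Agent.Omega.NOThreeL.RTree (RB)

universe u

variable {G : Type u} [Group G] [Finite G] {ι : Type} [Finite ι] {S : Sylow 2 G} {V Q : Subgroup G}
  {L W Z C A : ι → Subgroup G} {q : ℕ}

/-- **No 2-group `≠ 1` is normalised by `⟨C_G(Z_J), all FF-blocks over B⟩`**, stage `-1`. -/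
theorem nlNegK [Nonempty ι] (B : RB S) (hq : 4 ≤ q) (h : NegQ S V Q L W Z C A q) {R : Subgroup G}
    (hR : IsPGroup 2 R)
    (hY : OM.Dich.K0 (S : Subgroup G) (OM.BlkGen.FBlk (S : Subgroup G)) ≤ normalizer (R : Set G)) : R = ⊥ := by
  by_contra hR1
  obtain ⟨O, hO2, hO1, -, -, -, -, hH⟩ := h.nonLocK hq hR hR1 hY
  have hG := B.ctx.char2
  refine hO1 (FrameNOFF.eq_bot_of_norm B.ctx S B.full hO2 (fun P hP => ?_) ?_)
  · exact hH P ((bau_le _).trans hP.le) (hP.isLoc.char2 S hG)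
  · have h1 := isLoc_centralizer_zc S (B.ctx.sylow_ne_bot S)
    exact hH _ ((bau_le _).trans h1.le) (h1.char2 S hG)

/-- **No 2-group `≠ 1` is normalised by `C_G(Z_J)` and all `L i`**, stage `-1` (`q ≥ 8`). -/
theorem nlNeg8 [Nonempty ι] (B : RB S) (hq : 8 ≤ q) (h : NegQ S V Q L W Z C A q) (h2 : ∀ i : ι, ∃ j, j ≠ i)
    {R : Subgroup G} (hR : IsPGroup 2 R)
    (hD : centralizer (zj (S : Subgroup G) : Set G) ≤ normalizer (R : Set G))
    (hL : ∀ i, L i ≤ normalizer (R : Set G)) : R = ⊥ :=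
  nlNegK B (by omega) h hR ((h.K0_le8 hq h2).trans (sup_le hD (iSup_le hL)))

end Cfsg.Agent.Omega.NOThreeL.RRed.BFr.NlNeg8
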