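import Cfsg.Agent.Omega.NOThreeL.RRed.BFr.LL
import Cfsg.Agent.Omega.OM.LowV.Cross
import Cfsg.Agent.Omega.OM.LowV.Inst
import Cfsg.Agent.Omega.OM.SwapV.Torus.LocPlugV

/-!
# NO-3L, box R: light pairs with a common letter (the socket `LL.NoCross`, helper400)

* `bz_of` : `LowV.Cross.BZ` from 646's `LowV.Blk`;
* **`noCross : LL.NoCross`**.
-/

set_option autoImplicit false
set_option linter.unusedSectionVars false

namespace Cfsg.Agent.Omega.NOThreeL.RRed.BFr.NoCross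

open Subgroup Cfsg Cfsg.Agent.Omega.MinPar Cfsg.Agent.ZN.ChoiceBase Cfsg.Agent.ZN.ChoiceSit
open Cfsg.Agent.ZN (zc zl o2 zj bau jj)
open Cfsg.Agent.MinSimple.MinParabolic (IsMinPar)
open Cfsg.Agent.Omega.NO3S.Level (lev lev_mono lev_isLev lev_le)
open Cfsg.Agent.Omega.OM.SwapL (ZL BL lb)
open Cfsg.Agent.Omega.OM.SwapV.Lv (LnV)
open Cfsg.Agent.Omega.OM.Lev.Low (TorusK.stM TorusK.stY)
open Cfsg.Agent.Omega.OM.LowV (Blk R_norm zl_le_lev)
open Cfsg.Agent.Omega.OM.LowV.Cross (BZ Gd)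
open Cfsg.Agent.Omega.FrameFF (cv)
open Cfsg.Agent.Omega.NOThreeL.RTree (RB)
open Cfsg.Agent.Omega.NOThreeL.Merge (MZ)

universe u

variable {G : Type u} [Group G] [Finite G] {ι : Type} {S : Sylow 2 G} {V Q : Subgroup G} {n : ℕ}
  {L W Z C A : ι → Subgroup G} {R : Subgroup G} {j : ℕ} {K N₁ c : Subgroup G} {τ : G} {l : ι}

/-- **The instance of `BZ`.** -/
theorem bz_of (h : Blk S V Q n L W Z C A R j K N₁ c τ l) :
    BZ (BL (S : Subgroup G) n) (OM.LevB.BL (S : Subgroup G) j) (zc (lev (S : Subgroup G) j))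
      (TorusK.stM (S : Subgroup G) j) (TorusK.stY (S : Subgroup G) j) W Z l K (zl (BL (S : Subgroup G) n) R) N₁
      (cv (BL (S : Subgroup G) n) R) where
  pb := h.pb
  NY := by
    cases j with
    | zero => exact le_top
    | succ m => exact zl_le_lev h (Nat.lt_succ_self m)
  KM := by
    cases j with
    | zero => exact le_top
    | succ m => exact h.KR.trans (R_norm h (Nat.lt_succ_self m))
  WN := h.cW ▸ h.cN1
  WN0 := h.cW ▸ h.cD
  cZ := fun p hp w hw k hk => mem_centralizer_iff.1 (h.ZK p hp hw) k hk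
  BX := fun b hb => mem_normalizer_iff_cj.2 (h.fix b hb).1
  tor := by
    refine ⟨τ, h.τK, h.τB0, fun w hw => ?_, fun w hw => h.τ1 w (h.cW ▸ hw)⟩
    rw [← h.cW] at hw ⊢
    have h1 : τ * w * τ⁻¹ ∈ cj τ c := ⟨w, hw, rfl⟩
    rwa [h.τc] at h1
  cc := h.cW ▸ h.cc

/-- **`NoCross`.** -/
theorem noCross : LL.NoCross.{u} := by
  intro G _ _ ι _ S V Q n L W Z C A RS hall h h3 hL hM hx R hP hT hc hn hZ
  have hne : Nonempty ι := by
    by_contra hcon
    rw [not_nonempty_iff] at hcon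
    apply hZ
    have h1 : zc (BL (S : Subgroup G) n) ≤ ⊥ := by
      rw [h.fr.zcB]
      intro z hz
      rw [mem_bot]
      exact h.fr.C0 z (h.fr.ZJV hz) fun i => (hcon.false i).elim
    intro y _
    rw [mem_centralizer_iff]
    intro z hz
    rw [mem_bot.1 (h1 hz)]
    group
  obtain ⟨j, K, N₁, c, τ, l, hB, -⟩ := OM.LowV.exists_blk h (fun i => by
    obtain ⟨r, hr, -⟩ := h3 i i
    exact ⟨r, hr⟩) hP hT hc hn hZ
  obtain ⟨z, hz, hzC, -, -⟩ := OM.SwapV.TorusV.LocL.exists_z h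
  have hj := hB.jn
  have hk := OM.SwapV.TorusV.tk_of' RS h h3 hall (fun i k => by
    obtain ⟨g, h1, h2, h4⟩ := hM i k
    exact ⟨g, mem_inf.2 ⟨h1, h2⟩, h4⟩) hj hz hzC
  have hb := bz_of hB
  obtain ⟨m, hm, g, hg, hgz, hgW⟩ := hx l
  apply hgW
  -- `g` normalises the levels
  have hQS : Q ≤ (S : Subgroup G) := h.fr.QB.trans (lb S n).BS
  have hlev : ∀ i, i ≤ n → g ∈ normalizer (lev (S : Subgroup G) i : Set G) := fun i hi =>
    (lev_isLev (S : Subgroup G) i).norm Q ((lev_mono _ hi).trans h.levQ) hQS hg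
  have hX : cj g (zc (lev (S : Subgroup G) j)) = zc (lev (S : Subgroup G) j) :=
    cj_eq_of_mem_normalizer (NO3S.Level.normalizer_le_zc _ (hlev j hj))
  have hB0 : OM.LevB.BL (S : Subgroup G) j = Q ⊓ centralizer (zc (lev (S : Subgroup G) j) : Set G) := by
    refine le_antisymm (le_inf ?_ inf_le_right) (inf_le_inf_right _ hQS)
    rw [TrCross.Q_eq h]
    exact le_inf hk.B0B (inf_le_right.trans (centralizer_le hk.VX))
  refine hb.cjW hk ⟨?_, ?_, m, hm, hgz⟩
  · rw [mem_normalizer_iff_cj, hB0, cj_inf, cj_centralizer, hX, cj_eq_of_mem_normalizer hg]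
  · cases j with
    | zero => exact mem_top _
    | succ i => exact hlev i (by omega)

end Cfsg.Agent.Omega.NOThreeL.RRed.BFr.NoCross
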