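import Cfsg.Agent.Omega.NOThreeL.RRed.BFr.HM
import Cfsg.Agent.Omega.MinPar

/-!
# NO-3L, box R: one pair in every block, `M ∩ N(B)` abelian on the blocks

`h : Lv S D X L J AA`, every block contains one pair (three letters), `M ∩ N(B)` acts on the blocks as an abelian
group, `M` is generated by minimal parabolics over `S`:

* `par_sup` : `P ≤ S K`, if `P` is a minimal parabolic over `S`, `K` is normal in `P` and `P / K` is abelian;
* `exists_corr_blk` : `M` acts on the blocks as `M ∩ N(B)`;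
* `par_blk` : the elements of `P` act on the blocks as elements of `S`;
* `tr_S` : `S` is transitive on the blocks, if `V` is irreducible under `M`;
* **`card_le`** : `|Z| ≤ 2` for `Z ≤ V` centralised by `S`.
-/

set_option autoImplicit false
set_option linter.unusedSectionVars false

namespace Cfsg.Agent.Omega.NOThreeL.RRed.BFr

open Subgroup Cfsg Cfsg.Agent.ZN Cfsg.Agent.ZN.ChoiceBase
open Cfsg.Agent.MinSimple.MinParabolic (IsMinPar)
open Cfsg.Agent.Omega.NO3S.OneLine (BFam)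

universe u

variable {G : Type u} [Group G]

/-- `P = S K` if `P / K` is abelian -/
theorem par_sup [Finite G] {S : Sylow 2 G} {P K : Subgroup G} (hP : IsMinPar (S : Subgroup G) P) (hK : K ≤ P)
    (hc : ∀ p ∈ P, ∀ q ∈ P, p * q * p⁻¹ * q⁻¹ ∈ K) :
    P ≤ (S : Subgroup G) ⊔ K := by
  classical
  by_contra hcon
  have hTP : (S : Subgroup G) ⊔ K ≤ P := sup_le hP.le hK
  obtain ⟨Mx, h1, h2⟩ := hP.exists_max
  have hT : (S : Subgroup G) ⊔ K ≤ Mx := h2 _ le_sup_left (lt_of_le_of_ne hTP fun e => hcon e.ge)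
  have hN : P ⊓ normalizer ((S : Subgroup G) : Set G) ≤ Mx := by
    refine h2 _ (le_inf hP.le le_normalizer) (lt_of_le_of_ne inf_le_left fun e => hP.not_le ?_)
    rw [← e]
    exact inf_le_right
  refine absurd ?_ (not_le_of_gt h1)
  intro p hp
  -- Frattini
  have h3 : cj p (S : Subgroup G) ≤ (S : Subgroup G) ⊔ K := by
    rintro _ ⟨s, hs, rfl⟩
    show p * s * p⁻¹ ∈ _
    have h4 := hc p hp s (hP.le hs)
    have e1 : p * s * p⁻¹ = (p * s * p⁻¹ * s⁻¹) * s := by group
    rw [e1]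
    exact mul_mem (le_sup_right (α := Subgroup G) h4) (le_sup_left (α := Subgroup G) hs)
  obtain ⟨t, ht, R, -, hRp, hSR, htR⟩ := exists_common (S.isPGroup') (S.isPGroup'.map (MulAut.conj p).toMonoidHom)
    (le_sup_left : (S : Subgroup G) ≤ (S : Subgroup G) ⊔ K) h3
  have hR : R = (S : Subgroup G) := S.is_maximal' hRp hSR
  rw [hR] at htR
  have h5 : cj (t * p) (S : Subgroup G) = (S : Subgroup G) := by
    rw [← cj_cj]
    refine Subgroup.eq_of_le_of_card_ge htR ?_
    rw [card_cj]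
    exact (card_cj p (S : Subgroup G)).ge
  have h6 : t * p ∈ P ⊓ normalizer ((S : Subgroup G) : Set G) :=
    ⟨mul_mem (hTP ht) hp, mem_normalizer_iff_cj.2 h5⟩
  have h7 := mul_mem (inv_mem (hT ht)) (hN h6)
  rwa [inv_mul_cancel_left] at h7

namespace Pts

variable {M V : Subgroup G} {Pt I : Type} [Fintype Pt] [DecidableEq Pt] [DecidableEq I] (D : Pts M V Pt I)

/-- the elements of `P` act on the blocks as elements of `S` -/
theorem par_blk [Finite G] {S : Sylow 2 G} {P : Subgroup G} (hP : IsMinPar (S : Subgroup G) P) (hPM : P ≤ M)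
    (ab : ∀ g ∈ M, ∀ g' ∈ M, ∀ z, D.blk (D.r (g * g') z) = D.blk (D.r (g' * g) z)) :
    ∀ p ∈ P, ∃ s ∈ (S : Subgroup G), ∀ z, D.blk (D.r p z) = D.blk (D.r s z) := by
  have hSM : (S : Subgroup G) ≤ M := hP.le.trans hPM
  let K : Subgroup G :=
    { carrier := {k | k ∈ P ∧ ∀ z, D.blk (D.r k z) = D.blk z}
      mul_mem' := by
        rintro a b ⟨ha, ha'⟩ ⟨hb, hb'⟩
        exact ⟨mul_mem ha hb, fun z => by rw [D.r_mul (hPM ha) (hPM hb), Equiv.Perm.mul_apply, ha', hb']⟩
      one_mem' := ⟨one_mem _, fun z => by rw [D.r_one]; rfl⟩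
      inv_mem' := by
        rintro a ⟨ha, ha'⟩
        refine ⟨inv_mem ha, fun z => ?_⟩
        have h1 := ha' (D.r a⁻¹ z)
        rw [D.r_inv (hPM ha)] at h1 ⊢
        rw [apply_inv_self'] at h1
        exact h1.symm }
  let T : Subgroup G :=
    { carrier := {p | p ∈ M ∧ ∃ s ∈ (S : Subgroup G), ∀ z, D.blk (D.r p z) = D.blk (D.r s z)}
      mul_mem' := by
        rintro a b ⟨ha, s, hs, ha'⟩ ⟨hb, t, ht, hb'⟩
        refine ⟨mul_mem ha hb, s * t, mul_mem hs ht, fun z => ?_⟩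
        rw [D.r_mul ha hb, D.r_mul (hSM hs) (hSM ht), Equiv.Perm.mul_apply, Equiv.Perm.mul_apply, ha']
        exact D.r_blk (hSM hs) (hb' z)
      one_mem' := ⟨one_mem _, 1, one_mem _, fun z => rfl⟩
      inv_mem' := by
        rintro a ⟨ha, s, hs, ha'⟩
        refine ⟨inv_mem ha, s⁻¹, inv_mem hs, fun z => ?_⟩
        have h1 := ha' (D.r a⁻¹ z)
        have h2 := D.r_blk (inv_mem (hSM hs)) h1
        rw [D.r_inv ha, apply_inv_self', D.r_inv (hSM hs), inv_apply_self'] at h2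
        rw [D.r_inv ha, D.r_inv (hSM hs)]
        exact h2.symm }
  have h1 : P ≤ (S : Subgroup G) ⊔ K := by
    refine par_sup hP (fun k hk => hk.1) ?_
    · intro p hp q hq
      refine ⟨mul_mem (mul_mem (mul_mem hp hq) (inv_mem hp)) (inv_mem hq), fun z => ?_⟩
      have hpM := hPM hp
      have hqM := hPM hq
      have h1 := ab p hpM q hqM (D.r (q * p)⁻¹ z)
      rw [D.r_inv (mul_mem hqM hpM), apply_inv_self', ← D.r_inv (mul_mem hqM hpM)] at h1
      rw [← h1, show p * q * p⁻¹ * q⁻¹ = (p * q) * (q * p)⁻¹ by group,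
        D.r_mul (mul_mem hpM hqM) (inv_mem (mul_mem hqM hpM)), Equiv.Perm.mul_apply]
  have h2 : (S : Subgroup G) ⊔ K ≤ T :=
    sup_le (fun s hs => ⟨hSM hs, s, hs, fun _ => rfl⟩)
      (fun k hk => ⟨hPM hk.1, 1, one_mem _, fun z => by rw [hk.2, D.r_one]; rfl⟩)
  exact fun p hp => (h2 (h1 hp)).2

/-- **`S` is transitive on the blocks** -/
theorem tr_S [Finite G] {S : Sylow 2 G} (hSM : (S : Subgroup G) ≤ M)
    (irr : ∀ U : Subgroup G, U ≤ V → M ≤ normalizer (U : Set G) → U ≠ ⊥ → V ≤ U)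
    (gen : ∀ U : Subgroup G, (∀ P : Subgroup G, IsMinPar (S : Subgroup G) P → P ≤ M → P ≤ normalizer (U : Set G)) →
      M ≤ normalizer (U : Set G))
    (ab : ∀ g ∈ M, ∀ g' ∈ M, ∀ z, D.blk (D.r (g * g') z) = D.blk (D.r (g' * g) z)) (x y : Pt) :
    ∃ s ∈ (S : Subgroup G), D.blk (D.r s x) = D.blk y := by
  by_contra hcon
  let U : Subgroup G :=
    { carrier := {v | v ∈ V ∧ ∀ z, (¬ ∃ m ∈ (S : Subgroup G), D.blk (D.r m x) = D.blk z) → D.e v z = 0}
      mul_mem' := by
        rintro a b ⟨ha, ha'⟩ ⟨hb, hb'⟩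
        exact ⟨mul_mem ha hb, fun z hz => by rw [D.mul a ha b hb, Pi.add_apply, ha' z hz, hb' z hz, add_zero]⟩
      one_mem' := ⟨one_mem _, fun z _ => by rw [D.map_one]; rfl⟩
      inv_mem' := by
        rintro a ⟨ha, ha'⟩
        exact ⟨inv_mem ha, fun z hz => by rw [D.map_inv ha]; exact ha' z hz⟩ }
  have key : ∀ P : Subgroup G, IsMinPar (S : Subgroup G) P → P ≤ M → ∀ g ∈ P, ∀ v ∈ U, g * v * g⁻¹ ∈ U := by
    rintro P hP hPM g hgP v ⟨hv, hv'⟩
    have hg := hPM hgP
    refine ⟨D.MV g hg v hv, fun z hz => ?_⟩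
    rw [D.e_conj' hg hv]
    refine hv' _ ?_
    rintro ⟨m, hm, e⟩
    apply hz
    obtain ⟨s, hs, hs'⟩ := D.par_blk hP hPM ab g hgP
    refine ⟨s * m, mul_mem hs hm, ?_⟩
    rw [D.r_mul (hSM hs) (hSM hm), Equiv.Perm.mul_apply, ← hs']
    have h1 := D.r_blk hg e
    rwa [apply_inv_self'] at h1
  have hMU : M ≤ normalizer (U : Set G) := by
    refine gen U fun P hP hPM g hg => ?_
    rw [mem_normalizer_iff]
    refine fun v => ⟨key P hP hPM g hg v, fun hv => ?_⟩
    have h1 := key P hP hPM g⁻¹ (inv_mem hg) _ hv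
    have e : g⁻¹ * (g * v * g⁻¹) * g⁻¹⁻¹ = v := by group
    rwa [e] at h1
  obtain ⟨x', hx', hxx', -⟩ := D.exists_third x x
  have hUne : U ≠ ⊥ := by
    intro e
    have h1 : D.pe x x' ∈ U := by
      refine ⟨D.pe_mem _ _, fun z hz => ?_⟩
      rw [D.e_pe' hx'.symm]
      have h2 : z ≠ x := fun e => hz ⟨1, one_mem _, by rw [D.r_one, e]; rfl⟩
      have h3 : z ≠ x' := fun e => hz ⟨1, one_mem _, by rw [D.r_one, e, hx']; rfl⟩
      rw [if_neg h2, if_neg h3, add_zero]
    rw [e, mem_bot] at h1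
    have h2 := D.e_pe' hx'.symm x
    rw [h1, D.map_one, if_pos rfl, if_neg (Ne.symm hxx'), Pi.zero_apply] at h2
    exact absurd h2 (by decide)
  have hVU := irr U (fun v hv => hv.1) hMU hUne
  obtain ⟨y', hy', hyy', -⟩ := D.exists_third y y
  have h1 := (hVU (D.pe_mem y y')).2 y hcon
  rw [D.e_pe' hy'.symm, if_pos rfl, if_neg (Ne.symm hyy')] at h1
  exact absurd h1 (by decide)

end Pts

namespace Lv

variable {S : Sylow 2 G} {M V : Subgroup G} {Pt I : Type} [Fintype Pt] [DecidableEq Pt] [DecidableEq I]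
variable {D : Pts M V Pt I} {X L J : Subgroup G} {AA : Set (Subgroup G)}
variable [Finite G] (h : Lv S D X L J AA)
include h

/-- **`M` acts on the blocks as `M ∩ N(B)`** -/
theorem exists_corr_blk {m : G} (hm : m ∈ M) :
    ∃ g ∈ M, g ∈ normalizer (BB (S : Subgroup G) V J : Set G) ∧ ∀ z, D.blk (D.r g z) = D.blk (D.r m z) := by
  -- the kernel on the blocks
  let K : Subgroup G :=
    { carrier := {k | k ∈ M ∧ ∀ z, D.blk (D.r k z) = D.blk z}
      mul_mem' := by
        rintro a b ⟨ha, ha'⟩ ⟨hb, hb'⟩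
        exact ⟨mul_mem ha hb, fun z => by rw [D.r_mul ha hb, Equiv.Perm.mul_apply, ha', hb']⟩
      one_mem' := ⟨one_mem _, fun z => by rw [D.r_one]; rfl⟩
      inv_mem' := by
        rintro a ⟨ha, ha'⟩
        refine ⟨inv_mem ha, fun z => ?_⟩
        have h1 := ha' (D.r a⁻¹ z)
        rw [D.r_inv ha] at h1 ⊢
        rw [apply_inv_self'] at h1
        exact h1.symm }
  have hKM : K ≤ M := fun _ hk => hk.1
  have hMK : ∀ g ∈ M, ∀ k ∈ K, g * k * g⁻¹ ∈ K := by
    rintro g hg k ⟨hk, hk'⟩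
    refine ⟨mul_mem (mul_mem hg hk) (inv_mem hg), fun z => ?_⟩
    rw [D.r_mul (mul_mem hg hk) (inv_mem hg), D.r_mul hg hk, D.r_inv hg, Equiv.Perm.mul_apply, Equiv.Perm.mul_apply]
    have h1 := D.r_blk hg (hk' ((D.r g)⁻¹ z))
    rwa [apply_inv_self'] at h1
  have hcjK : ∀ g ∈ M, cj g K ≤ K := by
    rintro g hg _ ⟨k, hk, rfl⟩
    exact hMK g hg k hk
  set SK : Subgroup G := (S : Subgroup G) ⊓ K with hSK
  have hSKp : IsPGroup 2 SK := S.isPGroup'.to_le inf_le_left
  -- `S ∩ K` is Sylow in `K`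
  have hsyl : ∀ R : Subgroup G, R ≤ K → IsPGroup 2 R → SK ≤ R → R = SK := by
    intro R hR hRp hle
    obtain ⟨m', hm', hm'S⟩ := exists_into S h.SM hRp (hR.trans hKM)
    have h1 : cj m' R ≤ SK := le_inf hm'S ((cj_mono m' hR).trans (hcjK m' hm'))
    refine (Subgroup.eq_of_le_of_card_ge hle ?_).symm
    rw [← card_cj m' R]
    exact Subgroup.card_le_of_le h1
  have hcm : cj m SK ≤ K := (cj_mono m inf_le_right).trans (hcjK m hm)
  have hcmp : IsPGroup 2 (cj m SK : Subgroup G) := hSKp.map _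
  obtain ⟨k, hk, R, hRK, hRp, hSR, hkR⟩ := exists_common hSKp hcmp inf_le_right hcm
  have hR := hsyl R hRK hRp hSR
  have hkM : k ∈ M := hKM hk
  have hgM : k * m ∈ M := mul_mem hkM hm
  have h1 : cj (k * m) SK = SK := by
    rw [← cj_cj]
    refine Subgroup.eq_of_le_of_card_ge (hkR.trans hR.le) ?_
    rw [card_cj, card_cj]
  have hBK : BB (S : Subgroup G) V J ≤ K := fun b hb => ⟨h.B_le_M hb, h.Pp_blk (h.B_le_M hb) (h.B_Pp hb)⟩
  have hBeq : BB (S : Subgroup G) V J = SK ⊓ centralizer (ZJ V J : Set G) := by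
    apply le_antisymm
    · exact le_inf (le_inf inf_le_left hBK) inf_le_right
    · exact inf_le_inf_right _ inf_le_left
  have hJ0 : cj (k * m) (sSup AA) = sSup AA := by
    refine h.cj_J0 hgM ?_
    have h2 : sSup AA ≤ SK := le_inf h.J0S (h.J0_le_B.trans hBK)
    refine (cj_mono _ h2).trans ?_
    rw [h1]
    exact inf_le_left
  refine ⟨k * m, hgM, mem_normalizer_iff_cj.2 ?_, fun z => ?_⟩
  · rw [hBeq, cj_inf, cj_centralizer, h1, h.norm_ZJ hgM hJ0]
  · rw [D.r_mul hkM hm, Equiv.Perm.mul_apply]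
    exact hk.2 _

/-- `M` is abelian on the blocks, if `M ∩ N(B)` is -/
theorem ab_of_corr (ab : ∀ g ∈ M, g ∈ normalizer (BB (S : Subgroup G) V J : Set G) → ∀ g' ∈ M,
      g' ∈ normalizer (BB (S : Subgroup G) V J : Set G) → ∀ z, D.blk (D.r (g * g') z) = D.blk (D.r (g' * g) z)) :
    ∀ g ∈ M, ∀ g' ∈ M, ∀ z, D.blk (D.r (g * g') z) = D.blk (D.r (g' * g) z) := by
  intro g hg g' hg' z
  obtain ⟨k, hk, hkn, hk'⟩ := h.exists_corr_blk hg
  obtain ⟨l, hl, hln, hl'⟩ := h.exists_corr_blk hg'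
  have e1 : D.blk (D.r (g * g') z) = D.blk (D.r (k * l) z) := by
    rw [D.r_mul hg hg', D.r_mul hk hl, Equiv.Perm.mul_apply, Equiv.Perm.mul_apply, hk']
    exact (D.r_blk hg (hl' z)).symm
  have e2 : D.blk (D.r (g' * g) z) = D.blk (D.r (l * k) z) := by
    rw [D.r_mul hg' hg, D.r_mul hl hk, Equiv.Perm.mul_apply, Equiv.Perm.mul_apply, hl']
    exact (D.r_blk hg' (hk' z)).symm
  rw [e1, e2]
  exact ab k hk hkn l hl hln z

/-- a vector centralised by `S`, zero at a letter of a pair, is trivial: one pair in every block, `S` transitive -/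
theorem eq_one_of_tr (one : ∀ i j : Idx D AA, D.blk (xx i) = D.blk (xx j) → i = j)
    (tr : ∀ x y : Pt, ∃ s ∈ (S : Subgroup G), D.blk (D.r s x) = D.blk y) (i : Idx D AA) {v : G} (hv : v ∈ V)
    (hc : ∀ s ∈ (S : Subgroup G), s * v = v * s) (h0 : D.e v (xx i) = 0) : v = 1 := by
  have hinv : ∀ s ∈ (S : Subgroup G), ∀ z, D.e v (D.r s z) = D.e v z := fun s hs =>
    (D.comm_iff (h.SM hs) hv).1 (hc s hs)
  have hpr : ∀ j : Idx D AA, D.e v (yy j) = D.e v (xx j) := by
    intro j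
    obtain ⟨-, -, a, ha, e⟩ := pr_i j
    have h1 := hinv a (h.J0S ha) (xx j)
    rwa [e, Equiv.swap_apply_left] at h1
  -- the unpaired letter
  have hoo : ∀ j : Idx D AA, D.e v (h.oo (xx j)) = 0 := by
    intro j
    have hvW : ∀ z, D.blk z = D.blk (xx j) → z = h.oo (xx j) ∨ Mem j z := by
      intro z hz
      rcases h.cover z with h1 | ⟨k, hk⟩
      · left
        rw [h1]
        exact h.oo_congr hz
      · right
        have h2 : k = j := one k j (hk.blk.symm.trans hz)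
        exact h2 ▸ hk
    have h1 := D.even v hv (xx j)
    have hne1 : h.oo (xx j) ≠ xx j := fun e => h.oo_not_mem (xx j) j (Or.inl e)
    have hne2 : h.oo (xx j) ≠ yy j := fun e => h.oo_not_mem (xx j) j (Or.inr e)
    have hfil : (Finset.univ.filter fun y => D.blk y = D.blk (xx j)) = {xx j, yy j, h.oo (xx j)} := by
      ext z
      rw [Finset.mem_filter, Finset.mem_insert, Finset.mem_insert, Finset.mem_singleton]
      constructor
      · rintro ⟨-, hz⟩
        rcases hvW z hz with h2 | h2 | h2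
        · exact Or.inr (Or.inr h2)
        · exact Or.inl h2
        · exact Or.inr (Or.inl h2)
      · rintro (rfl | rfl | rfl)
        · exact ⟨Finset.mem_univ _, rfl⟩
        · exact ⟨Finset.mem_univ _, (blk_i j).symm⟩
        · exact ⟨Finset.mem_univ _, h.oo_blk _⟩
    rw [hfil, Finset.sum_insert (by
        rw [Finset.mem_insert, Finset.mem_singleton]
        rintro (e | e)
        · exact ne_i j e
        · exact hne1 e.symm),
      Finset.sum_insert (by
        rw [Finset.mem_singleton]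
        exact hne2.symm), Finset.sum_singleton, hpr j, ← add_assoc, add_self, zero_add] at h1
    exact h1
  -- the value is constant on the paired letters
  have hoinv : ∀ s ∈ (S : Subgroup G), ∀ z, D.e v z = D.e v (D.r s z) := fun s hs z => (hinv s hs z).symm
  have hxi : ∀ z, D.blk z = D.blk (xx i) → D.e v z = 0 := by
    intro z hz
    rcases h.cover z with h1 | ⟨k, hk⟩
    · rw [h1, h.oo_congr hz]
      exact hoo i
    · have h2 : k = i := one k i (hk.blk.symm.trans hz)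
      subst h2
      rcases hk with e | e
      · rw [e, h0]
      · rw [e, hpr, h0]
  refine D.inj v hv ?_
  funext z
  obtain ⟨s, hs, hs'⟩ := tr z (xx i)
  rw [hoinv s hs z, hxi _ hs']
  rfl

/-- **`|Z| ≤ 2`** -/
theorem card_le (irr : ∀ U : Subgroup G, U ≤ V → M ≤ normalizer (U : Set G) → U ≠ ⊥ → V ≤ U)
    (gen : ∀ U : Subgroup G, (∀ P : Subgroup G, IsMinPar (S : Subgroup G) P → P ≤ M → P ≤ normalizer (U : Set G)) →
      M ≤ normalizer (U : Set G))
    (one : ∀ i j : Idx D AA, D.blk (xx i) = D.blk (xx j) → i = j) [Nonempty (Idx D AA)]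
    (ab : ∀ g ∈ M, g ∈ normalizer (BB (S : Subgroup G) V J : Set G) → ∀ g' ∈ M,
      g' ∈ normalizer (BB (S : Subgroup G) V J : Set G) → ∀ z, D.blk (D.r (g * g') z) = D.blk (D.r (g' * g) z))
    {Z : Subgroup G} (ZV : Z ≤ V) (hc : ∀ z ∈ Z, ∀ s ∈ (S : Subgroup G), s * z = z * s) : Nat.card Z ≤ 2 := by
  obtain ⟨i⟩ := ‹Nonempty (Idx D AA)›
  have tr := D.tr_S h.SM irr gen (h.ab_of_corr ab)
  have hinj : Function.Injective fun z : Z => D.e (z : G) (xx i) := by
    intro z z' e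
    have e' : D.e (z : G) (xx i) = D.e (z' : G) (xx i) := e
    have h1 : (z : G) * (z' : G)⁻¹ = 1 := by
      refine h.eq_one_of_tr one tr i (mul_mem (ZV z.2) (inv_mem (ZV z'.2))) (fun s hs => ?_) ?_
      · have a1 := hc z z.2 s hs
        have a2 := hc z' z'.2 s hs
        have a3 : Commute s (z : G) := a1
        have a4 : Commute s (z' : G) := a2
        exact (a3.mul_right a4.inv_right).eq
      · rw [D.mul _ (ZV z.2) _ (inv_mem (ZV z'.2)), Pi.add_apply, D.map_inv (ZV z'.2), e']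
        exact add_self _
    exact Subtype.ext (mul_inv_eq_one.1 h1)
  calc Nat.card Z ≤ Nat.card (ZMod 2) := Nat.card_le_card_of_injective _ hinj
    _ = 2 := Nat.card_zmod 2

end Lv

end Cfsg.Agent.Omega.NOThreeL.RRed.BFr
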