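import Cfsg.Agent.Omega.EDel.BxW.OfLevW
import Cfsg.Agent.Omega.NOThreeL.RRed.BFr.Plug

/-!
# NO-3L, box R, `R₀ = 1`, `q = 2`: `lev S (n + 1)` moves all blocks

* **`false_lev`** : `V* ≤ Ω₁Z(lev S n)`, `lev S (n + 1)` moves all blocks, at least three pairs: contradiction (THEOREM U with
  weak UNI; no further input); the analogue of `false_neg` at stage `n`.
-/

set_option autoImplicit false
set_option linter.unusedSectionVars false

namespace Cfsg.Agent.Omega.NOThreeL.RRed.BFr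

open Subgroup Cfsg
open Cfsg.Agent.ZN (zc)
open Cfsg.Agent.Omega.NOThreeL.RTree (RB)
open Cfsg.Agent.Omega.NO3S.Level (lev)
open Cfsg.Agent.Omega.NOThreeL.RRed (Wd)
open Cfsg.Agent.Omega.NOThreeL.RRed.FourTree (Bks)

universe u

variable {G : Type u} [Group G] [Finite G] {S : Sylow 2 G} {I : Type u} [Fintype I] [DecidableEq I]
  {N E : I → Subgroup G} {Om : I → Type u} [∀ i, Fintype (Om i)] [∀ i, DecidableEq (Om i)]
  {phi : ∀ i, Finset (Om i) → G}

/-- **`lev S (n + 1)` moves all blocks: contradiction.** -/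
theorem false_lev (hML : ML.Final.MLK.{u, u}) (hE : ML.Ex.Two.Ext.{u, u}) (B : RB S) (hB : Bks S N E ⊥ Om phi) {n : ℕ}
    (hX : Wd (S : Subgroup G) ≤ zc (lev (S : Subgroup G) n))
    (hj : ∀ b, ¬ lev (S : Subgroup G) (n + 1) ≤ centralizer (N b : Set G))
    (hc : Fintype.card I + 5 ≤ ∑ i, Fintype.card (Om i)) : False := by
  obtain ⟨ι, i1, L, W, Z, C, A, i2, h1, h2, h3⟩ := exists_frL B hB hX hj
  exact EDel.BxW.false_levW hML hE B h3 h2 (three_of (by omega))

end Cfsg.Agent.Omega.NOThreeL.RRed.BFr
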