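import Mathlib

/-!
# NO-3L, box R: a sum of natural modules for odd symmetric groups, in coordinates

`Pts M V Pt I` : `V` is an elementary abelian 2-group normalised by `M`; `e` identifies `V` with the set of all functions
`Pt → F₂` with block sums 0 (the blocks are the fibres of `blk : Pt → I`, they are odd, `≥ 3`); `M` permutes the letters
and preserves the partition; every transposition of two letters of the same block is induced by `M`.

* `D.w f` : the element with coordinates `f + ` (block sum of `f`); `w_add`, `w_conj`, `w_e`;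
* `D.Ac g σ` : `g` acts as the permutation `σ` of the letters; `Ac.unique`, `D.r g`.
-/

set_option autoImplicit false
set_option linter.unusedSectionVars false

namespace Cfsg.Agent.Omega.NOThreeL.RRed.BFr

open Subgroup

universe u

variable {G : Type u} [Group G]

/-- Letters. -/
structure Pts (M V : Subgroup G) (Pt I : Type) [Fintype Pt] [DecidableEq Pt] [DecidableEq I] where
  blk : Pt → I
  e : G → Pt → ZMod 2
  mul : ∀ v ∈ V, ∀ u ∈ V, e (v * u) = e v + e u
  inj : ∀ v ∈ V, e v = 0 → v = 1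
  even : ∀ v ∈ V, ∀ x, ∑ y ∈ Finset.univ.filter (fun y => blk y = blk x), e v y = 0
  surj : ∀ f : Pt → ZMod 2, (∀ x, ∑ y ∈ Finset.univ.filter (fun y => blk y = blk x), f y = 0) → ∃ v ∈ V, e v = f
  odd : ∀ x, Odd (Finset.univ.filter (fun y => blk y = blk x)).card
  three : ∀ x, 3 ≤ (Finset.univ.filter (fun y => blk y = blk x)).card
  MV : ∀ g ∈ M, ∀ v ∈ V, g * v * g⁻¹ ∈ V
  perm : ∀ g ∈ M, ∃ σ : Equiv.Perm Pt, (∀ v ∈ V, ∀ x, e (g * v * g⁻¹) (σ x) = e v x) ∧
    ∀ x y, blk x = blk y → blk (σ x) = blk (σ y)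
  full : ∀ x y, x ≠ y → blk x = blk y → ∃ t ∈ M, ∀ v ∈ V, ∀ z, e (t * v * t⁻¹) (Equiv.swap x y z) = e v z

theorem add_self (a : ZMod 2) : a + a = 0 := CharTwo.add_self_eq_zero a

theorem neg_eq (a : ZMod 2) : -a = a := by
  have := add_self a
  exact (eq_neg_of_add_eq_zero_left this).symm

theorem apply_inv_self' {α : Type*} (σ : Equiv.Perm α) (x : α) : σ (σ⁻¹ x) = x := by simp

theorem inv_apply_self' {α : Type*} (σ : Equiv.Perm α) (x : α) : σ⁻¹ (σ x) = x := by simp

namespace Pts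

variable {M V : Subgroup G} {Pt I : Type} [Fintype Pt] [DecidableEq Pt] [DecidableEq I] (D : Pts M V Pt I)

include D

/-- block sum -/
def bs (f : Pt → ZMod 2) (x : Pt) : ZMod 2 := ∑ y ∈ Finset.univ.filter (fun y => D.blk y = D.blk x), f y

theorem bs_add (f g : Pt → ZMod 2) (x : Pt) : D.bs (f + g) x = D.bs f x + D.bs g x :=
  Finset.sum_add_distrib

theorem bs_congr {f : Pt → ZMod 2} {x y : Pt} (h : D.blk x = D.blk y) : D.bs f x = D.bs f y := by
  unfold bs; rw [h]

theorem card_blk (x : Pt) : ((Finset.univ.filter (fun y => D.blk y = D.blk x)).card : ZMod 2) = 1 := by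
  obtain ⟨k, hk⟩ := D.odd x
  rw [hk]
  push_cast
  rw [show (2 : ZMod 2) = 0 from rfl]; ring

theorem bs_const {f : Pt → ZMod 2} {x : Pt} {c : ZMod 2} (h : ∀ y, D.blk y = D.blk x → f y = c) : D.bs f x = c := by
  unfold bs
  rw [Finset.sum_congr rfl fun y hy => h y (Finset.mem_filter.1 hy).2, Finset.sum_const, nsmul_eq_mul, D.card_blk,
    one_mul]

theorem bs_bs (f : Pt → ZMod 2) (x : Pt) : D.bs (fun y => D.bs f y) x = D.bs f x :=
  D.bs_const fun _ hy => D.bs_congr hy

theorem map_one : D.e 1 = 0 := by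
  have := D.mul 1 (one_mem V) 1 (one_mem V)
  rw [one_mul] at this
  exact left_eq_add.1 this

theorem map_inv {v : G} (hv : v ∈ V) : D.e v⁻¹ = D.e v := by
  have := D.mul v hv v⁻¹ (inv_mem hv)
  rw [mul_inv_cancel, D.map_one] at this
  funext x
  have h1 := congrFun this x
  simp only [Pi.zero_apply, Pi.add_apply] at h1
  have h2 := neg_eq_of_add_eq_zero_right h1.symm
  rw [← h2, neg_eq]

theorem ext {v u : G} (hv : v ∈ V) (hu : u ∈ V) (h : D.e v = D.e u) : v = u := by
  have h1 : D.e (v * u⁻¹) = 0 := by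
    rw [D.mul v hv _ (inv_mem hu), D.map_inv hu, h]
    funext x
    exact add_self _
  exact mul_inv_eq_one.1 (D.inj _ (mul_mem hv (inv_mem hu)) h1)

theorem comm {v u : G} (hv : v ∈ V) (hu : u ∈ V) : v * u = u * v :=
  D.ext (mul_mem hv hu) (mul_mem hu hv) (by rw [D.mul v hv u hu, D.mul u hu v hv, add_comm])

theorem sq {v : G} (hv : v ∈ V) : v * v = 1 := by
  refine D.inj _ (mul_mem hv hv) ?_
  rw [D.mul v hv v hv]
  funext x
  exact add_self _

theorem exists_w (f : Pt → ZMod 2) : ∃ v ∈ V, D.e v = fun x => f x + D.bs f x := by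
  refine D.surj _ fun x => ?_
  have h1 := D.bs_add f (fun y => D.bs f y) x
  rw [D.bs_bs] at h1
  have : D.bs (fun x => f x + D.bs f x) x = 0 := by
    have e : (fun x => f x + D.bs f x) = f + (fun y => D.bs f y) := rfl
    rw [e, h1, add_self]
  exact this

/-- the element with coordinates `f + bs f` -/
noncomputable def w (f : Pt → ZMod 2) : G := (D.exists_w f).choose

theorem w_mem (f : Pt → ZMod 2) : D.w f ∈ V := (D.exists_w f).choose_spec.1

theorem e_w (f : Pt → ZMod 2) (x : Pt) : D.e (D.w f) x = f x + D.bs f x :=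
  congrFun (D.exists_w f).choose_spec.2 x

theorem w_add (f g : Pt → ZMod 2) : D.w (f + g) = D.w f * D.w g := by
  refine D.ext (D.w_mem _) (mul_mem (D.w_mem _) (D.w_mem _)) ?_
  rw [D.mul _ (D.w_mem _) _ (D.w_mem _)]
  funext x
  rw [D.e_w, Pi.add_apply, Pi.add_apply, D.e_w, D.e_w, D.bs_add]
  ring

theorem w_zero : D.w 0 = 1 := by
  refine D.ext (D.w_mem _) (one_mem _) ?_
  funext x
  rw [D.e_w, D.map_one, Pi.zero_apply, zero_add]
  exact Finset.sum_const_zero

theorem w_inv (f : Pt → ZMod 2) : (D.w f)⁻¹ = D.w f := by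
  have := D.sq (D.w_mem f)
  exact inv_eq_of_mul_eq_one_right this

theorem bs_e {v : G} (hv : v ∈ V) (x : Pt) : D.bs (D.e v) x = 0 := D.even v hv x

/-- if `f` has block sums 0, then `w f` has the coordinates `f` -/
theorem e_w_of {f : Pt → ZMod 2} (h : ∀ x, D.bs f x = 0) : D.e (D.w f) = f := by
  funext x
  rw [D.e_w, h x, add_zero]

theorem w_e {v : G} (hv : v ∈ V) : D.w (D.e v) = v :=
  D.ext (D.w_mem _) hv (D.e_w_of (D.bs_e hv))

/-- `g` acts as `σ` on the letters. -/
def Ac (g : G) (σ : Equiv.Perm Pt) : Prop := ∀ v ∈ V, ∀ x, D.e (g * v * g⁻¹) (σ x) = D.e v x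

theorem exists_third (x y : Pt) : ∃ z, D.blk z = D.blk x ∧ z ≠ x ∧ z ≠ y := by
  by_contra hcon
  push Not at hcon
  have h1 : (Finset.univ.filter (fun z => D.blk z = D.blk x)) ⊆ {x, y} := by
    intro z hz
    rw [Finset.mem_filter] at hz
    by_cases h : z = x
    · rw [h]; simp
    · rw [hcon z hz.2 h]; simp
  have h2 := Finset.card_le_card h1
  have h3 := D.three x
  have h4 : ({x, y} : Finset Pt).card ≤ 2 := Finset.card_le_two
  omega

/-- the pair `{x, y}` -/
noncomputable def pe (x y : Pt) : G := D.w (Pi.single x 1 + Pi.single y 1)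

theorem pe_mem (x y : Pt) : D.pe x y ∈ V := D.w_mem _

theorem bs_single (x z : Pt) : D.bs (Pi.single x 1) z = if D.blk x = D.blk z then 1 else 0 := by
  unfold bs
  rw [Finset.sum_filter]
  rw [Finset.sum_eq_single x]
  · simp
  · intro b _ hb
    rw [Pi.single_eq_of_ne hb]
    split_ifs <;> rfl
  · intro h; exact absurd (Finset.mem_univ _) h

theorem e_pe {x y : Pt} (h : D.blk x = D.blk y) : D.e (D.pe x y) = Pi.single x 1 + Pi.single y 1 := by
  refine D.e_w_of fun z => ?_
  rw [D.bs_add, D.bs_single, D.bs_single, h]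
  exact add_self _

theorem e_pe' {x y : Pt} (h : D.blk x = D.blk y) (z : Pt) :
    D.e (D.pe x y) z = (if z = x then 1 else 0) + (if z = y then 1 else 0) := by
  rw [D.e_pe h, Pi.add_apply, Pi.single_apply, Pi.single_apply]

theorem Ac.unique {g : G} {σ τ : Equiv.Perm Pt} (h1 : D.Ac g σ) (h2 : D.Ac g τ) : σ = τ := by
  -- both map the pair `{x, y}` to the support of the same vector
  have key : ∀ x y, D.blk x = D.blk y → x ≠ y → τ x = σ x ∨ τ x = σ y := by
    intro x y hxy hne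
    have a1 := h1 _ (D.pe_mem x y) (σ.symm (τ x))
    have a2 := h2 _ (D.pe_mem x y) x
    rw [Equiv.apply_symm_apply, a2, D.e_pe' hxy, D.e_pe' hxy] at a1
    rw [if_pos rfl, if_neg hne] at a1
    by_cases c1 : σ.symm (τ x) = x
    · left; exact (Equiv.symm_apply_eq σ).1 c1
    · by_cases c2 : σ.symm (τ x) = y
      · right; exact (Equiv.symm_apply_eq σ).1 c2
      · rw [if_neg c1, if_neg c2] at a1
        exact absurd a1 (by decide)
  ext1 x
  obtain ⟨y, hy, hyx, -⟩ := D.exists_third x x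
  obtain ⟨z, hz, hzx, hzy⟩ := D.exists_third x y
  rcases key x y hy.symm (Ne.symm hyx) with h | h
  · exact h.symm
  · rcases key x z hz.symm (Ne.symm hzx) with h' | h'
    · exact h'.symm
    · exact absurd (σ.injective (h.symm.trans h')) (Ne.symm hzy)

theorem Ac.one : D.Ac 1 1 := fun v _ x => by simp

theorem Ac.mul {g h : G} {σ τ : Equiv.Perm Pt} (hh : h ∈ M) (h1 : D.Ac g σ) (h2 : D.Ac h τ) : D.Ac (g * h) (σ * τ) := by
  intro v hv x
  have e1 : g * h * v * (g * h)⁻¹ = g * (h * v * h⁻¹) * g⁻¹ := by group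
  rw [e1, Equiv.Perm.mul_apply, h1 _ (D.MV h hh v hv), h2 v hv]

theorem Ac.inv {g : G} {σ : Equiv.Perm Pt} (hg : g ∈ M) (h1 : D.Ac g σ) : D.Ac g⁻¹ σ⁻¹ := by
  intro v hv x
  have h2 := h1 (g⁻¹ * v * g) (by simpa using D.MV g⁻¹ (inv_mem hg) v hv) (σ⁻¹ x)
  have e1 : g * (g⁻¹ * v * g) * g⁻¹ = v := by group
  rw [e1, apply_inv_self'] at h2
  rw [inv_inv, ← h2]

open Classical in
/-- the permutation of the letters induced by `g` -/
noncomputable def r (g : G) : Equiv.Perm Pt := if h : g ∈ M then (D.perm g h).choose else 1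

theorem r_spec {g : G} (hg : g ∈ M) : D.Ac g (D.r g) := by
  unfold r
  rw [dif_pos hg]
  exact (D.perm g hg).choose_spec.1

theorem r_blk {g : G} (hg : g ∈ M) {x y : Pt} (h : D.blk x = D.blk y) : D.blk (D.r g x) = D.blk (D.r g y) := by
  unfold r
  rw [dif_pos hg]
  exact (D.perm g hg).choose_spec.2 x y h

theorem r_eq {g : G} (hg : g ∈ M) {σ : Equiv.Perm Pt} (h : D.Ac g σ) : D.r g = σ :=
  (Ac.unique D (D.r_spec hg) h)

theorem r_one : D.r 1 = 1 := D.r_eq (one_mem _) (Ac.one D)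

theorem r_mul {g h : G} (hg : g ∈ M) (hh : h ∈ M) : D.r (g * h) = D.r g * D.r h :=
  D.r_eq (mul_mem hg hh) (Ac.mul D hh (D.r_spec hg) (D.r_spec hh))

theorem r_inv {g : G} (hg : g ∈ M) : D.r g⁻¹ = (D.r g)⁻¹ :=
  D.r_eq (inv_mem hg) (Ac.inv D hg (D.r_spec hg))

theorem r_blk_iff {g : G} (hg : g ∈ M) {x y : Pt} : D.blk (D.r g x) = D.blk (D.r g y) ↔ D.blk x = D.blk y := by
  refine ⟨fun h => ?_, D.r_blk hg⟩
  have h1 := D.r_blk (inv_mem hg) h
  rw [D.r_inv hg] at h1
  simpa using h1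

theorem e_conj {g : G} (hg : g ∈ M) {v : G} (hv : v ∈ V) (x : Pt) : D.e (g * v * g⁻¹) (D.r g x) = D.e v x :=
  D.r_spec hg v hv x

theorem e_conj' {g : G} (hg : g ∈ M) {v : G} (hv : v ∈ V) (x : Pt) :
    D.e (g * v * g⁻¹) x = D.e v ((D.r g)⁻¹ x) := by
  have := D.e_conj hg hv ((D.r g)⁻¹ x)
  rwa [apply_inv_self'] at this

/-- `g` centralises `v` iff the coordinates of `v` are `g`-invariant -/
theorem comm_iff {g : G} (hg : g ∈ M) {v : G} (hv : v ∈ V) : g * v = v * g ↔ ∀ x, D.e v (D.r g x) = D.e v x := by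
  constructor
  · intro h x
    have e1 : g * v * g⁻¹ = v := by rw [h]; group
    have := D.e_conj hg hv x
    rwa [e1] at this
  · intro h
    have e1 : g * v * g⁻¹ = v := by
      refine D.ext (D.MV g hg v hv) hv ?_
      funext x
      rw [D.e_conj' hg hv]
      have := h ((D.r g)⁻¹ x)
      rw [apply_inv_self'] at this
      exact this.symm
    calc g * v = (g * v * g⁻¹) * g := by group
      _ = v * g := by rw [e1]

theorem r_eq_one_iff {g : G} (hg : g ∈ M) : D.r g = 1 ↔ ∀ v ∈ V, g * v = v * g := by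
  constructor
  · intro h v hv
    rw [D.comm_iff hg hv]
    intro x; rw [h]; rfl
  · intro h
    refine D.r_eq hg fun v hv x => ?_
    have e1 : g * v * g⁻¹ = v := by rw [h v hv]; group
    rw [e1]; rfl

theorem conj_w {g : G} (hg : g ∈ M) (f : Pt → ZMod 2) : g * D.w f * g⁻¹ = D.w (fun x => f ((D.r g)⁻¹ x)) := by
  refine D.ext (D.MV g hg _ (D.w_mem _)) (D.w_mem _) ?_
  funext x
  rw [D.e_conj' hg (D.w_mem _), D.e_w, D.e_w]
  congr 1
  unfold bs
  refine Finset.sum_bij (fun y _ => D.r g y) ?_ ?_ ?_ ?_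
  · intro y hy
    rw [Finset.mem_filter] at hy ⊢
    refine ⟨Finset.mem_univ _, ?_⟩
    have h1 := D.r_blk hg hy.2
    rwa [apply_inv_self'] at h1
  · intro a _ b _ h; exact (D.r g).injective h
  · intro y hy
    rw [Finset.mem_filter] at hy
    refine ⟨(D.r g)⁻¹ y, ?_, by simp⟩
    rw [Finset.mem_filter]
    refine ⟨Finset.mem_univ _, ?_⟩
    have h1 := D.r_blk (inv_mem hg) hy.2
    rwa [D.r_inv hg] at h1
  · intro y _
    simp

/-- `w f` determines `f` up to functions constant on the blocks -/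
theorem w_eq_iff (f g : Pt → ZMod 2) : D.w f = D.w g ↔ ∀ x, f x + D.bs f x = g x + D.bs g x := by
  constructor
  · intro h x
    rw [← D.e_w, ← D.e_w, h]
  · intro h
    refine D.ext (D.w_mem _) (D.w_mem _) ?_
    funext x
    rw [D.e_w, D.e_w, h x]

/-- functions vanishing at some letter of every block are determined by `w` -/
theorem w_inj {f g : Pt → ZMod 2} (hf : ∀ x, ∃ y, D.blk y = D.blk x ∧ f y = 0 ∧ g y = 0) (h : D.w f = D.w g) : f = g := by
  rw [D.w_eq_iff] at h
  funext x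
  obtain ⟨y, hy, h1, h2⟩ := hf x
  have h3 := h y
  rw [h1, h2, zero_add, zero_add, D.bs_congr hy, D.bs_congr hy] at h3
  have h4 := h x
  rw [h3] at h4
  exact add_right_cancel h4

end Pts

end Cfsg.Agent.Omega.NOThreeL.RRed.BFr
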