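import Cfsg.Agent.Omega.NOThreeL.RRed.BFr.Cut
import Cfsg.Agent.Omega.NOThreeL.RRed.BFr.Frame
import Cfsg.Agent.Omega.NO3S.Level.Fam
import Cfsg.Agent.Omega.OM.SwapL.Frame
import Cfsg.Agent.Omega.OM.UOne
import Cfsg.Agent.Omega.OM.Lev.Low.GJ

/-!
# NO-3L, box R: the frame over `B`, stages `-1` and `n ≥ 0`

* `Bd S D` : `S ≤ M`, `V ≤ S`, `Ω₁(Z(S)) ≤ V`, `C_S(V)` normal in `M`;
* **`Bd.frL`** : stage `n`: `FrL (BL S n) Q V (Ω₁Z(lev S n)) (ZL S n) L W Z C A 2`;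
* **`Bd.fr`** : stage `-1`: `Uni.Fr (bau S) Q V (zj S) L W Z C A 2 (mm S)`;
* `card_idx` : the number of pairs.
-/

set_option autoImplicit false
set_option linter.unusedSectionVars false

namespace Cfsg.Agent.Omega.NOThreeL.RRed.BFr

open Subgroup Cfsg Cfsg.Agent.ZN.ChoiceBase
open Cfsg.Agent.ZN (jj zj bau zc)
open Cfsg.Agent.Omega.SQ1.Bau (mem_sup_comm card_sup_comm elem_comm elem_sq)
open Cfsg.Agent.PLocal.ThompsonJ (isElementaryAbelian_iff)
open Cfsg.Agent.Omega.FFThm (ElemM)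
open Cfsg.Agent.Omega.NO3S.OneLine (BFam bo bo_fam)
open Cfsg.Agent.Omega.NO3S.Level (lev Lev lev_isLev nxt BO)
open Cfsg.Agent.Omega.OM.SwapL (BL ZL)
open Cfsg.Agent.Omega.OM.Lev.Uni (FrL)

universe u

variable {G : Type u} [Group G]

/-- The data common to all stages. -/
structure Bd (S : Sylow 2 G) {M V : Subgroup G} {Pt I : Type} [Fintype Pt] [DecidableEq Pt] [DecidableEq I]
    (_ : Pts M V Pt I) : Prop where
  SM : (S : Subgroup G) ≤ M
  VS : V ≤ (S : Subgroup G)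
  ZV : zc (S : Subgroup G) ≤ V
  MQ : ∀ g ∈ M, ∀ x ∈ (S : Subgroup G) ⊓ centralizer (V : Set G), g * x * g⁻¹ ∈ (S : Subgroup G)

/-- `K` moves a letter of every block. -/
def Mvb {M V : Subgroup G} {Pt I : Type} [Fintype Pt] [DecidableEq Pt] [DecidableEq I]
    (D : Pts M V Pt I) (K : Subgroup G) : Prop :=
  ∀ x, ∃ y, D.blk y = D.blk x ∧ ∃ a ∈ K, D.r a y ≠ y

variable {S : Sylow 2 G} {M V : Subgroup G} {Pt I : Type} [Fintype Pt] [DecidableEq Pt] [DecidableEq I]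
  {D : Pts M V Pt I}

theorem V_elem (D : Pts M V Pt I) : IsElementaryAbelian 2 V :=
  isElementaryAbelian_iff.2 ⟨fun x hx y hy => D.comm hx hy, fun x hx => by rw [pow_two]; exact D.sq hx⟩

theorem zc_elem (K : Subgroup G) : IsElementaryAbelian 2 (zc K) :=
  isElementaryAbelian_iff.2 ⟨fun _ hx _ hy => (mem_zc.1 hy).2.2 _ (mem_zc.1 hx).1, fun _ hx => (mem_zc.1 hx).2.1⟩

/-- if `⟨AA⟩ C` moves a letter of the block, and `C` centralises `V`, then a member of `AA` does -/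
theorem mv_of {K C : Subgroup G} {AA : Set (Subgroup G)} (hAM : sSup AA ≤ M) (hCM : C ≤ M)
    (hC : C ≤ centralizer (V : Set G)) (hK : K ≤ C ⊔ sSup AA) (hm : Mvb D K) (x : Pt) :
    ∃ y, D.blk y = D.blk x ∧ ∃ A ∈ AA, ∃ a ∈ A, D.r a y ≠ y := by
  by_contra hcon
  push Not at hcon
  let N : Subgroup G :=
    { carrier := {a | a ∈ M ∧ ∀ y, D.blk y = D.blk x → D.r a y = y}
      mul_mem' := by
        rintro a b ⟨ha, ha'⟩ ⟨hb, hb'⟩
        exact ⟨mul_mem ha hb, fun y hy => by rw [D.r_mul ha hb, Equiv.Perm.mul_apply, hb' y hy, ha' y hy]⟩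
      one_mem' := ⟨one_mem _, fun y _ => by rw [D.r_one]; rfl⟩
      inv_mem' := by
        rintro a ⟨ha, ha'⟩
        exact ⟨inv_mem ha, fun y hy => by rw [D.r_inv ha, Equiv.Perm.inv_eq_iff_eq]; exact (ha' y hy).symm⟩ }
  have h1 : K ≤ N := by
    refine hK.trans (sup_le (fun c hc => ⟨hCM hc, fun y _ => ?_⟩) (sSup_le fun A hA a ha =>
      ⟨hAM ((le_sSup hA) ha), fun y hy => hcon y hy A hA a ha⟩))
    have h2 : D.r c = 1 := (D.r_eq_one_iff (hCM hc)).2 fun v hv => (mem_centralizer_iff.1 (hC hc) v hv).symm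
    rw [h2]; rfl
  obtain ⟨y, hy, a, ha, hay⟩ := hm x
  exact hay ((h1 ha).2 y hy)

namespace Bd

variable (h : Bd S D)
include h

theorem V_le_Q : V ≤ (S : Subgroup G) ⊓ centralizer (V : Set G) := fun v hv =>
  ⟨h.VS hv, mem_centralizer_iff.2 fun u hu => D.comm hu hv⟩

theorem M_norm : M ≤ normalizer (((S : Subgroup G) ⊓ centralizer (V : Set G) : Subgroup G) : Set G) := by
  have key : ∀ m ∈ M, ∀ x ∈ (S : Subgroup G) ⊓ centralizer (V : Set G),
      m * x * m⁻¹ ∈ (S : Subgroup G) ⊓ centralizer (V : Set G) := by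
    intro g hg x hx
    refine ⟨h.MQ g hg x hx, mem_centralizer_iff.2 fun v hv => ?_⟩
    have h1 := D.MV g⁻¹ (inv_mem hg) v hv
    rw [inv_inv] at h1
    have h2 := mem_centralizer_iff.1 hx.2 _ h1
    calc v * (g * x * g⁻¹) = g * ((g⁻¹ * v * g) * x) * g⁻¹ := by group
      _ = g * x * g⁻¹ * v := by rw [h2]; group
  intro m hm
  rw [mem_normalizer_iff]
  intro x
  refine ⟨fun hx => key m hm x hx, fun hx => ?_⟩
  have h1 := key _ (inv_mem hm) _ hx
  have e : m⁻¹ * (m * x * m⁻¹) * m⁻¹⁻¹ = x := by group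
  rwa [e] at h1

variable [Finite G]

section level

variable {n : ℕ} (VX : V ≤ zc (lev (S : Subgroup G) n)) (MK : M ≤ normalizer (lev (S : Subgroup G) n : Set G))
  (mv : Mvb D (lev (S : Subgroup G) (n + 1)))
include VX MK mv

/-- stage `n` -/
theorem lv : Lv S D (zc (lev (S : Subgroup G) n)) (normalizer (zc (lev (S : Subgroup G) n) : Set G))
    (lev (S : Subgroup G) (n + 1)) (bo (S : Subgroup G) (zc (lev (S : Subgroup G) n))) where
  SM := h.SM
  ML := MK.trans (NO3S.Level.normalizer_le_zc _)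
  fam := bo_fam _ _
  elX := zc_elem _
  VX := VX
  VS := h.VS
  MX g hg x hx := (mem_normalizer_iff.1 (NO3S.Level.normalizer_le_zc _ (MK hg)) x).1 hx
  MQ := h.MQ
  AJ A hA := NO3S.Level.BO.le_nxt (by rw [NO3S.OneLine.bo_eq]; exact hA)
  JS := NO3S.Level.lev_le _ _
  Jg := by
    show nxt _ _ ≤ _
    rw [nxt, NO3S.OneLine.bo_eq]
    exact sup_le ((inf_le_inf_left _ (centralizer_le VX)).trans le_sup_right) le_sup_left
  mv := by
    refine mv_of (K := lev (S : Subgroup G) (n + 1)) (C := (S : Subgroup G) ⊓ centralizer (zc (lev (S : Subgroup G) n) : Set G))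
      ?_ (inf_le_left.trans h.SM) (inf_le_right.trans (centralizer_le VX)) ?_ mv
    · exact (sSup_le fun A hA => hA.1).trans h.SM
    · show nxt _ _ ≤ _
      rw [nxt, NO3S.OneLine.bo_eq]

theorem zcQ_lev : zc ((S : Subgroup G) ⊓ centralizer (V : Set G)) ≤ V := by
  refine (h.lv VX MK mv).zcQ h.ZV fun x hx => ?_
  have hx' := mem_zc.1 hx
  refine (lev_isLev (S : Subgroup G) n).mem_of_comm hx'.1.1 hx'.2.1 fun y hy => hx'.2.2 y ?_
  exact ⟨NO3S.Level.lev_le _ n hy, mem_centralizer_iff.2 fun v hv => ((mem_zc.1 (VX hv)).2.2 y hy).symm⟩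

theorem ZJ_lev : ZJ V (lev (S : Subgroup G) (n + 1)) = ZL (S : Subgroup G) n := by
  apply le_antisymm
  · rintro v ⟨hv, hc⟩
    refine mem_zc.2 ⟨NO3S.Level.lev_le_succ _ _ (mem_zc.1 (VX hv)).1, by rw [pow_two]; exact D.sq hv, fun y hy => ?_⟩
    exact mem_centralizer_iff.1 hc y hy
  · have h1 : zc (lev (S : Subgroup G) (n + 1)) ≤ V := by
      refine (h.lv VX MK mv).le_of_cent ?_ h.ZV ?_ (fun w hw j hj => (mem_zc.1 hw).2.2 j hj) fun s hs w hw => ?_
      · exact fun x hx => NO3S.Level.lev_le _ n (mem_zc.1 hx).1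
      · exact (lev_isLev (S : Subgroup G) n).zc_le_zc (NO3S.Level.lev_le_succ _ n) (NO3S.Level.lev_le _ _)
      · refine (mem_normalizer_iff.1 (NO3S.Level.normalizer_le_zc _
          ((lev_isLev (S : Subgroup G) (n + 1)).norm (S : Subgroup G) (NO3S.Level.lev_le _ _) le_rfl
            (le_normalizer hs))) w).1 hw
    exact fun w hw => ⟨h1 hw, mem_centralizer_iff.2 fun j hj => (mem_zc.1 hw).2.2 j hj⟩

/-- **THE FRAME OVER `B`, stage `n`.** -/
theorem frL : ∃ L W Z C A : Idx D (bo (S : Subgroup G) (zc (lev (S : Subgroup G) n))) → Subgroup G,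
    (∀ i, L i ≤ M) ∧ FrL (BL (S : Subgroup G) n) ((S : Subgroup G) ⊓ centralizer (V : Set G)) V
      (zc (lev (S : Subgroup G) n)) (ZL (S : Subgroup G) n) L W Z C A 2 := by
  have hz : Lv.ZcQ (S : Subgroup G) V := fun x h1 h2 h3 =>
    h.zcQ_lev VX MK mv (mem_zc.2 ⟨h1, h2, fun y hy => (h3 y hy).symm⟩)
  obtain ⟨L, A, h1, -, -, h2⟩ := (h.lv VX MK mv).exists_frL hz
  rw [BB, h.ZJ_lev VX MK mv] at h2
  exact ⟨L, _, _, _, A, fun i => (h1 i).trans ((h.lv VX MK mv).XX_le_M i), h2⟩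

end level

section neg

variable (mv : Mvb D (jj (S : Subgroup G)))
include mv

omit h mv in
theorem bfam_AA {U : Subgroup G} (L : Subgroup G) (hU : IsElementaryAbelian 2 U) (hUS : U ≤ (S : Subgroup G)) :
    BFam (S : Subgroup G) U L (AA (S : Subgroup G)) := by
  have h1 := NO3S.Level.bfam_AA (L := L) hU hUS
  exact ⟨h1.le, h1.elem, h1.best, h1.cut, h1.conj⟩

omit mv in
theorem le_zjQ {x : G} (hx : x ∈ zc ((S : Subgroup G) ⊓ centralizer (V : Set G))) :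
    x ∈ zc (jj ((S : Subgroup G) ⊓ centralizer (V : Set G))) := by
  have h1 := mem_zc.1 hx
  have h2 : ∀ y ∈ jj ((S : Subgroup G) ⊓ centralizer (V : Set G)), y * x = x * y := fun y hy =>
    h1.2.2 y (jj_le _ hy)
  exact mem_zc.2 ⟨mem_jj_of_comm h1.1 h1.2.1 h2, h1.2.1, h2⟩

omit mv in
theorem V_le_X : V ≤ zc (jj ((S : Subgroup G) ⊓ centralizer (V : Set G))) := fun v hv =>
  h.le_zjQ (mem_zc.2 ⟨h.V_le_Q hv, by rw [pow_two]; exact D.sq hv, fun y hy =>
    (mem_centralizer_iff.1 hy.2 v hv).symm⟩)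

/-- stage `-1` -/
theorem lv_neg : Lv S D (zc (jj ((S : Subgroup G) ⊓ centralizer (V : Set G)))) ⊤ (jj (S : Subgroup G))
    (AA (S : Subgroup G)) where
  SM := h.SM
  ML := le_top
  fam := bfam_AA _ (zc_elem _) fun x hx => (jj_le _ (mem_zc.1 hx).1).1
  elX := zc_elem _
  VX := h.V_le_X
  VS := h.VS
  MX g hg x hx := (mem_normalizer_iff.1 (NO3S.Level.normalizer_le_zc _ (normalizer_le_jj _ (h.M_norm hg))) x).1 hx
  MQ := h.MQ
  AJ A hA := le_jj hA
  JS := jj_le _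
  Jg := by
    rw [Cfsg.Agent.ZN.ChoiceBase.jj_eq]
    exact le_sup_left
  mv := by
    refine mv_of (K := jj (S : Subgroup G)) (C := ⊥) ((sSup_le fun A hA => hA.2.1).trans h.SM) bot_le bot_le ?_ mv
    rw [Cfsg.Agent.ZN.ChoiceBase.jj_eq]
    exact le_sup_right

theorem zcQ_neg : zc ((S : Subgroup G) ⊓ centralizer (V : Set G)) ≤ V :=
  (h.lv_neg mv).zcQ h.ZV fun _ hx => h.le_zjQ hx

/-- some member of `A(S)` centralises `V` -/
theorem exists_AQ (x : Pt) : ∃ B ∈ AA (S : Subgroup G), B ≤ (S : Subgroup G) ⊓ centralizer (V : Set G) := by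
  have hl := h.lv_neg mv
  obtain ⟨y, hy, A, hA, a, ha, hay⟩ := hl.mv x
  obtain ⟨A', hA', ⟨a', ha', ea'⟩, hall⟩ := hl.exists_member hA ha rfl hay.symm
  have hc := hl.cut_card hA' (Ne.symm hay) ha' ea' hall
  have hf := bfam_AA (S := S) ⊤ (V_elem D) h.VS
  have h1 : A' ⊓ centralizer (V : Set G) ≤ A' := inf_le_left
  have h2 := hf.best A' hA' _ le_rfl h1
  have h3 : V ⊓ centralizer ((A' ⊓ centralizer (V : Set G) : Subgroup G) : Set G) = V :=
    inf_eq_left.2 fun v hv => mem_centralizer_iff.2 fun c hc => (mem_centralizer_iff.1 hc.2 v hv).symm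
  rw [h3] at h2
  obtain ⟨B, hB, hBe⟩ := hf.cut A' hA' _ le_rfl h1 (by rw [h3]; exact le_antisymm h2 hc)
  refine ⟨B, hB, le_inf hB.2.1 ((le_sup_left.trans hBe.le).trans (sup_le inf_le_right le_rfl))⟩

theorem ZJ_neg [Nonempty Pt] : ZJ V (jj (S : Subgroup G)) = zj (S : Subgroup G) := by
  apply le_antisymm
  · rintro v ⟨hv, hc⟩
    have h1 : ∀ y ∈ jj (S : Subgroup G), y * v = v * y := fun y hy => mem_centralizer_iff.1 hc y hy
    have h2 : v ^ 2 = 1 := by rw [pow_two]; exact D.sq hv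
    exact mem_zj.2 ⟨mem_jj_of_comm (h.VS hv) h2 h1, h2, h1⟩
  · obtain ⟨B, hB, hBQ⟩ := h.exists_AQ mv (Classical.arbitrary Pt)
    have hAQ : AA ((S : Subgroup G) ⊓ centralizer (V : Set G)) ⊆ AA (S : Subgroup G) := fun A hA =>
      ⟨hA.1, hA.2.1.trans inf_le_left, fun E hE hES => (hB.2.2 E hE hES).trans (hA.2.2 B hB.1 hBQ)⟩
    have hBA : B ∈ AA ((S : Subgroup G) ⊓ centralizer (V : Set G)) :=
      ⟨hB.1, hBQ, fun E hE hEQ => hB.2.2 E hE (hEQ.trans inf_le_left)⟩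
    have hjj : jj ((S : Subgroup G) ⊓ centralizer (V : Set G)) ≤ jj (S : Subgroup G) := by
      rw [Cfsg.Agent.ZN.ChoiceBase.jj_eq, Cfsg.Agent.ZN.ChoiceBase.jj_eq]
      exact sSup_le fun A hA => le_sSup (hAQ hA)
    have h1 : zj (S : Subgroup G) ≤ V := by
      refine (h.lv_neg mv).le_of_cent (fun x hx => (jj_le _ (mem_zc.1 hx).1).1) h.ZV (fun w hw => ?_)
        (fun w hw j hj => (mem_zj.1 hw).2.2 j hj) fun s hs w hw => ?_
      · have hw' := mem_zj.1 hw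
        have h2 : w ∈ B := OM.Lev.Low.mem_of_AA hB (jj_le _ hw'.1) hw'.2.1 fun y hy => hw'.2.2 y (le_jj hB hy)
        exact mem_zc.2 ⟨le_jj hBA h2, hw'.2.1, fun y hy => hw'.2.2 y (hjj hy)⟩
      · have h2 := normalizer_le_of_cj (F := zj) zj_cj (S : Subgroup G) (le_normalizer hs)
        exact (mem_normalizer_iff.1 h2 w).1 hw
    exact fun w hw => ⟨h1 hw, mem_centralizer_iff.2 fun j hj => (mem_zj.1 hw).2.2 j hj⟩

/-- **THE FRAME OVER `B`, stage `-1`.** -/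
theorem fr [Nonempty Pt] : ∃ L W Z C A : Idx D (AA (S : Subgroup G)) → Subgroup G,
    (∀ i, L i ≤ M) ∧ OM.Uni.Fr (bau (S : Subgroup G)) ((S : Subgroup G) ⊓ centralizer (V : Set G)) V
      (zj (S : Subgroup G)) L W Z C A 2 (mm (S : Subgroup G)) := by
  have hz : Lv.ZcQ (S : Subgroup G) V := fun x h1 h2 h3 =>
    h.zcQ_neg mv (mem_zc.2 ⟨h1, h2, fun y hy => (h3 y hy).symm⟩)
  obtain ⟨L, A, h1, hA, -, h2⟩ := (h.lv_neg mv).exists_frL hz
  rw [BB, h.ZJ_neg mv] at h2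
  refine ⟨L, (h.lv_neg mv).W, fun i => zpowers (D.pe (xx i) (yy i)), fun i => Lv.C D i, A, fun i =>
    (h1 i).trans ((h.lv_neg mv).XX_le_M i), ?_⟩
  exact
    { max := OM.Uni.mx_sylow S
      blk := h2.blk
      cardZ := h2.cardZ
      QB := h2.QB
      VQ := h2.VQ
      el := V_elem D
      mem_Q := h2.mem_Q
      zcQ := h2.zcQ
      mem_ZJ := h2.mem_ZJ
      LV := h2.LV
      LQ := h2.LQ
      WV := h2.WV
      CV := h2.CV
      WC := h2.WC
      dir := h2.dir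
      C0 := h2.C0
      WjC := h2.WjC
      BC := h2.BC
      LC := h2.LC
      AB := h2.AB
      Ael := fun i => (hA i).1
      Am := fun i => (mm_eq (hA i)).symm
      Ane := h2.Ane
      AC := h2.AC }

end neg

end Bd

end Cfsg.Agent.Omega.NOThreeL.RRed.BFr
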